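import Cfsg.Agent.TH.Ex.Ab.Defs_m3
import Cfsg.Agent.N2.Cl.Ten.Main_m3
import Cfsg.Agent.N2.G2.Why_m3
import Cfsg.Agent.SB.C2.Main
import Cfsg.Agent.N2.Cl.FrSp.Num_m3
import Cfsg.Agent.N2.Cl.SzG.Main_m3
import Cfsg.Agent.H875.KB.Gen
import Cfsg.Agent.N2.C1.L_mg_m3
import Cfsg.Agent.Lib.MatDec
import Cfsg.Agent.N2.Cl.RAlt.Tri_m3
import Cfsg.Agent.FastGrp
import Cfsg.Agent.Prune
set_option linter.all false

section
prune_inst 0x7ffca9f9abb829dfdfff7e77a698cdfc39901fffa6dff94bbfe021ff0b9f030009c123ad09e000fc0ee6601400a87803fb7eefffe26bd87ffffd1ff41ffbee4fe5f7b508519488340fbc0ff603f0778e7f3fffffffffffffffffffffffffffbeffbfffffffff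

-- part: N2/Cl/Ext/Main
section
prune_inst 0x14004001862020000008586112000200c0004900000000080a0024402010000488000000d802000002800010001000000000080404000000400000000010000000010040000000002000e000080000000000000000000000000000000000004000000000
set_option linter.all false
open scoped Cfsg.Agent.FastGrp

-- part: N2/Cl/Ext/Base
section
/-!
# N2 (S3519), class `pExt`: the context, hyperbolic pairs, the order of the normaliser (helper22)

The lemmas `exists_inv`, `root`, `split` are the ones of `TH/Cl/Ext` for the context of `N2C`.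
-/

set_option autoImplicit false
set_option linter.unusedSectionVars false

namespace Cfsg.Agent.N2C.Ext

open Cfsg.Agent.DS.Cl Cfsg.Agent.DS.Cl.Fwd Cfsg.Agent.SB.Cl Cfsg.Agent.TH.Cl.Ext

section groups

variable {Γ : Type*} [Group Γ] [Finite Γ]

/-- the elements of `X` commuting with `ν` -/
abbrev cz (X : Subgroup Γ) (ν : Γ) : Subgroup Γ := X ⊓ Subgroup.centralizer {ν}

omit [Finite Γ] in
theorem mem_cz {X : Subgroup Γ} {ν γ : Γ} : γ ∈ cz X ν ↔ γ ∈ X ∧ γ * ν = ν * γ := by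
  rw [Subgroup.mem_inf, Subgroup.mem_centralizer_singleton_iff]

theorem card_le_of_conj (X : Subgroup Γ) (ν : Γ) (T : Set Γ) (h : ∀ γ ∈ X, γ * ν * γ⁻¹ ∈ T) :
    Nat.card X ≤ T.ncard * Nat.card (cz X ν) := by
  rw [← ((cz X ν).subgroupOf X).index_mul_card, TH.In.card_sub inf_le_left, ← Nat.card_coe_set_eq]
  refine Nat.mul_le_mul_right _ (Nat.card_le_card_of_injective
    (fun q : X ⧸ (cz X ν).subgroupOf X => (⟨_, h _ q.out.2⟩ : T)) fun q q' e => ?_)
  have h1 : (q.out : Γ) * ν * (q.out : Γ)⁻¹ = q'.out * ν * (q'.out : Γ)⁻¹ := congrArg Subtype.val e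
  rw [← q.out_eq', ← q'.out_eq', QuotientGroup.eq, Subgroup.mem_subgroupOf, mem_cz]
  refine ⟨Subtype.property _, ?_⟩
  push_cast
  calc (q.out : Γ)⁻¹ * q'.out * ν = (q.out : Γ)⁻¹ * (q'.out * ν * (q'.out : Γ)⁻¹) * q'.out := by group
    _ = _ := by rw [← h1]; group

theorem card_mul_le_of_disj {C W K : Subgroup Γ} (h1 : C ≤ K) (h2 : W ≤ K) (h : ∀ ν ∈ W, ν ∈ C → ν = 1) :
    Nat.card C * Nat.card W ≤ Nat.card K := by
  rw [← Nat.card_prod]
  refine Nat.card_le_card_of_injective (fun q : C × W => (⟨q.1 * q.2, K.mul_mem (h1 q.1.2) (h2 q.2.2)⟩ : K))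
    fun q q' e => ?_
  have h3 : (q.1 : Γ) * q.2 = q'.1 * q'.2 := congrArg Subtype.val e
  have h4 : (q'.2 : Γ) * (q.2 : Γ)⁻¹ = 1 := h _ (W.mul_mem q'.2.2 (W.inv_mem q.2.2)) (by
    rw [show (q'.2 : Γ) * (q.2 : Γ)⁻¹ = (q'.1 : Γ)⁻¹ * q.1 by
      rw [mul_inv_eq_iff_eq_mul, mul_assoc, h3, inv_mul_cancel_left]]
    exact C.mul_mem (C.inv_mem q'.1.2) q.1.2)
  rw [mul_inv_eq_one] at h4
  rw [h4] at h3
  exact Prod.ext (Subtype.ext (mul_right_cancel h3)) (Subtype.ext h4.symm)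

omit [Finite Γ] in
theorem mem_comm_iff {P : Subgroup Γ} {x : Γ} (hx : x ∈ P) :
    x ∈ (⁅P, P⁆ : Subgroup Γ) ↔ Abelianization.of (⟨x, hx⟩ : P) = 1 := by
  rw [← MonoidHom.mem_ker, Abelianization.ker_of, ← P.map_subtype_commutator]
  exact ⟨fun ⟨y, hy, e⟩ => (show y = ⟨x, hx⟩ from Subtype.ext e) ▸ hy, fun h => ⟨_, h, rfl⟩⟩

omit [Finite Γ] in
theorem mul_pow_mem {P : Subgroup Γ} {x y : Γ} (hx : x ∈ P) (hy : y ∈ P) {m : ℕ} (h1 : x ^ m ∈ (⁅P, P⁆ : Subgroup Γ))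
    (h2 : y ^ m ∈ (⁅P, P⁆ : Subgroup Γ)) : (x * y) ^ m ∈ (⁅P, P⁆ : Subgroup Γ) := by
  rw [mem_comm_iff (P.pow_mem hx m)] at h1
  rw [mem_comm_iff (P.pow_mem hy m)] at h2
  rw [mem_comm_iff (P.pow_mem (P.mul_mem hx hy) m)]
  change Abelianization.of ((⟨x, hx⟩ : P) ^ m) = 1 at h1
  change Abelianization.of ((⟨y, hy⟩ : P) ^ m) = 1 at h2
  change Abelianization.of (((⟨x, hx⟩ : P) * ⟨y, hy⟩) ^ m) = 1
  rw [map_pow] at h1 h2
  rw [map_pow, map_mul, mul_pow, h1, h2, mul_one]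

omit [Finite Γ] in
theorem mem_of_coprime {S : Subgroup Γ} {x : Γ} {a b : ℕ} (h : a.Coprime b) (h1 : x ^ a ∈ S) (h2 : x ^ b ∈ S) : x ∈ S := by
  obtain ⟨i, j, e⟩ := Nat.isCoprime_iff_coprime.2 h
  rw [← zpow_one x, ← e, zpow_add, mul_comm i, mul_comm j, zpow_mul, zpow_mul, zpow_natCast, zpow_natCast]
  exact S.mul_mem (S.zpow_mem h1 _) (S.zpow_mem h2 _)

end groups

variable {A : Type} [Ring A] [StarRing A] [Finite A]

/-- the automorphisms fixing a ring element -/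
abbrev St (u : A) : Subgroup (RingAut A) := MulAction.stabilizer (RingAut A) u

theorem ad_mem_St {v u : A} (hv : Un v) : ad v ∈ St u ↔ v * u = u * v := ad_fix hv

/-- the orthogonal complement of a pair -/
def pp (M : Subgroup (RingAut A)) (x y : A) : Subgroup (RingAut A) := M ⊓ St x ⊓ St y

theorem pp_le {M : Subgroup (RingAut A)} {x y : A} : pp M x y ≤ M := inf_le_left.trans inf_le_left

theorem lf_pp {M : Subgroup (RingAut A)} {x y u : A} : Lf (pp M x y) u ↔ Lf M u ∧ u * x = x * u ∧ u * y = y * u :=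
  ⟨fun h => ⟨⟨h.1, h.2.1.1⟩, (ad_mem_St h.1).1 h.2.1.2, (ad_mem_St h.1).1 h.2.2⟩,
    fun h => ⟨h.1.1, ⟨h.1.2, (ad_mem_St h.1.1).2 h.2.1⟩, (ad_mem_St h.1.1).2 h.2.2⟩⟩

theorem lf_mono {M N : Subgroup (RingAut A)} (h : M ≤ N) {u : A} (hu : Lf M u) : Lf N u := ⟨hu.1, h hu.2⟩

/-- non-degenerate subgroups -/
structure Nd (N M : Subgroup (RingAut A)) : Prop where
  le : M ≤ N
  nd : ∀ u, Lf M u → u ∉ Subring.center A → ∃ v, Lf M v ∧ v * u ≠ u * v

/-- an automorphism commuting with `ad x` preserves the commutators with `x` -/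
theorem conj_apply {γ ν : RingAut A} (h1 : γ ∈ SAut A) (h2 : γ ∈ Lin A) (h3 : ν ∈ Lin A) {x κ : A} (hx : Un x)
    (h : γ * ad x = ad x * γ) (hκ : κ ∈ Subring.center A) (e : ν x = κ * x) : (γ * ν * γ⁻¹) x = ν x := by
  have h4 : ad (γ⁻¹ x) = ad x := by rw [← conj_ad γ⁻¹ hx, inv_inv, mul_assoc, ← h, inv_mul_cancel_left]
  obtain ⟨c, hc, -, h5⟩ := (ad_eq_iff (hx.map ((SAut A).inv_mem h1)) hx).1 h4
  rw [ra_mul, ra_mul, h5, map_mul, h3 c hc, e, ← mul_assoc, cen_comm hκ, mul_assoc, ← h5, map_mul, h2 κ hκ, ra_apply_inv]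

/-- the context -/
structure XC (F : FR A) (H N : Subgroup (RingAut A)) (p r : ℕ) : Prop where
  c : Ctx F H p
  σ : Sit F N r
  le : N ≤ H
  min : Main.MinN H N

theorem exists_xc {F : FR A} {H : Subgroup (RingAut A)} {p : ℕ} (c : Ctx F H p) (h : TH.Cl.ExD F H) :
    ∃ N r, XC F H N p r := by
  obtain ⟨-, N, h1, h2, h4, h5⟩ := h
  obtain ⟨r, hr, he⟩ := DS.Cl.Ext.exists_exp h2.ne h4 h2.nrm h2.min
  exact ⟨N, r, c, ⟨c.ss, h1.trans inf_le_right, h2.ne, h4, hr, he, h5⟩, h1.trans inf_le_left, h2⟩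

namespace XC

variable {F : FR A} {H N : Subgroup (RingAut A)} {p r : ℕ} (E : XC F H N p r)
include E

theorem exists_inv {s : ℕ} (hs : s.Prime) (h : s ≠ p) : ∃ ρ ∈ Subring.center A, ρ * s = 1 := by
  obtain ⟨a, b, e⟩ := Nat.isCoprime_iff_coprime.2 ((Nat.coprime_primes hs E.c.prime).2 h)
  have h1 := congrArg (Int.cast : ℤ → A) e
  push_cast at h1
  rw [E.c.char, mul_zero, add_zero] at h1
  exact ⟨a, intCast_mem _ a, h1⟩

theorem ne_p : r ≠ p := fun h => E.σ.ne (Par.eq_bot_of_isPGroup E.c (le_inf E.le E.σ.le)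
  (fun a ha => E.min.nrm a ha.1) (h ▸ E.σ.isPGroup))

theorem exists_rho : ∃ ρ ∈ Subring.center A, ρ * r = 1 := E.exists_inv E.σ.prime E.ne_p

theorem mem_H {x : A} (h : ad x ∈ F.S) (hn : ∀ ν ∈ N, ad x * ν * (ad x)⁻¹ ∈ N) : ad x ∈ H := by
  have := Cyc.finAut (A := A)
  exact E.c.mem_of_norm (le_inf E.le E.σ.le) E.σ.ne E.min.nrm h (Subgroup.mem_normalizer_fintype hn)

open DS.Cl.Ext in
theorem root : (∀ u, Lf N u → ∃ c ∈ Subring.center A, Un c ∧ (c * u) ^ r = 1) ∨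
    (r = 2 ∧ ¬ 4 ∣ Nat.card (Uh F N)) := by
  refine or_iff_not_imp_right.2 fun hQ => ?_
  have : Finite (Nh F N) := Finite.of_injective (fun u : Nh F N => ((u : Aˣ) : A))
    (Units.val_injective.comp Subtype.val_injective)
  obtain ⟨f, hf⟩ := exists_res E.c.le E.min.nrm
  have hcj : ∀ (γ : RingAut A) (u v : Nh F N), γ (u : Aˣ) = (v : Aˣ) → γ * DS.Cl.cj A u * γ⁻¹ = DS.Cl.cj A v := by
    intro γ u v huv
    rw [DS.Cl.Ext.conj_cj]
    exact congrArg (DS.Cl.cj A) (Units.ext huv)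
  obtain ⟨K, hK, hKU⟩ := E.σ.sty.exists_powSub hQ
  rcases E.min.min (K.map ((DS.Cl.cj A).comp (Nh F N).subtype)) (by rintro _ ⟨u, -, rfl⟩; exact u.2.1) (by
    rintro γ hγ _ ⟨u, hu, rfl⟩
    refine ⟨f ⟨γ, hγ⟩ u, ?_, (hcj γ u _ (hf ⟨γ, hγ⟩ u).symm).symm⟩
    obtain ⟨c, hc, e⟩ := (hK u).1 hu
    refine (hK _).2 ⟨f ⟨γ, hγ⟩ c, ?_, by rw [← map_pow, e, map_pow]⟩
    rw [mem_Uh, hf]
    exact map_cen γ hc) with h1 | h1
  · refine absurd (fun u hu => ?_) hKU
    have h2 : DS.Cl.cj A u ∈ K.map ((DS.Cl.cj A).comp (Nh F N).subtype) := ⟨u, hu, rfl⟩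
    rw [h1, Subgroup.mem_bot] at h2
    exact DS.Cl.Ext.cj_eq_one_iff.1 h2
  · intro x hx
    have h2 := hx.2
    rw [← h1] at h2
    obtain ⟨k, hk, hkx⟩ := h2
    obtain ⟨c, hc, e⟩ := (hK k).1 hk
    obtain ⟨d, d1, d2, d3⟩ := (ad_eq_iff (a := ((k : Aˣ) : A)) (mul_star k) hx.1).1 ((ad_val _).trans hkx)
    have h3 : ((k : Aˣ) : A) ^ r = ((c : Aˣ) : A) ^ r := congrArg (fun z : Nh F N => ((z : Aˣ) : A)) e
    have h4 : Un ((c : Aˣ) : A) := mul_star c
    refine ⟨star ((c : Aˣ) : A) * d, Subring.mul_mem _ (star_cen hc) d1, h4.st.mul d2, ?_⟩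
    rw [mul_assoc, ← d3, Commute.mul_pow (cen_comm (star_cen hc) _).symm, h3, ← star_pow, (h4.pow r).sm]

theorem exists_cm {u v : A} (hu : Lf N u) (hv : Lf N v) : ∃ κ, Un κ ∧ κ ^ r = 1 ∧ Cm κ u v := by
  obtain ⟨κ, h1, h2, h3, h4⟩ := E.σ.exists_kap hu hv
  exact ⟨κ, h2, h3, h1, h4⟩

/-- **splitting off a non-commuting pair** -/
theorem split {u v w : A} (hu : Lf N u) (hv : Lf N v) (h : u * v ≠ v * u) (hw : Lf N w) :
    ∃ i < r, ∃ j < r, u ^ i * v ^ j * w * u = u * (u ^ i * v ^ j * w) ∧ u ^ i * v ^ j * w * v = v * (u ^ i * v ^ j * w) := by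
  obtain ⟨ρ, hρ, hρ'⟩ := E.exists_rho
  obtain ⟨ζ, a1, a2, a3⟩ := E.exists_cm hu hv
  have a4 : ζ ≠ 1 := fun h1 => h (a3.eq h1)
  obtain ⟨κ, b1, b2, b3⟩ := E.exists_cm hu hw
  obtain ⟨κ', c1, c2, c3⟩ := E.exists_cm hv hw
  obtain ⟨j, hj, e1⟩ := E.σ.exists_pow hρ hρ' a3.1 a1 a2 a4 b3.1 b1 b2
  obtain ⟨i, hi, e2⟩ := E.σ.exists_pow hρ hρ' (star_cen a3.1) a1.st (star_root a2 a4).1 (star_root a2 a4).2 c3.1 c1 c2
  exact ⟨i, hi, j, hj, (((((Cm.of_eq rfl).pow i).mul (a3.pow j)).mul b3).eq (by rw [one_pow, one_mul, e1])).symm,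
    (((((a3.symm a1).pow i).mul ((Cm.of_eq rfl).pow j)).mul c3).eq (by rw [one_pow, mul_one, e2])).symm⟩

variable {M : Subgroup (RingAut A)}

theorem split' (hM : M ≤ N) {u v w : A} (hu : Lf M u) (hv : Lf M v) (h : u * v ≠ v * u) (hw : Lf M w) :
    ∃ i < r, ∃ j < r, Lf (pp M u v) (u ^ i * v ^ j * w) := by
  obtain ⟨i, hi, j, hj, h1⟩ := E.split (lf_mono hM hu) (lf_mono hM hv) h (lf_mono hM hw)
  exact ⟨i, hi, j, hj, lf_pp.2 ⟨((hu.pow i).mul (hv.pow j)).mul hw, h1⟩⟩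

theorem exists_lf (hM : M ≤ N) {ν : RingAut A} (h : ν ∈ M) : ∃ a, Lf M a ∧ ad a = ν := by
  obtain ⟨a, ha, rfl⟩ := E.σ.exists_lf (hM h)
  exact ⟨a, ⟨ha.1, h⟩, rfl⟩

theorem nd_top : Nd N N := ⟨le_rfl, fun u _ hu => by
  by_contra h
  push Not at h
  exact hu (E.σ.cen_of h)⟩

theorem nd_pp (hM : Nd N M) {u v : A} (hu : Lf M u) (hv : Lf M v) (h : u * v ≠ v * u) : Nd N (pp M u v) := by
  refine ⟨pp_le.trans hM.le, fun z hz h0 => ?_⟩
  obtain ⟨a1, a2, a3⟩ := lf_pp.1 hz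
  obtain ⟨w, hw, h3⟩ := hM.nd z a1 h0
  obtain ⟨i, -, j, -, h4⟩ := E.split' hM.le hu hv h hw
  refine ⟨_, h4, fun h6 => h3 (((hu.pow i).mul (hv.pow j)).1.cancel ?_)⟩
  have h7 : Commute (u ^ i * v ^ j) z := ((show Commute u z from a2.symm).pow_left i).mul_left
    ((show Commute v z from a3.symm).pow_left j)
  rw [← mul_assoc, h6, ← mul_assoc, ← h7.eq, mul_assoc]

theorem exists_pair (hM : Nd N M) (h : M ≠ ⊥) : ∃ u v, Lf M u ∧ Lf M v ∧ u * v ≠ v * u := by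
  obtain ⟨x, hx, h1⟩ := (M.bot_or_exists_ne_one).resolve_left h
  obtain ⟨u, hu, rfl⟩ := E.exists_lf hM.le hx
  obtain ⟨v, hv, h2⟩ := hM.nd u hu fun h => h1 (ad_cen h)
  exact ⟨v, u, hv, hu, h2⟩

theorem card_St (hM : M ≤ N) {u v : A} (hv : Lf M v) (h : v * u ≠ u * v) : Nat.card ↥(M ⊓ St u) * r ≤ Nat.card M :=
  have := Cyc.finAut (A := A)
  card_mul_le E.σ.prime (E.σ.isPGroup.to_le hM) inf_le_left fun h1 => h ((ad_mem_St hv.1).1 (h1 hv.2).2)

theorem card_pp (hM : M ≤ N) {u v : A} (hu : Lf M u) (hv : Lf M v) (h : u * v ≠ v * u) :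
    Nat.card (pp M u v) * r ^ 2 ≤ Nat.card M := by
  have h1 := E.card_St hM hv h.symm
  have h2 := E.card_St (M := M ⊓ St u) (inf_le_left.trans hM) (v := u) ⟨hu.1, hu.2, (ad_mem_St hu.1).2 rfl⟩ h
  rw [pow_two, ← mul_assoc]
  exact (Nat.mul_le_mul_right _ h2).trans h1

theorem le_card_pp (hM : M ≤ N) {u v : A} (hu : Lf M u) (hv : Lf M v) (h : u * v ≠ v * u) :
    Nat.card M ≤ Nat.card (pp M u v) * r ^ 2 := by
  have := Cyc.finAut (A := A)
  rw [pow_two, ← Nat.card_fin r, ← Nat.card_prod, ← Nat.card_prod]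
  refine Nat.card_le_card_of_surjective (fun q : pp M u v × Fin r × Fin r =>
    (⟨_, M.mul_mem (M.inv_mem ((hu.pow q.2.1).mul (hv.pow q.2.2)).2) (pp_le q.1.2)⟩ : M)) fun ν => ?_
  obtain ⟨w, hw, e⟩ := E.exists_lf hM ν.2
  obtain ⟨i, hi, j, hj, h1⟩ := E.split' hM hu hv h hw
  refine ⟨(⟨_, h1.2⟩, ⟨i, hi⟩, ⟨j, hj⟩), Subtype.ext ?_⟩
  change (ad (u ^ i * v ^ j))⁻¹ * ad (u ^ i * v ^ j * w) = _
  rw [ad_mul ((hu.pow i).mul (hv.pow j)).1 hw.1, e, inv_mul_cancel_left]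

theorem exists_apply {ν : RingAut A} (hν : ν ∈ N) {x : A} (hx : Lf N x) : ∃ κ ∈ Subring.center A, ν x = κ * x := by
  obtain ⟨y, hy, rfl⟩ := E.σ.exists_lf hν
  obtain ⟨κ, h1, -, -, h2⟩ := E.σ.exists_kap hy hx
  exact ⟨κ, h1, by rw [ad_apply hy.1, h2, mul_assoc, mul_assoc, hy.1.ms, mul_one]⟩

theorem conj_ap {γ ν : RingAut A} (hγ : γ ∈ F.PI) (hν : ν ∈ N) {x : A} (hx : Lf N x) (h : γ * ad x = ad x * γ) :
    (γ * ν * γ⁻¹) x = ν x := by
  obtain ⟨κ, h1, h2⟩ := E.exists_apply hν hx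
  exact conj_apply (F.Aut_le_SAut (F.PI_le_Aut hγ)) (F.PI_le_Lin hγ) (F.PI_le_Lin (E.σ.le_PI hν)) hx.1 h h1 h2

theorem card_le_N {X : Subgroup (RingAut A)} (hX : X ≤ F.PI) (h : ∀ γ ∈ X, ∀ ν ∈ N, γ * ν = ν * γ) :
    Nat.card X ≤ Nat.card N := by
  have := Cyc.finAut (A := A)
  refine Subgroup.card_le_of_le fun γ hγ => ?_
  obtain ⟨g, hg, rfl⟩ := exists_of_PI (hX hγ)
  exact E.σ.cent hg (h _ hγ)

/-- the order of a group of isometries -/
theorem card_le_aux (j : ℕ) : ∀ (M X : Subgroup (RingAut A)), Nd N M → Nat.card M ≤ r ^ (2 * j) → X ≤ F.PI →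
    (∀ γ ∈ X, ∀ μ ∈ M, γ * μ * γ⁻¹ ∈ M) → (∀ ν ∈ N, ∃ μ ∈ M, ∀ γ ∈ X, γ * (μ * ν) = μ * ν * γ) →
    Nat.card X ≤ Nat.card N * r ^ (2 * j ^ 2 + j) := by
  have := Cyc.finAut (A := A)
  have hr := E.σ.prime.pos
  have h0 : ∀ (j : ℕ) (X : Subgroup (RingAut A)), X ≤ F.PI →
      (∀ ν ∈ N, ∃ μ ∈ (⊥ : Subgroup (RingAut A)), ∀ γ ∈ X, γ * (μ * ν) = μ * ν * γ) →
      Nat.card X ≤ Nat.card N * r ^ (2 * j ^ 2 + j) := fun j X hX h =>
    (E.card_le_N hX fun γ hγ ν hν => by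
      obtain ⟨μ, h1, h2⟩ := h ν hν
      rw [Subgroup.mem_bot] at h1
      simpa only [h1, _root_.one_mul] using h2 γ hγ).trans (Nat.le_mul_of_pos_right _ (pow_pos hr _))
  induction j with
  | zero =>
    intro M X _ h1 hX _ h3
    obtain rfl : M = ⊥ := Subgroup.card_le_one_iff_eq_bot _ |>.1 (by simpa only [_root_.MulZeroClass.mul_zero, _root_.pow_zero] using h1)
    exact h0 0 X hX h3
  | succ j ih =>
    intro M X hM h1 hX h2 h3
    by_cases hb : M = ⊥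
    · subst hb
      exact h0 _ X hX h3
    obtain ⟨x, y, hx, hy, h4⟩ := E.exists_pair hM hb
    have hx' := lf_mono hM.le hx
    have hy' := lf_mono hM.le hy
    have k1 := card_le_of_conj X (ad x) M fun γ hγ => h2 γ hγ _ hx.2
    have k2 := card_le_of_conj (cz X (ad x)) (ad y) ((fun μ => ad y * μ) '' (M ⊓ St x : Subgroup (RingAut A)))
      fun γ hγ => ⟨(ad y)⁻¹ * (γ * ad y * γ⁻¹), ⟨M.mul_mem (M.inv_mem hy.2) (h2 γ hγ.1 _ hy.2), by
        change (ad y)⁻¹ ((γ * ad y * γ⁻¹) x) = x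
        rw [E.conj_ap (hX hγ.1) hy'.2 hx' (mem_cz.1 hγ).2, ra_inv_apply]⟩, mul_inv_cancel_left _ _⟩
    rw [Set.ncard_image_of_injective _ (mul_right_injective _)] at k2
    have k3 := E.card_St hM.le hy h4.symm
    have k4 := E.card_pp hM.le hx hy h4
    have k5 := ih (pp M x y) (cz (cz X (ad x)) (ad y)) (E.nd_pp hM hx hy h4)
      (Nat.le_of_mul_le_mul_right (k4.trans (h1.trans_eq (by ring))) (pow_pos hr 2))
      ((inf_le_left.trans inf_le_left).trans hX)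
      (fun γ hγ μ hμ => ⟨⟨h2 γ hγ.1.1 μ hμ.1.1,
        (E.conj_ap (hX hγ.1.1) (hM.le hμ.1.1) hx' (mem_cz.1 hγ.1).2).trans hμ.1.2⟩,
        (E.conj_ap (hX hγ.1.1) (hM.le hμ.1.1) hy' (mem_cz.1 hγ).2).trans hμ.2⟩) fun ν hν => by
      obtain ⟨μ, h5, h6⟩ := h3 ν hν
      obtain ⟨w, hw, rfl⟩ := E.exists_lf hM.le h5
      obtain ⟨a, -, b, -, h7⟩ := E.split' hM.le hx hy h4 hw
      refine ⟨_, h7.2, fun γ hγ => ?_⟩
      rw [ad_mul ((hx.pow a).mul (hy.pow b)).1 hw.1, ad_mul (hx.1.pow a) (hy.1.pow b), ad_pow hx.1, ad_pow hy.1,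
        mul_assoc _ (ad w)]
      exact (((show Commute γ (ad x) from (mem_cz.1 hγ.1).2).pow_right a).mul_right
        ((show Commute γ (ad y) from (mem_cz.1 hγ).2).pow_right b)).mul_right (h6 γ hγ.1.1)
    change _ ≤ Nat.card M * _ at k1
    change _ ≤ Nat.card ↥(M ⊓ St x) * _ at k2
    refine Nat.le_of_mul_le_mul_right ?_ hr
    calc Nat.card X * r ≤ Nat.card M * (Nat.card ↥(M ⊓ St x) * (Nat.card N * r ^ (2 * j ^ 2 + j))) * r :=
          Nat.mul_le_mul_right _ (k1.trans (Nat.mul_le_mul_left _ (k2.trans (Nat.mul_le_mul_left _ k5))))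
      _ = Nat.card M * (Nat.card ↥(M ⊓ St x) * r) * (Nat.card N * r ^ (2 * j ^ 2 + j)) := by ring
      _ ≤ r ^ (2 * (j + 1)) * r ^ (2 * (j + 1)) * (Nat.card N * r ^ (2 * j ^ 2 + j)) :=
          Nat.mul_le_mul_right _ (Nat.mul_le_mul h1 (k3.trans h1))
      _ = _ := by ring

/-- **the order of the normaliser** -/
theorem card_B {k : ℕ} (hk : Nat.card N = r ^ (2 * k)) : Nat.card ↥(H ⊓ F.S) ≤ r ^ (2 * k ^ 2 + 3 * k) :=
  (E.card_le_aux k N (H ⊓ F.S) E.nd_top hk.le (inf_le_right.trans F.S_le_PI) (fun γ hγ => E.min.nrm γ hγ.1)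
    fun ν hν => ⟨ν⁻¹, N.inv_mem hν, fun γ _ => by simp⟩).trans_eq (by rw [hk]; ring)

theorem exists_k {n : ℕ} (hn : Nat.card N = n ^ 2) : ∃ k, n = r ^ k := by
  have : Fact r.Prime := ⟨E.σ.prime⟩
  have := Cyc.finAut (A := A)
  obtain ⟨m, hm⟩ := IsPGroup.iff_card.1 E.σ.isPGroup
  obtain ⟨k, -, h⟩ := (Nat.dvd_prime_pow E.σ.prime).1 (show n ∣ r ^ m from hm ▸ hn ▸ dvd_pow_self n two_ne_zero)
  exact ⟨k, h⟩

/-! ### membership in `F.S`, criteria -/

theorem ps_mul {m : ℕ} {a b : A} (ha : Un a) (hb : Un b) (h1 : ad a ^ m ∈ F.S) (h2 : ad b ^ m ∈ F.S) :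
    ad (a * b) ^ m ∈ F.S := by
  rw [F.S_eq] at h1 h2 ⊢
  rw [ad_mul ha hb]
  exact mul_pow_mem (E.σ.mem_PI ha) (E.σ.mem_PI hb) h1 h2

omit E in
theorem exists_el {g : A} (hg : Un g) (h : ad g ∈ F.S) :
    ∃ (u : Aˣ) (hu : u ∈ Cyc.I0 F), DS.Cl.cj A u = ad g ∧ N2.cn (Cyc.el hu) ≤ Cyc.cU g := by
  obtain ⟨u, hu, e⟩ := h
  refine ⟨u, hu, e, (Cyc.cn_le hu).trans ((Cyc.cI_le_cU F u).trans_eq ?_)⟩
  have h1 : Un (u : A) := (F.comm_le_Iso hu).1
  exact Nat.card_congr (Equiv.subtypeEquivRight fun x => and_congr_right fun _ => by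
    rw [eq_comm, ← ad_fix h1, ad_val, e, ad_fix hg, eq_comm])

theorem gd_of {g : A} (hg : Un g) (h : ad g ∈ F.S) (hn : ∀ ν ∈ N, ad g * ν * (ad g)⁻¹ ∈ N) {c : ℕ} (hc : Cyc.cU g ≤ c)
    (h' : c ^ 3 * Nat.card ↥(H ⊓ F.S) ≤ Nat.card F.S) : Gd F H := by
  obtain ⟨u, hu, e, h1⟩ := exists_el hg h
  exact Cyc.gd_of_cn hu (e ▸ E.mem_H h hn) (h1.trans hc) h'

end XC

theorem cU_le_card {g : A} (P : A → Prop) (h : ∀ a, a * g = g * a → P a) : Cyc.cU g ≤ Nat.card {a // P a} :=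
  Nat.card_le_card_of_injective (fun a => ⟨a.1, h _ a.2.2⟩) fun _ _ e => Subtype.ext (Subtype.mk.inj e)

/-- **orbits on a subgroup**: the elements with the property `P` commute with `x` and have their support in `K` -/
theorem fx_K {F : FR A} {N : Subgroup (RingAut A)} {r : ℕ} (σ : Sit F N r) {x : A} (hx : Un x)
    {K : Subgroup (RingAut A)} (hK : K ≤ N) (hn : ∀ ν ∈ N, ad x * ν * (ad x)⁻¹ ∈ N)
    (hn' : ∀ ν ∈ K, ad x * ν * (ad x)⁻¹ ∈ K) {m : ℕ} (hm : m ≠ 0) (h : ad x ^ m = 1) (P : A → Prop)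
    (hP : ∀ a b, P a → P b → P (a - b)) (h1 : ∀ a, P a → x * a = a * x)
    (h2 : ∀ ν ∈ N, ν ∉ K → ∃ y, Lf N y ∧ ν y ≠ y ∧ ∀ a, P a → y * a = a * y) :
    ∃ t, Nat.card {a // P a} ≤ Nat.card (Subring.center A) ^ t ∧
      t * m = ∑ k ∈ Finset.range m, Nat.card (cN K (ad x ^ k)) := by
  classical
  have := Cyc.finAut (A := A)
  let _ : Fintype N := Fintype.ofFinite _
  obtain ⟨s, co, hs, hs', hc⟩ := σ.exists_co
  let π : Equiv.Perm N := Equiv.ofBijective (fun ν : N => ⟨_, hn _ ν.2⟩) (Finite.injective_iff_bijective.1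
    fun a b hab => Subtype.ext (mul_left_cancel (mul_right_cancel (congrArg Subtype.val hab))))
  let π' : Equiv.Perm K := Equiv.ofBijective (fun ν : K => ⟨_, hn' _ ν.2⟩) (Finite.injective_iff_bijective.1
    fun a b hab => Subtype.ext (mul_left_cancel (mul_right_cancel (congrArg Subtype.val hab))))
  have hπ : ∀ (k : ℕ) (ν : K), (((π' ^ k) ν : K) : RingAut A) = ad x ^ k * ν * (ad x ^ k)⁻¹ := by
    intro k
    induction k with
    | zero => intro ν; simp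
    | succ k ih =>
      intro ν
      rw [pow_succ', Equiv.Perm.mul_apply]
      change ad x * ((π' ^ k) ν : K) * (ad x)⁻¹ = _
      rw [ih, pow_succ']
      group
  obtain ⟨R, k1, k2⟩ := burnside π' hm (Equiv.ext fun ν => Subtype.ext (by rw [hπ, h]; simp))
  have h3 : ∀ ν, ∃ lam : Subring.center A, Un (lam : A) ∧ x * s ν * star x = lam * s (π ν) := fun ν =>
    Sit.exists_lam hs hs' (σ.lf_of_norm hx hn (hs ν)) (by
      rw [ad_mul (hx.mul (hs ν).1) hx.st, ad_mul hx (hs ν).1, ad_star hx, hs']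
      rfl)
  choose lam h3 h4 using h3
  refine ⟨R.card, ?_, k2.trans (Finset.sum_congr rfl fun k _ => ?_)⟩
  · rw [← Fintype.card_coe, ← Nat.card_eq_fintype_card, ← Nat.card_fun]
    refine Nat.card_le_card_of_injective (fun a : {a // P a} => fun ν : R => co a ⟨ν.1, hK ν.1.2⟩)
      fun a b hab => Subtype.ext ?_
    rw [← sub_eq_zero, ← co.map_eq_zero_iff]
    have ha := hP _ _ a.2 b.2
    have h0 : ∀ ν ∈ R, co (a - b) ⟨ν, hK ν.2⟩ = 0 := fun ν hν => by
      rw [map_sub, Pi.sub_apply, sub_eq_zero]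
      exact congrFun hab ⟨ν, hν⟩
    generalize (a : A) - b = a at ha h0
    funext ν
    by_cases hν : (ν : RingAut A) ∈ K
    · have h5 : ∀ ν : K, co a ⟨π' ν, hK (π' ν).2⟩ = 0 → co a ⟨ν, hK ν.2⟩ = 0 := fun ν hν => by
        have h6 := Sit.co_conj hc π lam h4 a ⟨ν, hK ν.2⟩
        rw [h1 a ha, mul_assoc, hx.ms, mul_one] at h6
        exact Subtype.ext ((h3 _).isUnit.mul_right_eq_zero.1 (congrArg Subtype.val (h6.symm.trans hν)))
      obtain ⟨k, hk⟩ := k1 ⟨ν, hν⟩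
      have h7 := h0 _ hk
      clear hk
      induction k with
      | zero => exact h7
      | succ k ih => exact ih (h5 _ (by rw [pow_succ'] at h7; exact h7))
    · obtain ⟨u, hu, h5, h6⟩ := h2 ν ν.2 hν
      have h7 : ∀ ν, ∃ lam : Subring.center A, Un (lam : A) ∧ u * s ν * star u = lam * s ν := fun ν =>
        Sit.exists_lam hs hs' ((hu.mul (hs ν)).mul hu.st) (by
          rw [ad_mul (hu.1.mul (hs ν).1) hu.1.st, ad_mul hu.1 (hs ν).1, ad_star hu.1, hs', σ.comm _ hu.2 _ ν.2,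
            mul_inv_cancel_right])
      choose lam' h7 h8 using h7
      have h9 : (lam' ν : A) ≠ 1 := fun e => h5 (by
        have h3 := h8 ν
        rw [e, one_mul, ← ad_apply hu.1, ad_fix hu.1] at h3
        rw [← hs', ad_fix (hs ν).1, h3])
      have h10 := Sit.co_conj hc 1 lam' h8 a ν
      rw [h6 a ha, mul_assoc, hu.1.ms, mul_one] at h10
      refine Subtype.ext ((σ.sub_unit (lam' ν).2 (h7 ν) (Subring.one_mem _) Un.one h9).mul_right_eq_zero.1 ?_)
      rw [sub_mul, sub_eq_zero, one_mul]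
      exact (congrArg Subtype.val h10).symm
  · rw [← TH.In.card_sub (G := K) (Y := cN K (ad x ^ k)) inf_le_left]
    refine Nat.card_congr (Equiv.subtypeEquivRight fun ν => ?_)
    rw [Subgroup.mem_subgroupOf, mem_cN, Subtype.ext_iff, hπ, mul_inv_eq_iff_eq_mul, and_iff_right ν.2]

end Cfsg.Agent.N2C.Ext
end

-- part: N2/Cl/Ext/Odd
section
/-!
# N2 (S3519), class `pExt`: odd `r` (helper22)

Transvections lift to Gauss sums; the product of three of them has order four on a hyperbolic plane.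
-/

set_option autoImplicit false
set_option linter.unusedSectionVars false

namespace Cfsg.Agent.N2C.Ext

open Cfsg.Agent.DS.Cl Cfsg.Agent.DS.Cl.Fwd Cfsg.Agent.SB.Cl Cfsg.Agent.TH.Cl.Ext

section groups

variable {Γ : Type*} [Group Γ]

theorem two_mul_cc_le [Finite Γ] (B : Subgroup Γ) (a : Γ) {w : Γ} (hw : w ∈ B)
    (h : ∀ g g', IsConj a g → IsConj a g' → g' ∈ B → g ≠ g' * w) : 2 * N2.cc B a ≤ Nat.card B := by
  rw [N2.cc, show 2 = Nat.card Bool by simp, ← Nat.card_prod]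
  refine Nat.card_le_card_of_injective (fun q : Bool × {g : Γ // IsConj a g ∧ g ∈ B} =>
    (⟨bif q.1 then q.2.1 else q.2.1 * w, by cases q.1; exacts [B.mul_mem q.2.2.2 hw, q.2.2.2]⟩ : B)) ?_
  rintro ⟨_ | _, g⟩ ⟨_ | _, g'⟩ e
  · exact Prod.ext rfl (Subtype.ext (mul_right_cancel (congrArg Subtype.val e)))
  · exact absurd (congrArg Subtype.val e).symm (h _ _ g'.2.1 g.2.1 g.2.2)
  · exact absurd (congrArg Subtype.val e) (h _ _ g.2.1 g'.2.1 g'.2.2)
  · exact Prod.ext rfl (Subtype.ext (Subtype.mk.inj e))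

theorem conj_pow_inv {N : Subgroup Γ} {y w : Γ} (hy : ∀ ν ∈ N, y * ν * y⁻¹ ∈ N) (hw : ∀ ν ∈ N, w * ν * w⁻¹ = ν⁻¹)
    (j : ℕ) : ∀ ν ∈ N, (y * w) ^ j * ν * ((y * w) ^ j)⁻¹ = y ^ j * ν ^ ((-1 : ℤ) ^ j) * (y ^ j)⁻¹ := by
  induction j with
  | zero => simp
  | succ j ih =>
    intro ν hν
    have h1 := ih _ (hy _ (N.inv_mem hν))
    rw [conj_zpow, inv_zpow'] at h1
    calc (y * w) ^ (j + 1) * ν * ((y * w) ^ (j + 1))⁻¹
        = (y * w) ^ j * (y * (w * ν * w⁻¹) * y⁻¹) * ((y * w) ^ j)⁻¹ := by rw [pow_succ]; group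
      _ = _ := by rw [hw ν hν, h1, pow_succ, pow_succ, mul_neg_one]; group

/-- the elements inverted by `γ` -/
def Iv (N : Subgroup Γ) (hc : ∀ x ∈ N, ∀ y ∈ N, x * y = y * x) (γ : Γ) : Subgroup Γ where
  carrier := {ν | ν ∈ N ∧ γ * ν * γ⁻¹ = ν⁻¹}
  mul_mem' := fun {a b} ha hb => ⟨N.mul_mem ha.1 hb.1, by
    rw [hc a ha.1 b hb.1, mul_inv_rev, ← ha.2, ← hb.2, hc b hb.1 a ha.1]; group⟩
  one_mem' := ⟨N.one_mem, by simp⟩
  inv_mem' := fun {a} ha => ⟨N.inv_mem ha.1, by rw [← conj_inv, ha.2]⟩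

end groups

variable {A : Type} [Ring A] [StarRing A] [Finite A]

section pw

variable {r : ℕ} [NeZero r] {x η u : A}

/-- powers with exponents modulo `r` -/
def pw (x : A) (j : ZMod r) : A := x ^ j.val

theorem pw_add (hx : x ^ r = 1) (i j : ZMod r) : pw x (i + j) = pw x i * pw x j := by
  rw [pw, ZMod.val_add, ← pow_eq_pow_mod _ hx, pow_add, pw, pw]

theorem pw_cast (hx : x ^ r = 1) (k : ℕ) : pw x (k : ZMod r) = x ^ k := by
  rw [pw, ZMod.val_natCast, ← pow_eq_pow_mod _ hx]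

theorem pw_zero (x : A) : pw x (0 : ZMod r) = 1 := by rw [pw, ZMod.val_zero, pow_zero]

theorem star_pw (hu : Un x) (hx : x ^ r = 1) (j : ZMod r) : star (pw x j) = pw x (-j) :=
  (hu.pow _).star_eq ((pw_add hx j (-j)).symm.trans (by rw [add_neg_cancel, pw_zero]))

theorem pw_cen (h : η ∈ Subring.center A) (j : ZMod r) : pw η j ∈ Subring.center A := Subring.pow_mem _ h _

/-- Gauss sums -/
def gs (r : ℕ) [NeZero r] (η x : A) : A := ∑ j : ZMod r, pw η (j ^ 2) * pw x j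

theorem comm_gs (h : η ∈ Subring.center A) (e : u * x = x * u) : u * gs r η x = gs r η x * u := by
  rw [gs, Finset.mul_sum, Finset.sum_mul]
  refine Finset.sum_congr rfl fun j _ => ?_
  rw [← mul_assoc, cen_comm (pw_cen h _), mul_assoc, mul_assoc]
  exact congrArg _ ((show Commute u x from e).pow_right _)

theorem gs_mul (h : η ∈ Subring.center A) (hη : η ^ r = 1) (hx : x ^ r = 1) {i : ℕ} (e : Cm (η ^ (2 * i)) u x) :
    gs r η x * u = η ^ i ^ 2 * (x ^ i * u) * gs r η x := by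
  rw [gs, Finset.mul_sum, Finset.sum_mul, ← Equiv.sum_comp (Equiv.addLeft (i : ZMod r))]
  refine Finset.sum_congr rfl fun j _ => ?_
  have h1 : u * pw x j = pw η (2 * (i : ZMod r) * j) * (pw x j * u) := by
    rw [pw, (e.pow _).2, ← pow_mul, ← pw_cast hη]
    push_cast
    rw [ZMod.natCast_zmod_val]
  rw [Equiv.coe_addLeft, show ((i : ZMod r) + j) ^ 2 = ((i ^ 2 : ℕ) : ZMod r) + (j ^ 2 + 2 * i * j) by push_cast; ring,
    pw_add hη, pw_add hη, pw_add hx, pw_cast hη, pw_cast hx, cen_mul_mul (pw_cen h _), mul_assoc (x ^ i), h1,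
    ← mul_assoc (x ^ i), cen_comm (pw_cen h _) (x ^ i)]
  simp only [mul_assoc]

theorem gs_star {F : FR A} {N : Subgroup (RingAut A)} (σ : Sit F N r) (hr : r ≠ 2) (h : η ∈ Subring.center A)
    (h1 : Un η) (hη : η ^ r = 1) (h2 : η ≠ 1) (hu : Un x) (hx : x ^ r = 1) : gs r η x * star (gs r η x) = r := by
  have : Fact r.Prime := ⟨σ.prime⟩
  have h3 : ∀ d : ZMod r, d ≠ 0 → ∑ l : ZMod r, pw η (2 * d * l) = 0 := fun d hd => by
    have h4 : (2 : ZMod r) * d ≠ 0 := mul_ne_zero (fun e => hr ((Nat.prime_dvd_prime_iff_eq σ.prime Nat.prime_two).1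
      ((ZMod.natCast_eq_zero_iff 2 r).1 e))) hd
    refine (σ.sub_unit (pw_cen h (2 * d)) (h1.pow _) (Subring.one_mem _) Un.one fun e => h4 ((ZMod.val_eq_zero _).1
      (σ.pow_ne hη h2 (ZMod.val_lt _) σ.prime.pos (e.trans (pow_zero η).symm)))).mul_right_eq_zero.1 ?_
    rw [sub_mul, one_mul, sub_eq_zero, Finset.mul_sum, ← Equiv.sum_comp (Equiv.addLeft (1 : ZMod r)) fun l => pw η (2 * d * l)]
    exact Finset.sum_congr rfl fun l _ => by rw [← pw_add hη, Equiv.coe_addLeft, mul_add, mul_one]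
  have h4 : ∀ l : ZMod r, gs r η x * star (pw η (l ^ 2) * pw x l) =
      ∑ d : ZMod r, pw η (d ^ 2) * pw x d * pw η (2 * d * l) := fun l => by
    rw [gs, Finset.sum_mul, ← Equiv.sum_comp (Equiv.addRight l)]
    refine Finset.sum_congr rfl fun d _ => ?_
    rw [Equiv.coe_addRight, star_mul, star_pw h1 hη, star_pw hu hx, cen_comm (pw_cen h _), cen_mul_mul (pw_cen h _),
      ← pw_add hη, ← pw_add hx, cen_comm (pw_cen h (2 * d * l)), ← mul_assoc, ← pw_add hη]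
    congr 2 <;> ring
  conv_lhs => rw [gs, star_sum, ← gs, Finset.mul_sum]
  simp only [h4]
  rw [Finset.sum_comm]
  simp only [← Finset.mul_sum]
  rw [Finset.sum_eq_single 0 (fun d _ hd => by rw [h3 d hd, mul_zero]) (by simp only [_root_.Finset.mem_univ, _root_.not_true_eq_false, _root_.ne_eq, _root_.OfNat.ofNat_ne_zero, _root_.not_false_eq_true, _root_.zero_pow, _root_.MulZeroClass.mul_zero, _root_.MulZeroClass.zero_mul, _root_.Finset.sum_const, _root_.Finset.card_univ, _root_.ZMod.card, _root_.nsmul_eq_mul, _root_.IsEmpty.forall_iff])]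
  simp only [pw_zero, _root_.ne_eq, _root_.OfNat.ofNat_ne_zero, _root_.not_false_eq_true, _root_.zero_pow, _root_.mul_one, _root_.MulZeroClass.mul_zero, _root_.MulZeroClass.zero_mul, _root_.Finset.sum_const, _root_.Finset.card_univ, _root_.ZMod.card, _root_.nsmul_eq_mul, _root_.one_mul]

end pw

namespace XC

variable {F : FR A} {H N : Subgroup (RingAut A)} {p r : ℕ} (E : XC F H N p r)
include E

theorem exists_exp {ζ : A} (h1 : ζ ∈ Subring.center A) (h2 : Un ζ) (h3 : ζ ^ r = 1) (h4 : ζ ≠ 1) {u x : A} (hu : Lf N u)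
    (hx : Lf N x) : ∃ i, Cm (ζ ^ i) u x := by
  obtain ⟨ρ, hρ, hρ'⟩ := E.exists_rho
  obtain ⟨κ, b1, b2, b3⟩ := E.exists_cm hu hx
  obtain ⟨i, -, e⟩ := E.σ.exists_pow hρ hρ' h1 h2 h3 h4 (star_cen b3.1) b1.st (by rw [← star_pow, b2, star_one])
  refine ⟨i, ?_⟩
  rwa [b1.st.cancel' (e.trans b1.ms.symm)]

/-- **transvections** -/
theorem exists_tv (hr : r ≠ 2) {ζ : A} (h1 : ζ ∈ Subring.center A) (h2 : Un ζ) (h3 : ζ ^ r = 1) (h4 : ζ ≠ 1) {x : A}
    (hx : Lf N x) (hx' : x ^ r = 1) : ∃ T, Un T ∧ (∀ y, y * x = x * y → y * T = T * y) ∧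
      (∀ u i, Un u → Cm (ζ ^ i) u x → ad T * ad u * (ad T)⁻¹ = ad x ^ i * ad u) ∧
      (∀ ν ∈ N, ad T * ν * (ad T)⁻¹ ∈ N) ∧ ad T ^ r ∈ F.S := by
  have : NeZero r := ⟨E.σ.prime.ne_zero⟩
  obtain ⟨ρ, hρ, hρ'⟩ := E.exists_rho
  obtain ⟨m, hm⟩ := E.σ.prime.odd_of_ne_two hr
  have a1 : (ζ ^ (m + 1)) ^ 2 = ζ := by rw [← pow_mul, show (m + 1) * 2 = r + 1 by omega, pow_succ, h3, one_mul]
  have a2 : ζ ^ (m + 1) ∈ Subring.center A := Subring.pow_mem _ h1 _
  have a3 := h2.pow (m + 1)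
  have a4 : (ζ ^ (m + 1)) ^ r = 1 := by rw [← pow_mul, mul_comm, pow_mul, h3, one_pow]
  have a5 : ζ ^ (m + 1) ≠ 1 := fun e => h4 (by rw [← a1, e, one_pow])
  generalize ζ ^ (m + 1) = η at a1 a2 a3 a4 a5
  subst a1
  have b1 := gs_star E.σ hr a2 a3 a4 a5 hx.1 hx'
  have b2 := gs_star E.σ hr a2 a3 a4 a5 Un.one (one_pow r)
  have b3 : gs r η 1 ∈ Subring.center A := Subring.mem_center_iff.2 fun y => comm_gs a2 (by simp)
  have b4 : star ρ = ρ := by
    have h3 := congrArg star hρ'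
    rw [star_mul, star_natCast, star_one] at h3
    rw [← one_mul (star ρ), ← hρ', mul_assoc, h3, mul_one]
  have b5 : ρ * gs r η 1 ∈ Subring.center A := Subring.mul_mem _ hρ b3
  have b6 : Un (ρ * gs r η 1 * gs r η x) := by
    rw [Un, star_mul, mul_assoc, ← mul_assoc (gs r η x), b1, star_mul, b4, ← cen_comm (natCast_mem _ r),
      mul_assoc (star _), hρ', mul_one, mul_assoc, b2, hρ']
  have b7 : ∀ y, y * x = x * y → y * (ρ * gs r η 1 * gs r η x) = ρ * gs r η 1 * gs r η x * y := fun y hy => by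
    rw [← mul_assoc, cen_comm b5, mul_assoc, comm_gs a2 hy, ← mul_assoc]
  have b8 : ∀ u i, Un u → Cm ((η ^ 2) ^ i) u x →
      ad (ρ * gs r η 1 * gs r η x) * ad u * (ad (ρ * gs r η 1 * gs r η x))⁻¹ = ad x ^ i * ad u := fun u i hu e => by
    rw [← pow_mul] at e
    rw [conj_ad _ hu, ad_apply b6, mul_assoc _ _ u, gs_mul a2 a4 hx' e, ← mul_assoc, ← cen_comm b5, mul_assoc, mul_assoc,
      ← mul_assoc (ρ * _), b6.ms, mul_one, ad_mul (a3.pow _) ((hx.1.pow i).mul hu), ad_cen (Subring.pow_mem _ a2 _),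
      one_mul, ad_mul (hx.1.pow i) hu, ad_pow hx.1]
  generalize ρ * gs r η 1 * gs r η x = T at b6 b7 b8
  refine ⟨T, b6, b7, b8, fun ν hν => ?_, ?_⟩
  · obtain ⟨u, hu, rfl⟩ := E.σ.exists_lf hν
    obtain ⟨i, hi⟩ := E.exists_exp h1 h2 h3 h4 hu hx
    rw [b8 u i hu.1 hi]
    exact N.mul_mem (N.pow_mem hx.2 i) hν
  · rw [← ad_pow b6]
    refine E.σ.le (E.σ.cent (b6.pow r) fun ν hν => ?_)
    obtain ⟨u, hu, rfl⟩ := E.σ.exists_lf hν
    obtain ⟨i, hi⟩ := E.exists_exp h1 h2 h3 h4 hu hx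
    have c1 : Commute (ad T) (ad x) := by
      rw [Commute, SemiconjBy, ← ad_mul b6 hx.1, ← b7 x rfl, ad_mul hx.1 b6]
    have c2 : ∀ k : ℕ, ad T ^ k * ad u = (ad x ^ k) ^ i * ad u * ad T ^ k := fun k => by
      induction k with
      | zero => simp
      | succ k ih =>
        rw [pow_succ', mul_assoc, ih, ← mul_assoc, ← mul_assoc, ((c1.pow_right k).pow_right i).eq, mul_assoc _ (ad T),
          mul_inv_eq_iff_eq_mul.1 (b8 u i hu.1 hi), pow_succ (ad x), Commute.mul_pow ((Commute.refl _).pow_left k)]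
        simp only [mul_assoc]
    rw [ad_pow b6, c2, ← ad_pow hx.1, hx', ad_one, one_pow, one_mul]

/-- **an element of order four on a hyperbolic plane** -/
theorem exists_four (hr : r ≠ 2) {x₀ y₀ : A} (hx₀ : Lf N x₀) (hy₀ : Lf N y₀) (h : x₀ * y₀ ≠ y₀ * x₀) :
    ∃ f, Un f ∧ ad f ∈ F.S ∧ ad f ^ 4 = 1 ∧ (∀ ν ∈ N, ad f * ν * (ad f)⁻¹ ∈ N) ∧
      (∀ w, w * x₀ = x₀ * w → w * y₀ = y₀ * w → w * f = f * w) ∧
      ad x₀ ∈ Iv N E.σ.comm (ad f ^ 2) ∧ ad y₀ ∈ Iv N E.σ.comm (ad f ^ 2) := by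
  have h0 := E.root.resolve_right fun h => hr h.1
  have h1 : ∀ {u}, Lf N u → ∃ v, Lf N v ∧ v ^ r = 1 ∧ ad v = ad u ∧ ∀ w, w * u = u * w ↔ w * v = v * w := fun {u} hu => by
    obtain ⟨c, c1, c2, c3⟩ := h0 u hu
    have e : ad (c * u) = ad u := by rw [ad_mul c2 hu.1, ad_cen c1, one_mul]
    exact ⟨_, (Lf.cen c1 c2).mul hu, c3, e, fun w => by
      rw [eq_comm, ← ad_fix hu.1, ← e, ad_fix (c2.mul hu.1), eq_comm]⟩
  obtain ⟨x, hx, x1, x2, x3⟩ := h1 hx₀
  obtain ⟨y, hy, y1, y2, y3⟩ := h1 hy₀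
  rw [← x2, ← y2]
  have h2 : x * y ≠ y * x := fun e => h ((x3 _).2 ((y3 x).2 e).symm).symm
  obtain ⟨ζ, a1, a2, a3⟩ := E.exists_cm hy hx
  have a4 : ζ ≠ 1 := fun e => h2 (a3.eq e).symm
  obtain ⟨T, t1, t2, t3, t4, t5⟩ := E.exists_tv hr a3.1 a1 a2 a4 hx x1
  obtain ⟨U, u1, u2, u3, u4, u5⟩ := E.exists_tv hr a3.1 a1 a2 a4 hy y1
  have hp := E.σ.prime.pos
  have k1 := t3 x 0 hx.1 (by rw [pow_zero]; exact Cm.of_eq rfl)
  have k2 := t3 y 1 hy.1 (by rw [pow_one]; exact a3)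
  have k3 := u3 y 0 hy.1 (by rw [pow_zero]; exact Cm.of_eq rfl)
  have k4 := u3 x (r - 1) hx.1 (by
    rw [← a1.star_eq (b := ζ ^ (r - 1)) (by rw [← pow_succ', Nat.sub_add_cancel hp, a2])]
    exact a3.symm a1)
  rw [show ad y ^ (r - 1) = (ad y)⁻¹ from eq_inv_of_mul_eq_one_left (by
    rw [← pow_succ, Nat.sub_add_cancel hp, E.σ.exp _ hy.2])] at k4
  rw [pow_zero, one_mul] at k1 k3
  rw [pow_one] at k2
  have c := E.σ.comm _ hx.2 _ hy.2
  have f1 : Un (T * U * T) := (t1.mul u1).mul t1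
  have f2 : ad (T * U * T) = ad T * ad U * ad T := by rw [ad_mul (t1.mul u1) t1, ad_mul t1 u1]
  have f3 : ad (T * U * T) * ad x * (ad (T * U * T))⁻¹ = (ad y)⁻¹ := by
    calc _ = ad T * (ad U * (ad T * ad x * (ad T)⁻¹) * (ad U)⁻¹) * (ad T)⁻¹ := by rw [f2]; group
      _ = ad T * ((ad y)⁻¹ * ad x) * (ad T)⁻¹ := by rw [k1, k4]
      _ = (ad T * ad y * (ad T)⁻¹)⁻¹ * (ad T * ad x * (ad T)⁻¹) := by group
      _ = _ := by rw [k1, k2]; group
  have f4 : ad (T * U * T) * ad y * (ad (T * U * T))⁻¹ = ad x := by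
    calc _ = ad T * (ad U * (ad T * ad y * (ad T)⁻¹) * (ad U)⁻¹) * (ad T)⁻¹ := by rw [f2]; group
      _ = ad T * ((ad U * ad x * (ad U)⁻¹) * (ad U * ad y * (ad U)⁻¹)) * (ad T)⁻¹ := by rw [k2]; group
      _ = _ := by rw [k3, k4, mul_assoc _ (ad x), c, inv_mul_cancel_left, k1]
  have f5 : ad (T * U * T) ^ r ∈ F.S := E.ps_mul (t1.mul u1) t1 (E.ps_mul t1 u1 t5 u5) t5
  have f6 : ∀ ν ∈ N, ad (T * U * T) * ν * (ad (T * U * T))⁻¹ ∈ N := fun ν hν => by
    have := t4 _ (u4 _ (t4 ν hν))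
    rw [f2]
    simpa only [mul_inv_rev, mul_assoc] using this
  have f7 : ∀ w, w * x = x * w → w * y = y * w → w * (T * U * T) = T * U * T * w := fun w h1 h2 =>
    ((show Commute w T from t2 w h1).mul_right (u2 w h2)).mul_right (t2 w h1)
  generalize T * U * T = f at f1 f3 f4 f5 f6 f7
  have g1 : ad f ^ 2 * ad x * (ad f ^ 2)⁻¹ = (ad x)⁻¹ := by
    calc _ = ad f * (ad f * ad x * (ad f)⁻¹) * (ad f)⁻¹ := by rw [pow_two]; group
      _ = _ := by rw [f3, conj_inv.symm, f4]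
  have g2 : ad f ^ 2 * ad y * (ad f ^ 2)⁻¹ = (ad y)⁻¹ := by
    calc _ = ad f * (ad f * ad y * (ad f)⁻¹) * (ad f)⁻¹ := by rw [pow_two]; group
      _ = _ := by rw [f4, f3]
  have g3 : ∀ {ν : RingAut A}, ad f ^ 2 * ν * (ad f ^ 2)⁻¹ = ν⁻¹ → Commute (ad f ^ 4) ν := fun {ν} e => by
    rw [Commute, SemiconjBy, ← mul_inv_eq_iff_eq_mul]
    calc _ = ad f ^ 2 * (ad f ^ 2 * ν * (ad f ^ 2)⁻¹) * (ad f ^ 2)⁻¹ := by group
      _ = _ := by rw [e, conj_inv.symm, e, inv_inv]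
  have g4 : ad f ^ 4 ∈ N := by
    rw [← ad_pow f1]
    refine E.σ.cent (f1.pow 4) fun ν hν => ?_
    obtain ⟨w, hw, rfl⟩ := E.σ.exists_lf hν
    obtain ⟨i, -, j, -, e1, e2⟩ := E.split hx hy h2 hw
    have e3 := ((hx.pow i).mul (hy.pow j)).mul hw
    have e4 : Commute (ad f) (ad (x ^ i * y ^ j * w)) := by
      rw [Commute, SemiconjBy, ← ad_mul f1 e3.1, ← f7 _ e1 e2, ad_mul e3.1 f1]
    rw [ad_mul ((hx.pow i).mul (hy.pow j)).1 hw.1, ad_mul (hx.1.pow i) (hy.1.pow j), ad_pow hx.1, ad_pow hy.1] at e4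
    rw [ad_pow f1]
    have e5 := (((g3 g1).pow_right i).mul_right ((g3 g2).pow_right j)).inv_right.mul_right (e4.pow_left 4)
    rwa [inv_mul_cancel_left] at e5
  have g5 : ∀ {ν : RingAut A}, ad f ^ 2 * ν * (ad f ^ 2)⁻¹ = ν⁻¹ → (ad f ^ r) ^ 2 * ν * ((ad f ^ r) ^ 2)⁻¹ = ν⁻¹ :=
    fun {ν} e => by
    obtain ⟨m, hm⟩ := E.σ.prime.odd_of_ne_two hr
    rw [← pow_mul, show r * 2 = 2 + 4 * m by omega, pow_add, pow_mul, mul_assoc _ _ ν, ((g3 e).pow_left m).eq, ← e]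
    group
  have g6 : (ad f ^ r) ^ 4 = 1 := by rw [← pow_mul, mul_comm, pow_mul, E.σ.exp _ g4]
  refine ⟨f ^ r, f1.pow r, ?_⟩
  rw [ad_pow f1]
  refine ⟨f5, g6, fun ν hν => ?_, fun w h1 h2 => (show Commute w f from f7 w ((x3 w).1 h1) ((y3 w).1 h2)).pow_right r,
    ⟨hx.2, g5 g1⟩, hy.2, g5 g2⟩
  have := Cyc.finAut (A := A)
  exact (Subgroup.mem_normalizer_iff.1 (Subgroup.pow_mem _ (Subgroup.mem_normalizer_fintype f6) r) ν).1 hν

theorem eq_one_of_inv (hr : r ≠ 2) {ν : RingAut A} (hν : ν ∈ N) (h : ν = ν⁻¹) : ν = 1 :=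
  Subgroup.mem_bot.1 (mem_of_coprime ((Nat.coprime_primes Nat.prime_two E.σ.prime).2 hr.symm)
    (by rw [Subgroup.mem_bot, pow_two]; nth_rw 2 [h]; rw [mul_inv_cancel]) (E.σ.exp ν hν))

/-- **two planes** -/
theorem odd_big (hr : r ≠ 2) (hN : r ^ 2 < Nat.card N) : ∃ g t, Un g ∧ ad g ∈ F.S ∧ (∀ ν ∈ N, ad g * ν * (ad g)⁻¹ ∈ N) ∧
    Cyc.cU g ≤ Nat.card (Subring.center A) ^ t ∧ 9 * t ≤ Nat.card N := by
  have := Cyc.finAut (A := A)
  obtain ⟨x, y, hx, hy, h1⟩ := E.exists_pair E.nd_top E.σ.ne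
  obtain ⟨u, v, hu, hv, h2⟩ := E.exists_pair (E.nd_pp E.nd_top hx hy h1) fun e => by
    have := E.le_card_pp le_rfl hx hy h1
    rw [e, Subgroup.card_bot] at this
    omega
  obtain ⟨u1, u2, -⟩ := lf_pp.1 hu
  obtain ⟨v1, v2, -⟩ := lf_pp.1 hv
  obtain ⟨f, f1, f2, f3, f4, f5, f6, f7⟩ := E.exists_four hr u1 v1 h2
  have c1 : Commute (ad f) (ad x) := by
    rw [Commute, SemiconjBy, ← ad_mul f1 hx.1, ← f5 x u2.symm v2.symm, ad_mul hx.1 f1]
  obtain ⟨t, t1, t2⟩ := fx_K E.σ f1 (K := N ⊓ St x) inf_le_left f4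
    (fun ν hν => ⟨f4 ν hν.1, (E.conj_ap (E.σ.mem_PI f1) hν.1 hx c1).trans hν.2⟩) (by norm_num) f3
    (fun a => x * a = a * x ∧ f * a = a * f)
    (fun a b ha hb => ⟨by rw [mul_sub, sub_mul, ha.1, hb.1], by rw [mul_sub, sub_mul, ha.2, hb.2]⟩) (fun a ha => ha.2)
    fun ν hν h => ⟨x, hx, fun e => h ⟨hν, e⟩, fun a ha => ha.1⟩
  refine ⟨x * f, t, hx.1.mul f1, ?_, fun ν hν => ?_, (cU_le_card _ fun a ha => ?_).trans t1, ?_⟩
  · rw [ad_mul hx.1 f1]
    exact F.S.mul_mem (E.σ.le hx.2) f2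
  · rw [ad_mul hx.1 f1]
    simpa only [mul_inv_rev, mul_assoc] using N.mul_mem (N.mul_mem hx.2 (f4 ν hν)) (N.inv_mem hx.2)
  · have h3 : ad x * ad f ∈ St a := by
      rw [← ad_mul hx.1 f1]
      exact (ad_mem_St (hx.1.mul f1)).2 ha.symm
    have h4 : ad x ∈ St a := mem_of_coprime (a := 4) (b := r)
      (((Nat.coprime_primes Nat.prime_two E.σ.prime).2 hr.symm).pow_left 2)
      (by simpa only [c1.symm.mul_pow, f3, mul_one] using Subgroup.pow_mem _ h3 4)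
      (by rw [E.σ.exp _ hx.2]; exact Subgroup.one_mem _)
    exact ⟨(ad_mem_St hx.1).1 h4, (ad_mem_St f1).1 ((Subgroup.mul_mem_cancel_left _ h4).1 h3)⟩
  · have h3 : r ^ 2 ≤ Nat.card ↥(Iv N E.σ.comm (ad f ^ 2) ⊓ St x) :=
      le_trans (Nat.le_mul_of_pos_left _ Nat.card_pos) (E.card_pp (M := Iv N E.σ.comm (ad f ^ 2) ⊓ St x) (fun _ h => h.1.1) (u := u) (v := v)
        ⟨u1.1, f6, (ad_mem_St u1.1).2 u2⟩ ⟨v1.1, f7, (ad_mem_St v1.1).2 v2⟩ h2)
    have h4 : ∀ k, ad f ^ 2 ∈ Subgroup.zpowers (ad f ^ k) →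
        Nat.card (cN (N ⊓ St x) (ad f ^ k)) * r ^ 2 ≤ Nat.card ↥(N ⊓ St x) := fun k hk =>
      (Nat.mul_le_mul_left _ h3).trans (card_mul_le_of_disj inf_le_left (fun _ h => ⟨h.1.1, h.2⟩) fun ν a1 a2 => by
        obtain ⟨j, hj⟩ := hk
        refine E.eq_one_of_inv hr a1.1.1 ?_
        rw [← a1.1.2, ← hj, ((show Commute (ad f ^ k) ν from (mem_cN.1 a2).2).zpow_left j).eq, mul_inv_cancel_right])
    have k1 := h4 1 (by rw [pow_one]; exact Subgroup.pow_mem _ (Subgroup.mem_zpowers _) 2)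
    have k2 := h4 2 (Subgroup.mem_zpowers _)
    have k3 := h4 3 (by
      rw [show ad f ^ 2 = (ad f ^ 3) ^ 2 by rw [← pow_mul, show 3 * 2 = 4 + 2 from rfl, pow_add, f3, one_mul]]
      exact Subgroup.pow_mem _ (Subgroup.mem_zpowers _) 2)
    have k4 : Nat.card (cN (N ⊓ St x) (ad f ^ 0)) ≤ Nat.card ↥(N ⊓ St x) := Subgroup.card_le_of_le inf_le_left
    have k5 := E.card_St le_rfl hy h1.symm
    simp only [Finset.sum_range_succ, Finset.range_zero, Finset.sum_empty] at t2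
    have k6 : 3 ≤ r := lt_of_le_of_ne E.σ.prime.two_le hr.symm
    have k7 : t * 4 * r ^ 2 ≤ Nat.card ↥(N ⊓ St x) * (r ^ 2 + 3) := by
      have := Nat.mul_le_mul_right (r ^ 2) k4
      rw [t2]
      linarith only [k1, k2, k3, this]
    refine Nat.le_of_mul_le_mul_right ?_ (show 0 < 4 * r ^ 3 by positivity)
    calc 9 * t * (4 * r ^ 3) = t * 4 * r ^ 2 * (9 * r) := by ring
      _ ≤ Nat.card ↥(N ⊓ St x) * (r ^ 2 + 3) * (9 * r) := Nat.mul_le_mul_right _ k7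
      _ = Nat.card ↥(N ⊓ St x) * r * (9 * (r ^ 2 + 3)) := by ring
      _ ≤ _ := Nat.mul_le_mul k5 (by linarith only [Nat.mul_le_mul_right (r ^ 2) k6, Nat.pow_le_pow_left k6 2])

omit E in
/-- elements with support in `K` -/
theorem ind_K (σ : Sit F N r) {K : Subgroup (RingAut A)} {a : A}
    (h : ∀ ν ∈ N, ν ∉ K → ∃ y, Lf N y ∧ ν y ≠ y ∧ y * a = a * y) {P : A → Prop} (h0 : P 0)
    (h1 : ∀ a b, P a → P b → P (a + b)) (h2 : ∀ c ∈ Subring.center A, ∀ u, Lf K u → P (c * u)) : P a := by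
  have := Cyc.finAut (A := A)
  let _ : Fintype N := Fintype.ofFinite _
  obtain ⟨s, co, hs, hs', hc⟩ := σ.exists_co
  rw [← hc a]
  refine Finset.sum_induction _ P h1 h0 fun ν _ => ?_
  by_cases hν : (ν : RingAut A) ∈ K
  · exact h2 _ (co a ν).2 _ ⟨(hs ν).1, by rwa [hs']⟩
  obtain ⟨u, hu, h5, h6⟩ := h ν ν.2 hν
  have h7 : ∀ ν, ∃ lam : Subring.center A, Un (lam : A) ∧ u * s ν * star u = lam * s ν := fun ν =>
    Sit.exists_lam hs hs' ((hu.mul (hs ν)).mul hu.st) (by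
      rw [ad_mul (hu.1.mul (hs ν).1) hu.1.st, ad_mul hu.1 (hs ν).1, ad_star hu.1, hs', σ.comm _ hu.2 _ ν.2,
        mul_inv_cancel_right])
  choose lam' h7 h8 using h7
  have h9 : (lam' ν : A) ≠ 1 := fun e => h5 (by
    have h3 := h8 ν
    rw [e, one_mul, ← ad_apply hu.1, ad_fix hu.1] at h3
    rw [← hs', ad_fix (hs ν).1, h3])
  have h10 := Sit.co_conj hc 1 lam' h8 a ν
  rw [h6, mul_assoc, hu.1.ms, mul_one] at h10
  have h11 : (co a ν : A) = 0 := by
    refine (σ.sub_unit (lam' ν).2 (h7 ν) (Subring.one_mem _) Un.one h9).mul_right_eq_zero.1 ?_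
    rw [sub_mul, sub_eq_zero, one_mul]
    exact (congrArg Subtype.val h10).symm
  rwa [h11, zero_mul]

/-- **one plane** -/
theorem odd_small (hr : r ≠ 2) (hN : Nat.card N = r ^ 2) {ι : Type} (e : ι → A) (e1 : ∀ i, e i ∈ Subring.center A)
    (e2 : ∀ i, star (e i) = e i) (e3 : ∀ i j, i ≠ j → IsUnit (e i - e j)) (e4 : 2 ≤ Nat.card ι)
    (hz : Nat.card (Subring.center A) ≤ Nat.card ι ^ 2)
    (h : ((Nat.card ι + 1) ^ r) ^ 3 * r ^ 5 ≤ 8 * Nat.card F.S) : Gd F H := by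
  have := Cyc.finAut (A := A)
  have hp := E.σ.prime.pos
  obtain ⟨x₀, y, hx₀, hy, h0⟩ := E.exists_pair E.nd_top E.σ.ne
  obtain ⟨c, c1, c2, x1⟩ := (E.root.resolve_right fun h => hr h.1) x₀ hx₀
  have hx := (Lf.cen c1 c2).mul hx₀
  have h1 : c * x₀ * y ≠ y * (c * x₀) := fun e => h0 (c2.cancel (by rw [← mul_assoc, e, ← mul_assoc, ← mul_assoc, cen_comm c1]))
  generalize c * x₀ = x at x1 hx h1
  have h2 : ad x ≠ 1 := fun e => h1 (cen_comm ((ad_eq_one_iff hx.1).1 e) y).symm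
  have h3 : ∀ u v, Lf (N ⊓ St x) u → Lf (N ⊓ St x) v → u * v = v * u := fun u v hu hv => by
    by_contra h4
    have h5 := E.card_pp le_rfl (lf_mono inf_le_left hu) (lf_mono inf_le_left hv) h4
    rw [hN] at h5
    have h6 : pp N u v = ⊥ := (Subgroup.card_le_one_iff_eq_bot _).1
      (Nat.le_of_mul_le_mul_right (by rwa [one_mul]) (pow_pos hp 2))
    exact h2 (Subgroup.mem_bot.1 (h6 ▸ (lf_pp.2 ⟨hx, ((ad_mem_St hu.1).1 hu.2.2).symm, ((ad_mem_St hv.1).1 hv.2.2).symm⟩).2))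
  have h4 : ∀ {a}, a * x = x * a → ∀ ν ∈ N, ν ∉ N ⊓ St x → ∃ y, Lf N y ∧ ν y ≠ y ∧ y * a = a * y :=
    fun ha ν hν h => ⟨x, hx, fun e => h ⟨hν, e⟩, ha.symm⟩
  have h5 : Cyc.IsCyc x := fun a b ha hb =>
    ind_K E.σ (h4 ha) (P := fun a => a * b = b * a) (by simp) (fun _ _ h1 h2 => by rw [add_mul, mul_add, h1, h2])
      fun c hc u hu => ind_K E.σ (h4 hb) (P := fun b => c * u * b = b * (c * u)) (by simp)
        (fun _ _ h1 h2 => by rw [add_mul, mul_add, h1, h2]) fun d hd v hv => by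
          rw [cen_mul_mul hd, cen_mul_mul hc, h3 u v hu hv, cen_comm hd]
  obtain ⟨ρ, hρ, hρ'⟩ := E.exists_rho
  obtain ⟨c, c1, c2⟩ := Cyc.exists_tr_of_pow F hx.1 x1 (IsUnit.of_mul_eq_one_right ρ hρ')
  obtain ⟨ζ, a1, a2, a3⟩ := E.exists_cm hx hy
  have a4 : ζ ≠ star ζ := fun e => by
    have h5 := E.σ.prime.two_le
    have h6 := E.σ.pow_ne a2 (fun e => h1 (a3.eq e)) (i := 2) (j := 0) (by omega) hp (by
      rw [pow_two, pow_zero]; nth_rewrite 2 [e]; exact a1)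
    omega
  obtain ⟨t, t1, t2⟩ := E.σ.fx_lf hx h2
  have h6 := Cyc.cU_le_unit hx.1 h5 c1 c2 (cen_comm a3.1 x).symm (E.σ.sub_unit a3.1 a1 (star_cen a3.1) a1.st a4) e
    (fun i => (cen_comm (e1 i) x).symm) e2 e3 e4 (ν := r) (by
      refine le_trans (le_of_eq (Nat.card_congr (Equiv.subtypeEquivRight fun _ => eq_comm))) (t1.trans ?_)
      rw [← pow_mul, mul_comm, pow_mul]
      refine (Nat.pow_le_pow_right Nat.card_pos ?_).trans (Nat.pow_le_pow_left hz r)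
      exact Nat.le_of_mul_le_mul_right (by rwa [hN, pow_two] at t2) hp)
  obtain ⟨f, f1, f2, -, f4, -, f6, f7⟩ := E.exists_four hr hx hy h1
  have h7 : Iv N E.σ.comm (ad f ^ 2) = N := Subgroup.eq_of_le_of_card_ge (fun _ h => h.1) (hN.trans_le
    (le_trans (Nat.le_mul_of_pos_left _ Nat.card_pos) (E.card_pp (M := Iv N E.σ.comm (ad f ^ 2)) (fun _ h => h.1) ⟨hx.1, f6⟩ ⟨hy.1, f7⟩ h1)))
  obtain ⟨u, hu, k1, k2⟩ := exists_el hx.1 (E.σ.le hx.2)
  have k3 := two_mul_cc_le (H.subgroupOf F.S) (Cyc.el hu) (w := ⟨ad f ^ 2, F.S.pow_mem f2 2⟩)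
    (H.pow_mem (E.mem_H f2 f4) 2) fun g g' g1 g2 g3 e => h2 (by
      have h8 : ∀ g : F.S, IsConj (Cyc.el hu) g → (g : RingAut A) ^ r = 1 := fun g hg => by
        obtain ⟨s, rfl⟩ := isConj_iff.1 hg
        change (s * DS.Cl.cj A u * (s : RingAut A)⁻¹) ^ r = 1
        rw [conj_pow, k1, E.σ.exp _ hx.2, mul_one, mul_inv_cancel]
      have h9 := conj_pow_inv (E.min.nrm (g' : RingAut A) g3) (fun ν hν => (h7.ge hν).2) r _ hx.2
      rw [show (g' : RingAut A) * ad f ^ 2 = g from (congrArg Subtype.val e).symm, h8 g g1, h8 g' g2,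
        (E.σ.prime.odd_of_ne_two hr).neg_one_pow] at h9
      exact E.eq_one_of_inv hr hx.2 (by simpa using h9))
  have k4 := E.card_B (k := 1) hN
  refine N2.good_of_cc (a := Cyc.el hu) (show DS.Cl.cj A u ∈ H from k1 ▸ E.le hx.2) (k2.trans h6) le_rfl ?_
  rw [← Cyc.card_sub] at k4
  refine Nat.le_of_mul_le_mul_left ?_ (show 0 < 8 by norm_num)
  calc 8 * ((Nat.card ι + 1) ^ r * N2.cc (H.subgroupOf F.S) (Cyc.el hu)) ^ 3
      = ((Nat.card ι + 1) ^ r) ^ 3 * (2 * N2.cc (H.subgroupOf F.S) (Cyc.el hu)) ^ 3 := by ring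
    _ ≤ ((Nat.card ι + 1) ^ r) ^ 3 * Nat.card (H.subgroupOf F.S) ^ 3 := Nat.mul_le_mul_left _ (Nat.pow_le_pow_left k3 3)
    _ = ((Nat.card ι + 1) ^ r) ^ 3 * Nat.card (H.subgroupOf F.S) * Nat.card (H.subgroupOf F.S) ^ 2 := by ring
    _ ≤ 8 * Nat.card F.S * Nat.card (H.subgroupOf F.S) ^ 2 :=
        Nat.mul_le_mul_right _ ((Nat.mul_le_mul_left _ k4).trans h)
    _ = _ := by ring

end XC

end Cfsg.Agent.N2C.Ext
end

-- part: N2/Cl/Ext/Two
section
/-!
# N2 (S3519), class `pExt`: `r = 2` (helper22)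

`tt h a c * d` has order eight and is cyclic on two planes, `oo h i j` has order six on a quaternion plane.
-/

set_option autoImplicit false
set_option linter.unusedSectionVars false

namespace Cfsg.Agent.N2C.Ext

open Cfsg.Agent.DS.Cl Cfsg.Agent.DS.Cl.Fwd Cfsg.Agent.SB.Cl Cfsg.Agent.TH.Cl.Ext

/-- the elements with `γ² ν = ν + γ ν` -/
def Tw {Γ : Type*} [Group Γ] (N : Subgroup Γ) (hc : ∀ x ∈ N, ∀ y ∈ N, x * y = y * x) (γ : Γ)
    (hn : ∀ ν ∈ N, γ * ν * γ⁻¹ ∈ N) : Subgroup Γ where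
  carrier := {ν | ν ∈ N ∧ γ * (γ * ν * γ⁻¹) * γ⁻¹ = ν * (γ * ν * γ⁻¹)}
  mul_mem' := fun {a b} ha hb => ⟨N.mul_mem ha.1 hb.1, by
    rw [← conj_mul (b := γ) (a := a), ← conj_mul (b := γ) (a := γ * a * γ⁻¹), ha.2, hb.2, mul_assoc a, ← mul_assoc _ b, hc _ (hn a ha.1) b hb.1]
    simp only [mul_assoc]⟩
  one_mem' := ⟨N.one_mem, by simp⟩
  inv_mem' := fun {a} ha => ⟨N.inv_mem ha.1, by
    rw [← conj_inv, ← conj_inv, ha.2, hc a ha.1 _ (hn a ha.1), mul_inv_rev]⟩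

variable {A : Type} [Ring A] [StarRing A] [Finite A]

theorem card_le_sq {P Q : A → Prop} {w : A} (h : ∀ x, P x → ∃ p q, Q p ∧ Q q ∧ x = p + q * w) :
    Nat.card {x // P x} ≤ Nat.card {x // Q x} ^ 2 := by
  choose p q h1 h2 h3 using h
  rw [pow_two, ← Nat.card_prod]
  refine Nat.card_le_card_of_injective (fun x => (⟨p x.1 x.2, h1 _ _⟩, ⟨q x.1 x.2, h2 _ _⟩)) fun x y e => Subtype.ext ?_
  rw [h3 x.1 x.2, h3 y.1 y.2, show p x.1 x.2 = p y.1 y.2 from congrArg (fun z => z.1.1) e,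
    show q x.1 x.2 = q y.1 y.2 from congrArg (fun z => z.2.1) e]

/-- the centraliser of `w` is generated by `w` and the centraliser of `w` and `t` -/
theorem dec {h t w w' x : A} (hh : Hf h) (ht : Un t) (h1 : t * t ∈ Subring.center A) (h2 : t * w = -(w * t))
    (h3 : w' * w = 1) (hx : Commute w x) : ∃ p q, (Commute w p ∧ Commute t p) ∧ (Commute w q ∧ Commute t q) ∧
      x = p + q * w ∧ ∀ y, Commute y x → Commute y t → Commute y w → Commute y p ∧ Commute y q := by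
  have a0 : ∀ y, Commute y h := fun y => cen_comm hh.cen y
  have a1 : ∀ {y}, Commute y w → Commute y w' := fun {y} e => by
    rw [Commute, SemiconjBy, ← one_mul (y * w'), ← h3, mul_assoc, ← mul_assoc w, ← e.eq, mul_assoc,
      mul_eq_one_comm.1 h3, mul_one]
  have a2 : ∀ {y}, Commute y t → Commute y (star t) := fun {y} e => ht.cancel (by
    rw [← mul_assoc, ← e.eq, mul_assoc, ht.ms, ← mul_assoc, ht.ms, mul_one, one_mul])
  have a3 : w * star t = -(star t * w) := ht.cancel (by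
    rw [← mul_assoc, h2, neg_mul, mul_assoc, ht.ms, mul_neg, ← mul_assoc, ht.ms, mul_one, one_mul])
  have a4 : Commute w (t * x * star t) := by
    rw [Commute, SemiconjBy, ← mul_assoc, ← mul_assoc, ← neg_neg (w * t), ← h2, neg_mul, neg_mul, mul_assoc t, hx.eq,
      ← mul_assoc, mul_assoc _ w, a3, mul_neg, neg_neg, ← mul_assoc]
  have a5 : t * (t * x * star t) = x * t := by
    rw [← mul_assoc, ← mul_assoc, ← cen_comm h1, mul_assoc, mul_assoc, ht.ms, mul_one]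
  have a6 : t * x * star t * t = t * x := by rw [mul_assoc, ht.sm, mul_one]
  have a7 : t * w' = -(w' * t) := by
    rw [← one_mul (t * w'), ← h3, mul_assoc, ← mul_assoc w, ← neg_neg (w * t), ← h2, neg_mul, mul_assoc,
      mul_eq_one_comm.1 h3, mul_one, mul_neg]
  refine ⟨h * (x + t * x * star t), h * (x - t * x * star t) * w', ⟨(a0 w).mul_right (hx.add_right a4),
    ?_⟩, ⟨((a0 w).mul_right (hx.sub_right a4)).mul_right (a1 (Commute.refl w)), ?_⟩, ?_, fun y b1 b2 b3 => ?_⟩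
  · rw [Commute, SemiconjBy, hh.out, mul_assoc h _ t, mul_add t, add_mul, a5, a6, add_comm]
  · rw [Commute, SemiconjBy, ← mul_assoc, hh.out, mul_assoc _ w', ← neg_neg (w' * t), ← a7, mul_neg,
      ← mul_assoc _ t w', mul_assoc h _ t, mul_sub t, sub_mul, a5, a6, ← neg_mul, ← mul_neg, neg_sub]
  · rw [mul_assoc _ w', h3, mul_one, ← mul_add, add_add_sub_cancel, hh.dbl]
  · have b4 := (b2.mul_right b1).mul_right (a2 b2)
    exact ⟨(a0 y).mul_right (b1.add_right b4), ((a0 y).mul_right (b1.sub_right b4)).mul_right (a1 b3)⟩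

/-- a plane -/
structure Pl (M : Subgroup (RingAut A)) (a b : A) : Prop where
  la : Lf M a
  lb : Lf M b
  aa : a * a = -1
  bb : b * b = 1 ∨ b * b = -1
  ba : b * a = -(a * b)

theorem Pl.ne [Nontrivial A] {M : Subgroup (RingAut A)} {h a b : A} (k : Pl M a b) (hh : Hf h) : a * b ≠ b * a :=
  fun e => (k.la.mul k.lb).1.isUnit.ne_zero (hh.eq_zero (e.trans k.ba))

theorem Pl.mono {M N : Subgroup (RingAut A)} {a b : A} (k : Pl M a b) (h : M ≤ N) : Pl N a b :=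
  ⟨lf_mono h k.la, lf_mono h k.lb, k.aa, k.bb, k.ba⟩

theorem Pl.qz {M : Subgroup (RingAut A)} {a b z : A} (k : Pl M a b) (h : b * b = -1) (h1 : Commute z a)
    (h2 : Commute z b) : Qz M z a b := ⟨k.la, k.lb, k.aa, h, k.ba, h1, h2⟩

theorem Pl.bc {M : Subgroup (RingAut A)} {a b : A} (k : Pl M a b) : b * b ∈ Subring.center A := by
  rcases k.bb with h | h <;> rw [h]
  exacts [Subring.one_mem _, Subring.neg_mem _ (Subring.one_mem _)]

/-- a product of two reflections -/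
def tt (h x y : A) : A := h * ((1 + x) * (1 + y))

section tt

variable {h x y c : A} (hh : Hf h)
include hh

omit hh in
theorem one_add_mul (hx : x * x = -1) : (1 + x) * (1 - x) = 1 + 1 := by
  rw [add_mul, mul_sub, mul_sub, hx]; simp only [mul_one, one_mul]; abel

omit hh in
theorem one_add_sq (hx : x * x = -1) : (1 + x) * (1 + x) = x + x := by
  rw [add_mul, mul_add, mul_add, hx]; simp only [mul_one, one_mul]; abel

theorem half_mul (hx : x * x = -1) : h * (1 - x) * (1 + x) = 1 := by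
  have h1 := one_add_mul (x := -x) (by rw [neg_mul_neg, hx])
  rw [sub_neg_eq_add, ← sub_eq_add_neg] at h1
  rw [mul_assoc, h1, hh.dbl]

theorem un_tt (hx : Un x) (hy : Un y) (xx : x * x = -1) (yy : y * y = -1) : Un (tt h x y) := by
  rw [Un, tt, star_mul, star_mul, hh.st, star_add, star_add, star_one, star_of_sq hx xx, star_of_sq hy yy,
    cen_comm hh.cen, mul_assoc, hh.out, mul_assoc, ← mul_assoc (1 + y), ← sub_eq_add_neg, ← sub_eq_add_neg,
    one_add_mul yy, add_mul 1 1, one_mul, mul_add (1 + x) (1 - x), hh.dbl, one_add_mul xx, hh.dbl]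

theorem tt_mul (cc : c * c = -1) (x y : A) : tt h x c * tt h c y = h * ((1 + x) * (c * (1 + y))) := by
  rw [tt, tt, mul_assoc, hh.out, mul_assoc, ← mul_assoc (1 + c), one_add_sq cc, add_mul c, mul_add (1 + x), hh.dbl]

theorem tt_sq (xx : x * x = -1) (yy : y * y = -1) (e : Commute x y) : tt h x y * tt h x y = x * y := by
  have h1 : (1 + x) * (1 + y) = (1 + y) * (1 + x) := (Commute.one_left _).add_left ((Commute.one_right x).add_right e)
  nth_rw 2 [tt]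
  rw [h1, ← tt, tt_mul hh yy, ← mul_assoc (1 + x), ((Commute.one_left y).add_left e).eq, mul_assoc,
    one_add_sq xx, mul_add, hh.dbl, e.eq]

omit hh in
theorem tt_oo (h x y : A) : tt h x y = oo h x y := by
  rw [tt, oo, add_mul, mul_add 1, mul_add x]
  simp only [mul_one, one_mul]
  congr 1
  abel

end tt

namespace XC

variable {F : FR A} {H N : Subgroup (RingAut A)} {p : ℕ} (E : XC F H N p 2)
include E

theorem exists_hf : ∃ h : A, Hf h := by
  obtain ⟨h, h1, h2⟩ := E.exists_rho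
  exact ⟨h, h1, by simpa only [_root_.Nat.cast_ofNat] using h2⟩

theorem pm {κ : A} (h1 : κ ∈ Subring.center A) (h2 : Un κ) (h3 : κ * κ = 1) : κ = 1 ∨ κ = -1 :=
  or_iff_not_imp_left.2 (SB.C2.sq_eq_neg E.σ.ss h1 h2 h3)

theorem ca {u v : A} (hu : Lf N u) (hv : Lf N v) : u * v = v * u ∨ u * v = -(v * u) := by
  obtain ⟨κ, h1, h2, h3, h4⟩ := E.σ.exists_kap hu hv
  rcases E.pm h1 h2 ((pow_two κ).symm.trans h3) with rfl | rfl
  · exact Or.inl (by rw [h4, one_mul])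
  · exact Or.inr (by rw [h4, neg_one_mul])

theorem nm_tau {w : A} (hw : Lf N w) (h : w * w = -1) : Nm N (1 + w) := fun u hu => by
  rcases E.ca hw hu with e | e
  · exact ⟨u, hu, by rw [add_mul, mul_add, e, one_mul, mul_one]⟩
  · exact ⟨w * u, hw.mul hu, by
      rw [add_mul, mul_add, one_mul, mul_one, add_comm, mul_assoc, ← neg_neg (u * w), ← neg_eq_iff_eq_neg.2 e, neg_neg,
        mul_neg, ← mul_assoc, h, neg_one_mul, neg_neg]⟩

open DS.Cl.Ext in
theorem norm {u : A} (hu : Lf N u) : ∃ v, Un v ∧ ad v = ad u ∧ (v * v = 1 ∨ v * v = -1) := by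
  have h0 : ∀ c ∈ Subring.center A, Un c → Un (c * u) ∧ ad (c * u) = ad u := fun c h1 h2 =>
    ⟨h2.mul hu.1, by rw [ad_mul h2 hu.1, ad_cen h1, one_mul]⟩
  rcases E.root with h | ⟨-, h⟩
  · obtain ⟨c, h1, h2, h3⟩ := h u hu
    exact ⟨_, (h0 c h1 h2).1, (h0 c h1 h2).2, Or.inl ((pow_two _).symm.trans h3)⟩
  · have h1 := E.σ.pow_cen hu
    have h2 := hu.pow 2
    let c : Uh F N := ⟨⟨mkU _ h2.1, by
      change DS.Cl.cj A _ ∈ N
      rw [← ad_val]
      exact h2.2, E.σ.mem_Iso h2.1⟩, h1⟩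
    have h3 : (u ^ 2) ^ Nat.card (Uh F N) = 1 :=
      congrArg (fun x : Uh F N => (((x : Nh F N) : Aˣ) : A)) (pow_card_eq_one' (x := c))
    obtain ⟨j, hj⟩ : ∃ j, Nat.card (Uh F N) ∣ (2 * j + 1) * 2 := by
      generalize Nat.card (Uh F N) = n at h
      rcases Nat.even_or_odd' n with ⟨k, rfl | rfl⟩
      · exact ⟨k / 2, Dvd.intro 1 (by omega)⟩
      · exact ⟨k, dvd_mul_right _ _⟩
    have h4 : (u ^ 2) ^ j * u * ((u ^ 2) ^ j * u) = (u ^ 2) ^ (2 * j + 1) := by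
      simp only [← pow_mul, ← pow_succ, ← pow_add]
      congr 1
      omega
    refine ⟨_, (h0 _ (Subring.pow_mem _ h1 j) (h2.1.pow j)).1, (h0 _ (Subring.pow_mem _ h1 j) (h2.1.pow j)).2, ?_⟩
    rw [h4]
    exact E.pm (Subring.pow_mem _ h1 _) (h2.1.pow _) (by
      obtain ⟨k, hk⟩ := hj
      rw [← pow_two, ← pow_mul, hk, pow_mul, h3, one_pow])

variable {M : Subgroup (RingAut A)}

theorem exists_pl (hM : Nd N M) (h : M ≠ ⊥) : ∃ a b, Pl M a b := by
  obtain ⟨u₀, v₀, hu₀, hv₀, h0⟩ := E.exists_pair hM h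
  obtain ⟨u, u1, u2, u3⟩ := E.norm (lf_mono hM.le hu₀)
  obtain ⟨v, v1, v2, v3⟩ := E.norm (lf_mono hM.le hv₀)
  have hu : Lf M u := ⟨u1, u2 ▸ hu₀.2⟩
  have hv : Lf M v := ⟨v1, v2 ▸ hv₀.2⟩
  have h1 : u * v = -(v * u) := (E.ca (lf_mono hM.le hu) (lf_mono hM.le hv)).resolve_left fun e => h0 (by
    rw [← ad_fix hu₀.1, ← u2, ad_fix u1, eq_comm, ← ad_fix hv₀.1, ← v2, ad_fix v1, e])
  rcases u3 with u3 | u3
  · rcases v3 with v3 | v3
    · exact ⟨u * v, v, hu.mul hv, hv, by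
        rw [mul_assoc, ← mul_assoc v, ← neg_neg (v * u), ← h1, neg_mul, mul_assoc, v3, mul_one, mul_neg, u3],
        Or.inl v3, by rw [← mul_assoc, ← neg_neg (v * u), ← h1, neg_mul]⟩
    · exact ⟨v, u, hv, hu, v3, Or.inl u3, h1⟩
  · exact ⟨u, v, hu, hv, u3, v3, by rw [h1, neg_neg]⟩

theorem pp_ne (hM : M ≤ N) {a b : A} (k : Pl M a b) (h : 4 < Nat.card M) : pp M a b ≠ ⊥ := fun e => by
  obtain ⟨h', hh⟩ := E.exists_hf
  have := E.σ.ss.nontrivial
  have := E.le_card_pp hM k.la k.lb (k.ne hh)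
  rw [e, Subgroup.card_bot] at this
  omega

theorem exists_q (hM : Nd N M) (h : 4 < Nat.card M) : ∃ a b, Pl M a b ∧ b * b = -1 := by
  obtain ⟨h', hh⟩ := E.exists_hf
  have := E.σ.ss.nontrivial
  obtain ⟨a, b, k⟩ := E.exists_pl hM fun e => by simp [e] at h
  rcases k.bb with h1 | h1
  · obtain ⟨c, d, k'⟩ := E.exists_pl (E.nd_pp hM k.la k.lb (k.ne hh)) (E.pp_ne hM.le k h)
    obtain ⟨c1, c2, c3⟩ := lf_pp.1 k'.la
    have h2 : b * c * (b * c) = -1 := by rw [mul_assoc, ← mul_assoc c, c3, mul_assoc, k'.aa, ← mul_assoc, h1, one_mul]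
    exact ⟨a, b * c, ⟨k.la, k.lb.mul c1, k.aa, Or.inr h2, by
      rw [mul_assoc, c2, ← mul_assoc, k.ba, neg_mul, mul_assoc]⟩, h2⟩
  · exact ⟨a, b, k, h1⟩

variable {h : A} (hh : Hf h)
include hh

theorem nm_tt {x y : A} (hx : Lf N x) (hy : Lf N y) (xx : x * x = -1) (yy : y * y = -1) :
    ∀ ν ∈ N, ad (tt h x y) * ν * (ad (tt h x y))⁻¹ ∈ N :=
  E.σ.norm_of_nm (un_tt hh hx.1 hy.1 xx yy) ((Nm.cen hh.cen).mul ((E.nm_tau hx xx).mul (E.nm_tau hy yy)))

theorem oo_S {c x y : A} (hc : Lf N c) (cc : c * c = -1) (q : Qz N c x y) : ad (oo h x y) ∈ F.S := by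
  have h1 : ∀ {x y}, Lf N x → Lf N y → x * x = -1 → y * y = -1 → Commute x y → ad (tt h x y) ^ 2 ∈ F.S :=
    fun hx hy xx yy e => by
      rw [← ad_pow (un_tt hh hx.1 hy.1 xx yy), pow_two, tt_sq hh xx yy e]
      exact E.σ.le (hx.mul hy).2
  have h2 := un_tt hh q.la.1 hc.1 q.aa cc
  have h3 := un_tt hh hc.1 q.lb.1 cc q.bb
  have h4 := E.ps_mul (h2.mul h3) hc.1.st (E.ps_mul h2 h3 (h1 q.la hc q.aa cc q.za.symm) (h1 hc q.lb cc q.bb q.zb))
    (F.S.pow_mem (E.σ.le hc.st.2) 2)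
  rw [tt_mul hh cc, ((Commute.one_right c).add_right q.zb).eq, ← mul_assoc (1 + x), ← mul_assoc, ← tt, mul_assoc,
    hc.1.ms, mul_one, tt_oo] at h4
  refine mem_of_coprime (a := 2) (b := 3) (by norm_num) h4 ?_
  rw [← ad_pow (q.un_oo hh), pow_three, q.oo_cube hh, ad_neg Un.one, ad_one]
  exact F.S.one_mem

theorem tt_S {a b c d j : A} (k : Pl N a b) (k' : Pl N c d) (hj : Lf N j) (jj : j * j = -1) 
    (h2 : Commute a d) (h3 : Commute b c) (h4 : Commute b d) (j1 : Commute j a) (j2 : Commute j b) (j3 : Commute j c)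
    (j4 : Commute j d) : ad (tt h a c) ∈ F.S := by
  obtain ⟨e, e1, e2, e3, e4, e5⟩ : ∃ e, Lf N e ∧ e * e = -1 ∧ e * a = -(a * e) ∧ c * e = -(e * c) ∧ Commute j e := by
    have a1 : b * d * a = -(a * (b * d)) := by rw [mul_assoc, ← h2.eq, ← mul_assoc, k.ba, neg_mul, mul_assoc]
    have a2 : c * (b * d) = -(b * d * c) := by rw [← mul_assoc, ← h3.eq, mul_assoc, mul_assoc, k'.ba, mul_neg, neg_neg]
    have a3 : b * d * (b * d) = 1 ∨ b * d * (b * d) = -1 := by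
      rw [← h4.mul_mul_mul_comm]
      rcases k.bb with e | e <;> rcases k'.bb with e' | e' <;> simp [e, e']
    rcases a3 with a3 | a3
    · refine ⟨b * d * j, (k.lb.mul k'.lb).mul hj, ?_, ?_, ?_, (j2.mul_right j4).mul_right (Commute.refl j)⟩
      · rw [← (j2.mul_right j4).symm.mul_mul_mul_comm, a3, jj, one_mul]
      · rw [mul_assoc, j1.eq, ← mul_assoc, a1, neg_mul, mul_assoc]
      · rw [← mul_assoc, a2, neg_mul, mul_assoc, ← j3.eq, ← mul_assoc]
    · exact ⟨b * d, k.lb.mul k'.lb, a3, a1, a2, j2.mul_right j4⟩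
  have q1 : Qz N j a e := ⟨k.la, e1, k.aa, e2, e3, j1, e5⟩
  have q2 : Qz N j e (-c) := ⟨e1, k'.la.neg, e2, by rw [neg_mul_neg, k'.aa], by rw [neg_mul, mul_neg, e4], e5, j3.neg_right⟩
  have h5 := F.S.mul_mem (F.S.mul_mem (E.oo_S hh hj jj q1) (E.oo_S hh hj jj q2)) (E.σ.le e1.st.2)
  rw [← ad_mul (q1.un_oo hh) (q2.un_oo hh), ← ad_mul ((q1.un_oo hh).mul (q2.un_oo hh)) e1.1.st, ← tt_oo, ← tt_oo,
    tt_mul hh e2, show e * (1 + -c) = (1 + c) * e by rw [mul_add, add_mul, mul_neg, e4, mul_one, one_mul],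
    ← mul_assoc (1 + a), ← mul_assoc, ← tt, mul_assoc, e1.1.ms, mul_one] at h5
  exact h5

/-- **the element of order eight**, times an element `o` of order three -/
theorem exists_g {a b c d j o : A} (k : Pl N a b) (k' : Pl N c d) (hj : Lf N j) (jj : j * j = -1) (h1 : Commute a c)
    (h2 : Commute a d) (h3 : Commute b c) (h4 : Commute b d) (j1 : Commute j a) (j2 : Commute j b) (j3 : Commute j c)
    (j4 : Commute j d) (ho : Un o) (o1 : ad o ∈ F.S) (o2 : ∀ ν ∈ N, ad o * ν * (ad o)⁻¹ ∈ N) (o3 : ad o ^ 3 = 1)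
    (oa : Commute o a) (ob : Commute o b) (oc : Commute o c) (od : Commute o d) :
    ∃ g w, Un g ∧ ad g ∈ F.S ∧ (∀ ν ∈ N, ad g * ν * (ad g)⁻¹ ∈ N) ∧ a * g = g * a ∧
      (∃ s, s * g = g * s ∧ star s = s ∧ s * s = 1 + 1) ∧
      (∀ x, x * g = g * x → Commute o x ∧ Commute a x ∧ Commute w x) ∧
      (∀ x, Commute o x ∧ Commute a x ∧ Commute w x → ∃ p q, (Commute o p ∧ Commute a p ∧ Commute b p ∧ Commute w p) ∧
        (Commute o q ∧ Commute a q ∧ Commute b q ∧ Commute w q) ∧ x = p + q * a) ∧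
      ∀ x, Commute o x ∧ Commute a x ∧ Commute b x ∧ Commute w x → ∃ p q,
        (Commute o p ∧ Commute a p ∧ Commute b p ∧ Commute c p ∧ Commute d p) ∧
        (Commute o q ∧ Commute a q ∧ Commute b q ∧ Commute c q ∧ Commute d q) ∧ x = p + q * w := by
  have t1 := un_tt hh k.la.1 k'.la.1 k.aa k'.aa
  have w0 : ∀ {y}, Commute y c → Commute y d → Commute y ((1 + c) * d) := fun e e' =>
    ((Commute.one_right _).add_right e).mul_right e'
  have w1 : (1 + c) * d * ((1 + c) * d) = d * d + d * d := by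
    rw [mul_assoc, ← mul_assoc d, mul_add d, k'.ba, mul_one, ← sub_eq_add_neg, ← one_sub_mul, mul_assoc, ← mul_assoc,
      one_add_mul k'.aa, add_mul, one_mul]
  have w2 : d * d * (d * d) = 1 := by rcases k'.bb with e | e <;> simp [e]
  have w3 : tt h a c * d = h * (1 + a) * ((1 + c) * d) := by rw [tt]; simp only [mul_assoc]
  have w4 : c * ((1 + c) * d) = -((1 + c) * d * c) := by
    rw [← mul_assoc, ((Commute.one_right c).add_right (Commute.refl c)).eq, mul_assoc, mul_assoc, k'.ba, mul_neg, neg_neg]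
  have w5 : ∀ {y}, Commute ((1 + c) * d) y → Commute c y → Commute d y := fun {y} e e' => by
    have e1 := ((Commute.one_left y).sub_left e').mul_left e
    rw [← mul_assoc] at e1
    have e2 := (show Commute h y from (cen_comm hh.cen y).symm).mul_left e1
    rwa [← mul_assoc, ← mul_assoc, half_mul hh k'.aa, one_mul] at e2
  have wa := w0 h1 h2
  have wb := w0 h3 h4
  have wo := w0 oc od
  have u1 := t1.mul k'.lb.1
  have u2 : ad (tt h a c * d) ∈ F.S := by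
    rw [ad_mul t1 k'.lb.1]
    exact F.S.mul_mem (E.tt_S hh k k' hj jj h2 h3 h4 j1 j2 j3 j4) (E.σ.le k'.lb.2)
  have u3 : ∀ ν ∈ N, ad (tt h a c * d) * ν * (ad (tt h a c * d))⁻¹ ∈ N := fun ν hν => by
    rw [ad_mul t1 k'.lb.1]
    simpa only [mul_inv_rev, mul_assoc] using
      E.nm_tt hh k.la k'.la k.aa k'.aa _ (N.mul_mem (N.mul_mem k'.lb.2 hν) (N.inv_mem k'.lb.2))
  rw [w3] at u1 u2 u3
  generalize (1 + c) * d = w at w1 w4 w5 wa wb wo u1 u2 u3
  have c0 : ∀ y, Commute y h := fun y => cen_comm hh.cen y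
  have c1 : ∀ {y}, Commute y a → Commute y w → Commute y (h * (1 + a) * w) := fun e e' =>
    ((c0 _).mul_right ((Commute.one_right _).add_right e)).mul_right e'
  have u4 : h * (1 + a) * w * (h * (1 + a) * w) = a * (d * d) := by
    rw [← ((c0 w).mul_right ((Commute.one_right w).add_right wa.symm)).symm.mul_mul_mul_comm, w1, cen_mul_mul hh.cen,
      one_add_sq k.aa, mul_assoc h, hh.dbl, mul_assoc,
      mul_add, hh.dbl]
  have u5 : ∀ {y}, Commute a y → Commute (h * (1 + a) * w) y → Commute w y := fun {y} e e' => by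
    have e2 := ((Commute.one_left y).sub_left e).mul_left e'
    rwa [← mul_assoc, ← mul_assoc, (c0 _).eq, half_mul hh k.aa, one_mul] at e2
  have uo := c1 oa wo
  have ua := c1 (Commute.refl a) wa
  generalize h * (1 + a) * w = u at u1 u2 u3 u4 u5 uo ua
  have u6 : ad u ^ 2 = ad a := by
    rw [← ad_pow u1, pow_two, u4, ad_mul k.la.1 (k'.lb.1.mul k'.lb.1), ad_cen k'.bc, mul_one]
  have u7 : Commute (ad o) (ad u) := by rw [Commute, SemiconjBy, ← ad_mul ho u1, uo.eq, ad_mul u1 ho]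
  have u8 : Commute (star u) u := u1.sm.trans u1.ms.symm
  refine ⟨o * u, w, ho.mul u1, ?_, fun ν hν => ?_, oa.symm.mul_right ua, ⟨u + star u, ?_, by rw [star_add, star_star, add_comm], ?_⟩,
    fun x hx => ?_, fun x hx => ?_, fun x hx => ?_⟩
  · rw [ad_mul ho u1]
    exact F.S.mul_mem o1 u2
  · rw [ad_mul ho u1]
    simpa only [mul_inv_rev, mul_assoc] using o2 _ (u3 ν hν)
  · exact (uo.symm.mul_right (Commute.refl u)).add_left
      ((show Commute (star u) o from u1.cancel (by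
        rw [← mul_assoc, u1.ms, ← mul_assoc, ← uo.eq, mul_assoc, u1.ms, mul_one, one_mul])).mul_right u8)
  · rw [add_mul, mul_add, mul_add, u1.ms, u1.sm, ← star_mul, u4, star_mul, star_of_sq k.la.1 k.aa,
      show star (d * d) = d * d by rcases k'.bb with e | e <;> simp [e], mul_neg, cen_comm k'.bc]
    abel
  · have x1 : ad o * ad u ∈ St x := by
      rw [← ad_mul ho u1]
      exact (ad_mem_St (ho.mul u1)).2 hx.symm
    have x2 : ad u ∈ St x := mem_of_coprime (a := 3) (b := 4) (by norm_num)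
      (by simpa only [u7.mul_pow, o3, one_mul] using Subgroup.pow_mem _ x1 3)
      (by rw [show 4 = 2 * 2 from rfl, pow_mul, u6, E.σ.exp _ k.la.2]; exact Subgroup.one_mem _)
    have x3 : Commute a x := (ad_mem_St k.la.1).1 (u6 ▸ Subgroup.pow_mem _ x2 2)
    exact ⟨(ad_mem_St ho).1 ((Subgroup.mul_mem_cancel_right _ x2).1 x1), x3, u5 x3 ((ad_mem_St u1).1 x2)⟩
  · obtain ⟨p, q, p1, q1, e, h5⟩ := dec hh k.lb.1 k.bc k.ba k.la.1.sm hx.2.1
    have h6 := h5 o hx.1 ob oa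
    have h7 := h5 w hx.2.2 wb.symm wa.symm
    exact ⟨p, q, ⟨h6.1, p1.1, p1.2, h7.1⟩, ⟨h6.2, q1.1, q1.2, h7.2⟩, e⟩
  · obtain ⟨p, q, p1, q1, e, h5⟩ := dec hh k'.la.1 (k'.aa ▸ Subring.neg_mem _ (Subring.one_mem _)) w4
      (w' := h * (d * d * w)) (by rw [mul_assoc, mul_assoc, w1, mul_add, w2, hh.dbl]) hx.2.2.2
    have h6 := h5 o hx.1 oc wo
    have h7 := h5 a hx.2.1 h1 wa
    have h8 := h5 b hx.2.2.1 h3 wb
    exact ⟨p, q, ⟨h6.1, h7.1, h8.1, p1.2, w5 p1.1 p1.2⟩, ⟨h6.2, h7.2, h8.2, q1.2, w5 q1.1 q1.2⟩, e⟩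

theorem comm_oo {i j x : A} (q : Pl N i j) (jj : j * j = -1) (h1 : Commute x i) (h2 : Commute x j) :
    Commute (oo h i j) x := ((q.qz jj h1 h2).z_oo hh).symm

omit hh in
theorem supp {a b c d x : A} (k : Pl N a b) (k' : Pl N c d) (h1 : Commute a x) (h2 : Commute b x) (h3 : Commute c x)
    (h4 : Commute d x) : ∀ ν ∈ N, ν ∉ pp (pp N a b) c d → ∃ y, Lf N y ∧ ν y ≠ y ∧ y * x = x * y := fun ν hν h0 => by
  by_contra h5
  push Not at h5
  exact h0 ⟨⟨⟨⟨hν, not_not.1 fun e => h5 a k.la e h1⟩, not_not.1 fun e => h5 b k.lb e h2⟩,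
    not_not.1 fun e => h5 c k'.la e h3⟩, not_not.1 fun e => h5 d k'.lb e h4⟩

omit hh in
/-- **four planes** -/
theorem two_big (hN : 64 < Nat.card N) : ∃ g t, Un g ∧ ad g ∈ F.S ∧ (∀ ν ∈ N, ad g * ν * (ad g)⁻¹ ∈ N) ∧
    Cyc.cU g ≤ Nat.card (Subring.center A) ^ t ∧ 32 * t ≤ 3 * Nat.card N := by
  have := Cyc.finAut (A := A)
  have := E.σ.ss.nontrivial
  obtain ⟨h, hh⟩ := E.exists_hf
  obtain ⟨i, j, q, jj⟩ := E.exists_q E.nd_top (by omega)
  have n1 := E.nd_pp E.nd_top q.la q.lb (q.ne hh)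
  have l1 := E.le_card_pp le_rfl q.la q.lb (q.ne hh)
  obtain ⟨i', j', q', jj'⟩ := E.exists_q n1 (by omega)
  have n2 := E.nd_pp n1 q'.la q'.lb (q'.ne hh)
  have l2 := E.le_card_pp n1.le q'.la q'.lb (q'.ne hh)
  obtain ⟨a, b, k⟩ := E.exists_pl n2 (E.pp_ne n1.le q' (by omega))
  obtain ⟨c, d, k'⟩ := E.exists_pl (E.nd_pp n2 k.la k.lb (k.ne hh)) (E.pp_ne n2.le k (by omega))
  obtain ⟨-, i1, i2⟩ := lf_pp.1 q'.la
  obtain ⟨-, j1, j2⟩ := lf_pp.1 q'.lb
  have e : ∀ {x}, Lf (pp (pp N i j) i' j') x → Commute x i ∧ Commute x j ∧ Commute x i' ∧ Commute x j' := fun hx =>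
    ⟨(lf_pp.1 (lf_pp.1 hx).1).2.1, (lf_pp.1 (lf_pp.1 hx).1).2.2, (lf_pp.1 hx).2.1, (lf_pp.1 hx).2.2⟩
  obtain ⟨c0, c1, c2⟩ := lf_pp.1 k'.la
  obtain ⟨d0, d1, d2⟩ := lf_pp.1 k'.lb
  have ea := e k.la
  have eb := e k.lb
  have ec := e c0
  have ed := e d0
  have r := q'.mono n1.le
  have s := k.mono n2.le
  have s' := k'.mono (pp_le.trans n2.le)
  have z := q.qz jj i1 i2
  have z' := r.qz jj' (show Commute i i' from i1.symm) (show Commute i j' from j1.symm)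
  have o1 := z.un_oo hh
  have o2 := z'.un_oo hh
  have o3 : ∀ {x}, Commute x i ∧ Commute x j ∧ Commute x i' ∧ Commute x j' → Commute (oo h i j * oo h i' j') x :=
    fun hx => (E.comm_oo hh q jj hx.1 hx.2.1).mul_left (E.comm_oo hh r jj' hx.2.2.1 hx.2.2.2)
  have o4 : Commute (oo h i j) i' := E.comm_oo hh q jj i1 i2
  have o5 : Commute (oo h i j) j' := E.comm_oo hh q jj j1 j2
  have o6 : Commute (oo h i' j') i := E.comm_oo hh r jj' i1.symm j1.symm
  have o7 : Commute (oo h i' j') j := E.comm_oo hh r jj' i2.symm j2.symm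
  have o8 : Commute (oo h i' j') (oo h i j) := E.comm_oo hh r jj' o4 o5
  have o9 : ∀ ν ∈ N, ad (oo h i j * oo h i' j') * ν * (ad (oo h i j * oo h i' j'))⁻¹ ∈ N := fun ν hν => by
    rw [ad_mul o1 o2, ← tt_oo, ← tt_oo]
    simpa only [mul_inv_rev, mul_assoc] using E.nm_tt hh q.la q.lb q.aa jj _ (E.nm_tt hh r.la r.lb r.aa jj' ν hν)
  have o10 : ad (oo h i j * oo h i' j') ^ 3 = 1 := by
    rw [← ad_pow (o1.mul o2), o8.symm.mul_pow, pow_three, pow_three, z.oo_cube hh, z'.oo_cube hh, neg_mul_neg, one_mul,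
      ad_one]
  have o11 : ad (oo h i j * oo h i' j') ∈ F.S := by
    rw [ad_mul o1 o2]
    exact F.S.mul_mem (E.oo_S hh r.la r.aa z) (E.oo_S hh q.la q.aa z')
  have o12 : ∀ {x y}, Qz N 1 x y → oo h i j * oo h i' j' * x = y * (oo h i j * oo h i' j') →
      oo h i j * oo h i' j' * y = x * y * (oo h i j * oo h i' j') →
      ad x ∈ Tw N E.σ.comm _ o9 ∧ ad y ∈ Tw N E.σ.comm _ o9 := fun {x y} t e1 e2 => by
    have f : ∀ {x y}, Un x → oo h i j * oo h i' j' * x = y * (oo h i j * oo h i' j') →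
        ad (oo h i j * oo h i' j') * ad x * (ad (oo h i j * oo h i' j'))⁻¹ = ad y := fun hx e => by
      rw [conj_ad _ hx, ad_apply (o1.mul o2), e, mul_assoc, (o1.mul o2).ms, mul_one]
    have f1 := f t.la.1 e1
    have f2 := f t.lb.1 e2
    refine ⟨⟨t.la.2, by rw [f1, f2, ad_mul t.la.1 t.lb.1]⟩, t.lb.2, ?_⟩
    rw [f2, ad_mul t.la.1 t.lb.1, ← conj_mul, f1, f2, ad_mul t.la.1 t.lb.1]
  have o13 := o12 (z.of (Commute.one_left _) (Commute.one_left _))
    (by rw [mul_assoc, o6.eq, ← mul_assoc, z.oo_a hh, mul_assoc])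
    (by rw [mul_assoc, o7.eq, ← mul_assoc, z.oo_b hh, mul_assoc])
  have o14 := o12 (z'.of (Commute.one_left _) (Commute.one_left _))
    (by rw [mul_assoc, z'.oo_a hh, ← mul_assoc, o5.eq, mul_assoc])
    (by rw [mul_assoc, z'.oo_b hh, ← mul_assoc, (o4.mul_right o5).eq, mul_assoc])
  have o0 := o1.mul o2
  generalize oo h i j * oo h i' j' = o at o0 o3 o9 o10 o11 o13 o14
  obtain ⟨g, w, g1, g2, g3, -, -, g4, g5, g6⟩ := E.exists_g hh s s' q.lb jj c1.symm d1.symm c2.symm d2.symm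
    ea.2.1.symm eb.2.1.symm ec.2.1.symm ed.2.1.symm o0 o11 o9 o10 (o3 ea) (o3 eb) (o3 ec) (o3 ed)
  have m : ∀ {x ν}, Lf N x → Commute o x → ν ∈ N → ν ∈ St x → ad o * ν * (ad o)⁻¹ ∈ St x := fun hx e h1 h2 =>
    (E.conj_ap (E.σ.mem_PI o0) h1 hx (by rw [← ad_mul o0 hx.1, e.eq, ad_mul hx.1 o0])).trans h2
  obtain ⟨t, t1, t2⟩ := fx_K E.σ o0 (K := pp (pp N a b) c d) (pp_le.trans pp_le) o9
    (fun ν hν => ⟨⟨⟨⟨o9 ν hν.1.1.1.1, m s.la (o3 ea) hν.1.1.1.1 hν.1.1.1.2⟩, m s.lb (o3 eb) hν.1.1.1.1 hν.1.1.2⟩,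
      m s'.la (o3 ec) hν.1.1.1.1 hν.1.2⟩, m s'.lb (o3 ed) hν.1.1.1.1 hν.2⟩) (by norm_num) o10
    (fun x => Commute o x ∧ Commute a x ∧ Commute b x ∧ Commute c x ∧ Commute d x)
    (fun x y hx hy => ⟨hx.1.sub_right hy.1, hx.2.1.sub_right hy.2.1, hx.2.2.1.sub_right hy.2.2.1,
      hx.2.2.2.1.sub_right hy.2.2.2.1, hx.2.2.2.2.sub_right hy.2.2.2.2⟩) (fun x hx => hx.1) fun ν hν h0 => by
      by_contra h5
      push Not at h5
      have h6 : ∀ y, Lf N y → (∀ x, Commute o x ∧ Commute a x ∧ Commute b x ∧ Commute c x ∧ Commute d x → Commute y x) →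
          ν ∈ St y := fun y hy e => not_not.1 fun e' => by
        obtain ⟨x, x1, x2⟩ := h5 y hy e'
        exact x2 (e x x1)
      exact h0 ⟨⟨⟨⟨hν, h6 a s.la fun _ e => e.2.1⟩, h6 b s.lb fun _ e => e.2.2.1⟩, h6 c s'.la fun _ e => e.2.2.2.1⟩,
        h6 d s'.lb fun _ e => e.2.2.2.2⟩
  refine ⟨g, t * 2 * 2, g1, g2, g3, (cU_le_card _ g4).trans ((card_le_sq g5).trans ?_), ?_⟩
  · rw [pow_mul, pow_mul]
    exact Nat.pow_le_pow_left ((card_le_sq g6).trans (Nat.pow_le_pow_left t1 2)) 2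
  have m1 : ∀ {x}, Lf N x → Commute a x → Commute b x → Commute c x → Commute d x → ad x ∈ Tw N E.σ.comm _ o9 →
      Lf (Tw N E.σ.comm _ o9 ⊓ pp (pp N a b) c d) x := fun hx e1 e2 e3 e4 e5 =>
    ⟨hx.1, e5, (lf_pp.2 ⟨lf_pp.2 ⟨hx, e1.symm, e2.symm⟩, e3.symm, e4.symm⟩).2⟩
  have m2 : Tw N E.σ.comm _ o9 ⊓ pp (pp N a b) c d ≤ N := fun _ h => h.1.1
  have m3 := E.card_pp m2 (m1 q.la ea.1 eb.1 ec.1 ed.1 o13.1) (m1 q.lb ea.2.1 eb.2.1 ec.2.1 ed.2.1 o13.2) (q.ne hh)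
  have m4 := E.card_pp (pp_le.trans m2)
    (lf_pp.2 ⟨m1 r.la ea.2.2.1 eb.2.2.1 ec.2.2.1 ed.2.2.1 o14.1, i1, i2⟩)
    (lf_pp.2 ⟨m1 r.lb ea.2.2.2 eb.2.2.2 ec.2.2.2 ed.2.2.2 o14.2, j1, j2⟩) (r.ne hh)
  have m5 : 0 < Nat.card (pp (pp (Tw N E.σ.comm _ o9 ⊓ pp (pp N a b) c d) i j) i' j') := Nat.card_pos
  have m7 : 16 ≤ Nat.card ↥(Tw N E.σ.comm _ o9 ⊓ pp (pp N a b) c d) := by omega
  have m6 : ∀ k, ad o ∈ Subgroup.zpowers (ad o ^ k) →
      Nat.card (cN (pp (pp N a b) c d) (ad o ^ k)) * 16 ≤ Nat.card (pp (pp N a b) c d) := fun k hk =>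
    (Nat.mul_le_mul_left _ m7).trans (card_mul_le_of_disj (W := Tw N E.σ.comm _ o9 ⊓ pp (pp N a b) c d)
      inf_le_left inf_le_right fun ν a1 a2 => by
        obtain ⟨l, hl⟩ := hk
        have a3 : ad o * ν * (ad o)⁻¹ = ν := by
          rw [← hl, ((show Commute (ad o ^ k) ν from (mem_cN.1 a2).2).zpow_left l).eq, mul_inv_cancel_right]
        have a4 := a1.1.2
        rwa [a3, a3, left_eq_mul] at a4)
  have k1 := m6 1 (by rw [pow_one]; exact Subgroup.mem_zpowers _)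
  have k2 := m6 2 (Subgroup.mem_zpowers_iff.2 ⟨2, by
    rw [zpow_ofNat, ← pow_mul, show 2 * 2 = 3 + 1 from rfl, pow_succ, o10, one_mul]⟩)
  have k3 : Nat.card (cN (pp (pp N a b) c d) (ad o ^ 0)) ≤ Nat.card (pp (pp N a b) c d) :=
    Subgroup.card_le_of_le inf_le_left
  have k4 := E.card_pp le_rfl s.la s.lb (s.ne hh)
  have k5 := E.card_pp (M := pp N a b) pp_le (lf_pp.2 ⟨s'.la, c1, c2⟩) (lf_pp.2 ⟨s'.lb, d1, d2⟩) (s'.ne hh)
  simp only [Finset.sum_range_succ, Finset.range_zero, Finset.sum_empty] at t2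
  omega

end XC

end Cfsg.Agent.N2C.Ext
end

-- part: N2/Cl/Ext/Eight
section
/-!
# N2 (S3519), class `pExt`: dimension eight (helper22)
-/

set_option autoImplicit false
set_option linter.unusedSectionVars false

namespace Cfsg.Agent.N2C.Ext

open Cfsg.Agent.DS.Cl Cfsg.Agent.DS.Cl.Fwd Cfsg.Agent.SB.Cl Cfsg.Agent.TH.Cl.Ext

variable {A : Type} [Ring A] [StarRing A] [Finite A]

/-- coordinates in a plane -/
abbrev P2 : Type := Fin 2 × Fin 2

/-- words in a plane -/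
def w2 (x y : A) (s : P2) : A := x ^ (s.1 : ℕ) * y ^ (s.2 : ℕ)

/-- the quadratic form of a plane -/
def q2 (δ : ℕ) (s : P2) : ℕ := if s.2 = 0 then s.1 else δ

section plane

variable {M : Subgroup (RingAut A)} {x y u : A}

theorem lf_w2 (k : Pl M x y) (s : P2) : Lf M (w2 x y s) := (k.la.pow _).mul (k.lb.pow _)

theorem comm_w2 (h1 : Commute u x) (h2 : Commute u y) (s : P2) : Commute u (w2 x y s) :=
  (h1.pow_right _).mul_right (h2.pow_right _)

theorem sq_w2 (k : Pl M x y) {δ : ℕ} (h : y * y = (-1) ^ δ) (s : P2) : w2 x y s * w2 x y s = (-1) ^ q2 δ s := by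
  have h1 : x * y * (x * y) = (-1) ^ δ := by
    rw [mul_assoc, ← mul_assoc y, k.ba, neg_mul, mul_assoc, h, mul_neg, ← mul_assoc, k.aa, neg_one_mul, neg_neg]
  obtain ⟨a, b⟩ := s
  (revert a b; simp only [w2, q2, k.aa, h, h1, _root_.Fin.forall_fin_succ, Fin.isValue, _root_.pow_ite, _root_.Fin.coe_ofNat_eq_mod, _root_.Nat.zero_mod, _root_.pow_zero, _root_.mul_one, ↓reduceIte, _root_.Fin.val_succ, _root_.Fin.val_eq_zero, _root_.zero_add, _root_.pow_one, _root_.Fin.succ_ne_zero, _root_.forall_const, _root_.one_mul, _root_.and_self, _root_.implies_true])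

theorem neg_one_cen : (-1 : A) ∈ Subring.center A := Subring.neg_mem _ (Subring.one_mem _)

theorem cm_x (k : Pl M x y) (s : P2) : Cm ((-1) ^ (s.2 : ℕ)) x (w2 x y s) := by
  have h := ((Cm.of_eq (rfl : x * x = x * x)).pow s.1).mul
    ((show Cm (-1) x y from ⟨neg_one_cen, by rw [k.ba, neg_one_mul, neg_neg]⟩).pow s.2)
  rwa [one_pow, one_mul] at h

theorem cm_y (k : Pl M x y) (s : P2) : Cm ((-1) ^ (s.1 : ℕ)) y (w2 x y s) := by
  have h := ((show Cm (-1) y x from ⟨neg_one_cen, by rw [k.ba, neg_one_mul]⟩).pow s.1).mul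
    ((Cm.of_eq (rfl : y * y = y * y)).pow s.2)
  rwa [one_pow, mul_one] at h

theorem cm_l {κ v w : A} (h : Cm κ u v) (h' : Commute u w) : Cm κ u (w * v) := by
  simpa using (Cm.of_eq h'.eq).mul h

theorem cm_r {κ v w : A} (h : Cm κ u v) (h' : Commute u w) : Cm κ u (v * w) := by
  simpa using h.mul (Cm.of_eq h'.eq)

theorem sign_eq [Nontrivial A] {h : A} (hh : Hf h) {m n : ℕ} (e : (-1 : A) ^ m = (-1) ^ n) : m % 2 = n % 2 := by
  have h1 : (1 : A) ≠ -1 := fun e => one_ne_zero (hh.eq_zero e)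
  rcases Nat.even_or_odd m with h2 | h2 <;> rcases Nat.even_or_odd n with h3 | h3 <;>
    rw [h2.neg_one_pow, h3.neg_one_pow] at e
  · rw [Nat.even_iff.1 h2, Nat.even_iff.1 h3]
  · exact absurd e h1
  · exact absurd e.symm h1
  · rw [Nat.odd_iff.1 h2, Nat.odd_iff.1 h3]

theorem cm_eq [Nontrivial A] {h : A} (hh : Hf h) {v : A} (hu : Un u) (hv : Un v) {a b : Fin 2}
    (h1 : Cm ((-1) ^ (a : ℕ)) u v) (h2 : Cm ((-1) ^ (b : ℕ)) u v) : a = b := by
  have h3 := sign_eq hh ((hv.mul hu).cancel' (h1.2.symm.trans h2.2))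
  omega

end plane

/-- three planes -/
structure Tr (N : Subgroup (RingAut A)) (i j a b c d : A) (δ : ℕ) : Prop where
  q : Pl N i j
  k : Pl (pp N i j) a b
  l : Pl (pp (pp N i j) a b) c d
  jj : j * j = -1
  bb : b * b = -1
  dd : d * d = (-1) ^ δ
  le : δ ≤ 1

/-- words in three planes -/
def w6 (i j a b c d : A) (v : P2 × P2 × P2) : A := w2 c d v.2.2 * (w2 a b v.2.1 * w2 i j v.1)

/-- the quadratic form -/
def q6 (δ : ℕ) (v : P2 × P2 × P2) : ℕ := q2 δ v.2.2 + (q2 1 v.2.1 + q2 1 v.1)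

namespace Tr

variable {N : Subgroup (RingAut A)} {i j a b c d : A} {δ : ℕ} (t : Tr N i j a b c d δ)
include t

theorem k' : Pl N a b := t.k.mono pp_le
theorem l' : Pl N c d := t.l.mono (pp_le.trans pp_le)
theorem ai : Commute a i := (lf_pp.1 t.k.la).2.1
theorem aj : Commute a j := (lf_pp.1 t.k.la).2.2
theorem bi : Commute b i := (lf_pp.1 t.k.lb).2.1
theorem bj : Commute b j := (lf_pp.1 t.k.lb).2.2
theorem ci : Commute c i := (lf_pp.1 (lf_pp.1 t.l.la).1).2.1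
theorem cj : Commute c j := (lf_pp.1 (lf_pp.1 t.l.la).1).2.2
theorem di : Commute d i := (lf_pp.1 (lf_pp.1 t.l.lb).1).2.1
theorem dj : Commute d j := (lf_pp.1 (lf_pp.1 t.l.lb).1).2.2
theorem ca : Commute c a := (lf_pp.1 t.l.la).2.1
theorem cb : Commute c b := (lf_pp.1 t.l.la).2.2
theorem da : Commute d a := (lf_pp.1 t.l.lb).2.1
theorem db : Commute d b := (lf_pp.1 t.l.lb).2.2

theorem lf (v : P2 × P2 × P2) : Lf N (w6 i j a b c d v) := (lf_w2 t.l' _).mul ((lf_w2 t.k' _).mul (lf_w2 t.q _))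

theorem sq (v : P2 × P2 × P2) : w6 i j a b c d v * w6 i j a b c d v = (-1) ^ q6 δ v := by
  have h1 : Commute (w2 i j v.1) (w2 a b v.2.1) := comm_w2 (comm_w2 t.ai t.aj _).symm (comm_w2 t.bi t.bj _).symm _
  have h2 : Commute (w2 a b v.2.1 * w2 i j v.1) (w2 c d v.2.2) :=
    comm_w2 ((comm_w2 t.ca t.cb _).mul_right (comm_w2 t.ci t.cj _)).symm
      ((comm_w2 t.da t.db _).mul_right (comm_w2 t.di t.dj _)).symm _
  rw [w6, h2.mul_mul_mul_comm, h1.mul_mul_mul_comm, sq_w2 t.l t.dd, sq_w2 t.k (δ := 1) (by rw [t.bb, pow_one]),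
    sq_w2 t.q (δ := 1) (by rw [t.jj, pow_one]), q6, pow_add, pow_add]

theorem cmi (v : P2 × P2 × P2) : Cm ((-1) ^ (v.1.2 : ℕ)) i (w6 i j a b c d v) :=
  cm_l (cm_l (cm_x t.q _) (comm_w2 t.ai.symm t.bi.symm _)) (comm_w2 t.ci.symm t.di.symm _)

theorem cmj (v : P2 × P2 × P2) : Cm ((-1) ^ (v.1.1 : ℕ)) j (w6 i j a b c d v) :=
  cm_l (cm_l (cm_y t.q _) (comm_w2 t.aj.symm t.bj.symm _)) (comm_w2 t.cj.symm t.dj.symm _)

theorem cma (v : P2 × P2 × P2) : Cm ((-1) ^ (v.2.1.2 : ℕ)) a (w6 i j a b c d v) :=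
  cm_l (cm_r (cm_x t.k _) (comm_w2 t.ai t.aj _)) (comm_w2 t.ca.symm t.da.symm _)

theorem cmb (v : P2 × P2 × P2) : Cm ((-1) ^ (v.2.1.1 : ℕ)) b (w6 i j a b c d v) :=
  cm_l (cm_r (cm_y t.k _) (comm_w2 t.bi t.bj _)) (comm_w2 t.cb.symm t.db.symm _)

theorem cmc (v : P2 × P2 × P2) : Cm ((-1) ^ (v.2.2.2 : ℕ)) c (w6 i j a b c d v) :=
  cm_r (cm_x t.l _) ((comm_w2 t.ca t.cb _).mul_right (comm_w2 t.ci t.cj _))

end Tr

namespace XC

variable {F : FR A} {H N : Subgroup (RingAut A)} {p : ℕ} (E : XC F H N p 2)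
include E

theorem exists_tr (hN : 16 < Nat.card N) : ∃ i j a b c d δ, Tr N i j a b c d δ := by
  have := E.σ.ss.nontrivial
  obtain ⟨h, hh⟩ := E.exists_hf
  obtain ⟨i, j, q, jj⟩ := E.exists_q E.nd_top (by omega)
  have n1 := E.nd_pp E.nd_top q.la q.lb (q.ne hh)
  have l1 := E.le_card_pp le_rfl q.la q.lb (q.ne hh)
  obtain ⟨a, b, k, bb⟩ := E.exists_q n1 (by omega)
  obtain ⟨c, d, l⟩ := E.exists_pl (E.nd_pp n1 k.la k.lb (k.ne hh)) (E.pp_ne n1.le k (by omega))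
  rcases l.bb with e | e
  · exact ⟨i, j, a, b, c, d, 0, q, k, l, jj, bb, by rw [e, pow_zero], by norm_num⟩
  · exact ⟨i, j, a, b, c, d, 1, q, k, l, jj, bb, by rw [e, pow_one], le_rfl⟩

omit E in
theorem cen_of_bot {M : Subgroup (RingAut A)} (h : Nat.card M ≤ 1) {u : A} (hu : Lf M u) : u ∈ Subring.center A :=
  (ad_eq_one_iff hu.1).1 (Subgroup.mem_bot.1 ((Subgroup.card_le_one_iff_eq_bot _).1 h ▸ hu.2))

/-- **three planes: a cyclic element** -/
theorem two_eight (hN : Nat.card N = 64) : ∃ g, Un g ∧ ad g ∈ F.S ∧ (∀ ν ∈ N, ad g * ν * (ad g)⁻¹ ∈ N) ∧ Cyc.IsCyc g ∧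
    Cyc.cA g ≤ Nat.card (Subring.center A) ^ 8 ∧ (∃ θ, θ * g = g * θ ∧ IsUnit (θ - star θ)) ∧
    ∃ s, s * g = g * s ∧ star s = s ∧ s * s = 1 + 1 := by
  have := Cyc.finAut (A := A)
  have := E.σ.ss.nontrivial
  obtain ⟨h, hh⟩ := E.exists_hf
  obtain ⟨i, j, a, b, c, d, δ, t⟩ := E.exists_tr (by omega)
  have z := t.q.qz t.jj t.ai t.aj
  have o1 := z.un_oo hh
  obtain ⟨g, w, g1, g2, g3, g4, g5, g6, g7, g8⟩ := E.exists_g hh t.k' t.l' t.q.lb t.jj t.ca.symm t.da.symm t.cb.symm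
    t.db.symm t.aj.symm t.bj.symm t.cj.symm t.dj.symm o1 (E.oo_S hh t.k'.la t.k.aa z)
    (tt_oo h i j ▸ E.nm_tt hh t.q.la t.q.lb t.q.aa t.jj)
    (by rw [← ad_pow o1, pow_three, z.oo_cube hh, ad_neg Un.one, ad_one]) (E.comm_oo hh t.q t.jj t.ai t.aj)
    (E.comm_oo hh t.q t.jj t.bi t.bj) (E.comm_oo hh t.q t.jj t.ci t.cj) (E.comm_oo hh t.q t.jj t.di t.dj)
  have k4 := E.card_pp le_rfl t.k'.la t.k'.lb (t.k.ne hh)
  have k5 := E.card_pp (M := pp N a b) pp_le (lf_pp.2 ⟨t.l'.la, t.ca, t.cb⟩) (lf_pp.2 ⟨t.l'.lb, t.da, t.db⟩) (t.l.ne hh)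
  have m1 : Lf (pp (pp N a b) c d) i := lf_pp.2 ⟨lf_pp.2 ⟨t.q.la, t.ai.symm, t.bi.symm⟩, t.ci.symm, t.di.symm⟩
  have m2 : Lf (pp (pp N a b) c d) j := lf_pp.2 ⟨lf_pp.2 ⟨t.q.lb, t.aj.symm, t.bj.symm⟩, t.cj.symm, t.dj.symm⟩
  have k6 := E.card_pp (pp_le.trans pp_le) m1 m2 (t.q.ne hh)
  have g9 : ∀ x, Commute (oo h i j) x ∧ Commute a x ∧ Commute b x ∧ Commute c x ∧ Commute d x →
      ∃ p q, p ∈ Subring.center A ∧ q ∈ Subring.center A ∧ x = p + q * oo h i j := fun x hx => by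
    obtain ⟨y0, y1, y2, y3, c0, c1, c2, c3, e⟩ := ind_K E.σ (E.supp t.k' t.l' hx.2.1 hx.2.2.1 hx.2.2.2.1 hx.2.2.2.2)
      (P := fun x => ∃ y0 y1 y2 y3, y0 ∈ Subring.center A ∧ y1 ∈ Subring.center A ∧ y2 ∈ Subring.center A ∧
        y3 ∈ Subring.center A ∧ x = y0 + y1 * i + y2 * j + y3 * (i * j))
      ⟨0, 0, 0, 0, zero_mem _, zero_mem _, zero_mem _, zero_mem _, by simp⟩ (by
        rintro _ _ ⟨y0, y1, y2, y3, c0, c1, c2, c3, rfl⟩ ⟨y0', y1', y2', y3', c0', c1', c2', c3', rfl⟩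
        exact ⟨_, _, _, _, add_mem c0 c0', add_mem c1 c1', add_mem c2 c2', add_mem c3 c3', by
          simp only [add_mul]; abel⟩) fun e he u hu => by
        obtain ⟨m, hm, n, hn, h1⟩ := E.split' (pp_le.trans pp_le) m1 m2 (t.q.ne hh) hu
        have h2 := cen_of_bot (by omega) h1
        have h3 : e * u = e * (i ^ m * j ^ n * u) * star (i ^ m * j ^ n) := by
          rw [mul_assoc, ← cen_comm h2, ← mul_assoc (star _), ((m1.pow m).mul (m2.pow n)).1.sm, one_mul]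
        have h4 := Subring.mul_mem _ he h2
        rw [h3]
        generalize e * (i ^ m * j ^ n * u) = y at h4
        have h5 := Subring.neg_mem _ h4
        interval_cases m <;> interval_cases n
        · exact ⟨y, 0, 0, 0, h4, zero_mem _, zero_mem _, zero_mem _, by simp⟩
        · exact ⟨0, 0, -y, 0, zero_mem _, zero_mem _, h5, zero_mem _, by simp [z.sb]⟩
        · exact ⟨0, -y, 0, 0, zero_mem _, h5, zero_mem _, zero_mem _, by simp [z.sa]⟩
        · exact ⟨0, 0, 0, -y, zero_mem _, zero_mem _, zero_mem _, h5, by rw [pow_one, pow_one, z.sc]; simp⟩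
    have out : ∀ {y}, y ∈ Subring.center A → ∀ u v, u * (y * v) = y * (u * v) := fun hy u v => by
      rw [← mul_assoc, cen_comm hy, mul_assoc]
    have h1 : (y3 - y1) * i + (y1 - y2) * j + (y2 - y3) * (i * j) = 0 := by
      have h2 := hx.1.eq
      rw [e, mul_add, mul_add, mul_add, out c1, out c2, out c3, z.oo_a hh, z.oo_b hh, z.oo_c hh, cen_comm c0] at h2
      refine o1.cancel' ?_
      rw [zero_mul, ← sub_eq_zero.2 h2]
      noncomm_ring
    have h2 : ∀ {i j y1 y2 y3 : A}, Qz N a i j → y1 ∈ Subring.center A → y2 ∈ Subring.center A → y3 ∈ Subring.center A →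
        y1 * i + y2 * j + y3 * (i * j) = 0 → y1 = 0 := fun {i j y1 y2 y3} z c1 c2 c3 e => by
      have h3 : i * (y1 * i + y2 * j + y3 * (i * j)) + (y1 * i + y2 * j + y3 * (i * j)) * i = -(y1 + y1) := by
        rw [mul_add, mul_add, out c1, out c2, out c3, add_mul, add_mul, mul_assoc, mul_assoc, mul_assoc, mul_assoc i j,
          z.ba, z.aa, mul_neg i]
        noncomm_ring
      rw [e, mul_zero, zero_mul, add_zero, eq_comm, neg_eq_zero] at h3
      rw [← hh.dbl y1, h3, mul_zero]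
    have h3 := sub_eq_zero.1 (h2 z (sub_mem c3 c1) (sub_mem c1 c2) (sub_mem c2 c3) h1)
    have h4 := sub_eq_zero.1 (h2 z.rot (sub_mem c1 c2) (sub_mem c2 c3) (sub_mem c3 c1) (by rw [z.bab, ← h1]; abel))
    refine ⟨y0 - y1, y1 + y1, sub_mem c0 c1, add_mem c1 c1, ?_⟩
    rw [e, h3, ← h4, oo, ← mul_assoc (y1 + y1), cen_comm hh.cen (y1 + y1), hh.dbl]
    noncomm_ring
  refine ⟨g, g1, g2, g3, fun x y hx hy => ?_, ?_, ⟨a, g4, ?_⟩, g5⟩
  · obtain ⟨y1, y2, y3⟩ := g6 y hy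
    have h1 : ∀ x, Commute (oo h i j) x ∧ Commute a x ∧ Commute b x ∧ Commute c x ∧ Commute d x → Commute x y :=
      fun x hx => by
        obtain ⟨p, q, p1, q1, rfl⟩ := g9 x hx
        exact (show Commute p y from (cen_comm p1 y).symm).add_left
          ((show Commute q y from (cen_comm q1 y).symm).mul_left y1)
    have h2 : ∀ x, Commute (oo h i j) x ∧ Commute a x ∧ Commute b x ∧ Commute w x → Commute x y := fun x hx => by
      obtain ⟨p, q, p1, q1, rfl⟩ := g8 x hx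
      exact (h1 p p1).add_left ((h1 q q1).mul_left y3)
    obtain ⟨p, q, p1, q1, rfl⟩ := g7 x (g6 x hx)
    exact (h2 p p1).add_left ((h2 q q1).mul_left y2)
  · refine le_trans ?_ ((card_le_sq g7).trans ?_)
    · exact Nat.card_le_card_of_injective (fun x => ⟨x.1, g6 _ x.2⟩) fun _ _ e => Subtype.ext (congrArg (·.1) e)
    rw [show 8 = 2 * 2 * 2 from rfl, pow_mul, pow_mul]
    exact Nat.pow_le_pow_left ((card_le_sq g8).trans (Nat.pow_le_pow_left (card_le_sq g9) 2)) 2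
  · rw [star_of_sq t.k.la.1 t.k.aa, sub_neg_eq_add]
    exact IsUnit.of_mul_eq_one_right (star a * h) (by rw [mul_assoc, hh.dbl, t.k.la.1.sm])

section count

variable {i j a b c d : A} {δ : ℕ} (t : Tr N i j a b c d δ) (hN : Nat.card N = 64)
  (hU : ∀ c ∈ Subring.center A, Un c → c * c = 1)
include t hN

theorem exists_w6 {u : A} (hu : Lf N u) : ∃ v, ad u = ad (w6 i j a b c d v) := by
  have := E.σ.ss.nontrivial
  obtain ⟨h, hh⟩ := E.exists_hf
  obtain ⟨m1, a1, n1, b1, h1⟩ := E.split' le_rfl t.q.la t.q.lb (t.q.ne hh) hu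
  obtain ⟨m2, a2, n2, b2, h2⟩ := E.split' pp_le t.k.la t.k.lb (t.k.ne hh) h1
  obtain ⟨m3, a3, n3, b3, h3⟩ := E.split' (pp_le.trans pp_le) t.l.la t.l.lb (t.l.ne hh) h2
  have k1 := E.card_pp le_rfl t.q.la t.q.lb (t.q.ne hh)
  have k2 := E.card_pp pp_le t.k.la t.k.lb (t.k.ne hh)
  have k3 := E.card_pp (pp_le.trans pp_le) t.l.la t.l.lb (t.l.ne hh)
  have h4 := ad_cen (cen_of_bot (by omega) h3)
  refine ⟨((⟨m1, a1⟩, ⟨n1, b1⟩), (⟨m2, a2⟩, ⟨n2, b2⟩), (⟨m3, a3⟩, ⟨n3, b3⟩)), ?_⟩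
  have h5 := t.lf ((⟨m1, a1⟩, ⟨n1, b1⟩), (⟨m2, a2⟩, ⟨n2, b2⟩), (⟨m3, a3⟩, ⟨n3, b3⟩))
  rw [← mul_assoc (a ^ m2 * b ^ n2), ← mul_assoc (c ^ m3 * d ^ n3)] at h4
  have h6 := (ad_mul h5.1 hu.1).symm.trans h4
  rw [← inv_eq_of_mul_eq_one_right h6, inv_eq_iff_mul_eq_one, ← pow_two, E.σ.exp _ h5.2]

include hU

theorem step {X : Subgroup (RingAut A)} (hX : X ≤ H ⊓ F.S) {e : A} (he : Lf N e) {n : ℕ} (ee : e * e = (-1) ^ n)
    (T : Finset (P2 × P2 × P2)) (hT : ∀ γ ∈ X, ∀ v, q6 δ v % 2 = n % 2 → (∀ u (s s' : Fin 2), Lf N u → γ * ad u = ad u * γ →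
      Cm ((-1) ^ (s : ℕ)) u e → Cm ((-1) ^ (s' : ℕ)) u (w6 i j a b c d v) → s' = s) → v ∈ T) :
    Nat.card X ≤ T.card * Nat.card (cz X (ad e)) := by
  have := Cyc.finAut (A := A)
  have := E.σ.ss.nontrivial
  obtain ⟨h, hh⟩ := E.exists_hf
  refine (card_le_of_conj X (ad e) ((fun v => ad (w6 i j a b c d v)) '' T) fun γ hγ => ?_).trans
    (Nat.mul_le_mul_right _ ((Set.ncard_image_le T.finite_toSet).trans (Set.ncard_coe_finset T).le))
  have h1 := F.Aut_le_SAut (F.S_le_Aut (hX hγ).2)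
  have h2 := F.PI_le_Lin (F.S_le_PI (hX hγ).2)
  have h3 := he.map h1 (E.min.nrm γ (hX hγ).1)
  obtain ⟨v, hv⟩ := E.exists_w6 t hN h3
  obtain ⟨l, l1, l2, l3⟩ := (ad_eq_iff h3.1 (t.lf v).1).1 hv
  refine ⟨v, hT γ hγ v (sign_eq hh ?_) fun u s s' hu c1 c2 c3 => cm_eq hh hu.1 (t.lf v).1 c3 ⟨c2.1, ?_⟩,
    by rw [conj_ad γ he.1, hv]⟩
  · have h4 : γ e * γ e = w6 i j a b c d v * w6 i j a b c d v := by rw [l3, cen_mul_mul l1, hU l l1 l2, one_mul]
    rw [← t.sq, ← h4, ← map_mul, ee, map_pow, map_neg, map_one]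
  · obtain ⟨m, m1, m2, m3⟩ := (ad_eq_iff (hu.1.map h1) hu.1).1 (by rw [← conj_ad γ hu.1, c1, mul_inv_cancel_right])
    have h4 := congrArg γ c2.2
    rw [map_mul, map_mul, map_mul, h2 _ c2.1, l3, m3, cen_mul_mul l1, cen_mul_mul m1, cen_comm m1 l] at h4
    refine (m2.mul l2).cancel (h4.trans ?_)
    rw [← mul_assoc, ← cen_comm c2.1, mul_assoc]

/-- **the order of the normaliser in dimension eight** -/
theorem card_eight : Nat.card ↥(H ⊓ F.S) ≤ 64 * 51840 := by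
  have n1 : (-1 : A) = (-1) ^ 1 := (pow_one _).symm
  have o : ∀ {u e : A}, Commute e u → Cm ((-1) ^ ((0 : Fin 2) : ℕ)) u e := fun h => by simpa using Cm.of_eq h.symm
  have m : ∀ {M} {u e : A}, Pl M u e → Cm ((-1) ^ ((1 : Fin 2) : ℕ)) u e := fun h =>
    ⟨by simp, by simp [h.ba]⟩
  have s1 := E.step t hN hU le_rfl t.q.la (t.q.aa.trans n1) (Finset.univ.filter fun v => q6 δ v % 2 = 1)
    fun γ _ v h1 _ => Finset.mem_filter.2 ⟨Finset.mem_univ _, h1⟩
  have s2 := E.step t hN hU (X := cz (H ⊓ F.S) (ad i)) inf_le_left t.q.lb (t.jj.trans n1)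
    (Finset.univ.filter fun v => q6 δ v % 2 = 1 ∧ v.1.2 = 1) fun γ hγ v h1 h2 => Finset.mem_filter.2 ⟨Finset.mem_univ _,
      h1, h2 i _ _ t.q.la (mem_cz.1 hγ).2 (m t.q) (t.cmi v)⟩
  have s3 := E.step t hN hU (X := cz (cz (H ⊓ F.S) (ad i)) (ad j)) (inf_le_left.trans inf_le_left) t.k'.la
    (t.k.aa.trans n1) (Finset.univ.filter fun v => q6 δ v % 2 = 1 ∧ v.1.2 = 0 ∧ v.1.1 = 0) fun γ hγ v h1 h2 =>
      Finset.mem_filter.2 ⟨Finset.mem_univ _, h1, h2 i _ _ t.q.la (mem_cz.1 hγ.1).2 (o t.ai) (t.cmi v),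
        h2 j _ _ t.q.lb (mem_cz.1 hγ).2 (o t.aj) (t.cmj v)⟩
  have s4 := E.step t hN hU (X := cz (cz (cz (H ⊓ F.S) (ad i)) (ad j)) (ad a))
    (inf_le_left.trans (inf_le_left.trans inf_le_left)) t.k'.lb
    (t.bb.trans n1) (Finset.univ.filter fun v => q6 δ v % 2 = 1 ∧ v.1.2 = 0 ∧ v.1.1 = 0 ∧ v.2.1.2 = 1) fun γ hγ v h1 h2 =>
      Finset.mem_filter.2 ⟨Finset.mem_univ _, h1, h2 i _ _ t.q.la (mem_cz.1 hγ.1.1).2 (o t.bi) (t.cmi v),
        h2 j _ _ t.q.lb (mem_cz.1 hγ.1).2 (o t.bj) (t.cmj v), h2 a _ _ t.k'.la (mem_cz.1 hγ).2 (m t.k) (t.cma v)⟩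
  have s5 := E.step t hN hU (X := cz (cz (cz (cz (H ⊓ F.S) (ad i)) (ad j)) (ad a)) (ad b))
    (inf_le_left.trans (inf_le_left.trans (inf_le_left.trans inf_le_left))) t.l'.la (t.l.aa.trans n1)
    (Finset.univ.filter fun v => q6 δ v % 2 = 1 ∧ v.1.2 = 0 ∧ v.1.1 = 0 ∧ v.2.1.2 = 0 ∧ v.2.1.1 = 0) fun γ hγ v h1 h2 =>
      Finset.mem_filter.2 ⟨Finset.mem_univ _, h1, h2 i _ _ t.q.la (mem_cz.1 hγ.1.1.1).2 (o t.ci) (t.cmi v),
        h2 j _ _ t.q.lb (mem_cz.1 hγ.1.1).2 (o t.cj) (t.cmj v), h2 a _ _ t.k'.la (mem_cz.1 hγ.1).2 (o t.ca) (t.cma v),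
        h2 b _ _ t.k'.lb (mem_cz.1 hγ).2 (o t.cb) (t.cmb v)⟩
  have s6 := E.step t hN hU (X := cz (cz (cz (cz (cz (H ⊓ F.S) (ad i)) (ad j)) (ad a)) (ad b)) (ad c))
    (inf_le_left.trans (inf_le_left.trans (inf_le_left.trans (inf_le_left.trans inf_le_left)))) t.l'.lb t.dd
    (Finset.univ.filter fun v => q6 δ v % 2 = δ % 2 ∧ v.1.2 = 0 ∧ v.1.1 = 0 ∧ v.2.1.2 = 0 ∧ v.2.1.1 = 0 ∧ v.2.2.2 = 1)
    fun γ hγ v h1 h2 =>
      Finset.mem_filter.2 ⟨Finset.mem_univ _, h1, h2 i _ _ t.q.la (mem_cz.1 hγ.1.1.1.1).2 (o t.di) (t.cmi v),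
        h2 j _ _ t.q.lb (mem_cz.1 hγ.1.1.1).2 (o t.dj) (t.cmj v), h2 a _ _ t.k'.la (mem_cz.1 hγ.1.1).2 (o t.da) (t.cma v),
        h2 b _ _ t.k'.lb (mem_cz.1 hγ.1).2 (o t.db) (t.cmb v), h2 c _ _ t.l'.la (mem_cz.1 hγ).2 (m t.l) (t.cmc v)⟩
  have s7 := E.card_le_N (X := cz (cz (cz (cz (cz (cz (H ⊓ F.S) (ad i)) (ad j)) (ad a)) (ad b)) (ad c)) (ad d))
    (fun γ hγ => F.S_le_PI hγ.1.1.1.1.1.1.2) fun γ hγ ν hν => by
      obtain ⟨u, hu, rfl⟩ := E.σ.exists_lf hν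
      obtain ⟨v, hv⟩ := E.exists_w6 t hN hu
      have k : ∀ {M} {x y : A}, Pl M x y → Commute γ (ad x) → Commute γ (ad y) → ∀ s, Commute γ (ad (w2 x y s)) :=
        fun k h1 h2 s => by
          rw [w2, ad_mul (k.la.1.pow _) (k.lb.1.pow _), ad_pow k.la.1, ad_pow k.lb.1]
          exact (h1.pow_right _).mul_right (h2.pow_right _)
      rw [hv, w6, ad_mul (lf_w2 t.l _).1 ((lf_w2 t.k _).1.mul (lf_w2 t.q _).1), ad_mul (lf_w2 t.k _).1 (lf_w2 t.q _).1]
      exact (k t.l (mem_cz.1 hγ.1).2 (mem_cz.1 hγ).2 _).mul_right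
        ((k t.k (mem_cz.1 hγ.1.1.1).2 (mem_cz.1 hγ.1.1).2 _).mul_right
          (k t.q (mem_cz.1 hγ.1.1.1.1.1).2 (mem_cz.1 hγ.1.1.1.1).2 _))
  rw [hN] at s7
  refine (s1.trans (Nat.mul_le_mul_left _ (s2.trans (Nat.mul_le_mul_left _ (s3.trans (Nat.mul_le_mul_left _
    (s4.trans (Nat.mul_le_mul_left _ (s5.trans (Nat.mul_le_mul_left _ (s6.trans (Nat.mul_le_mul_left _ s7)))))))))))).trans ?_
  have := t.le
  interval_cases δ <;> decide +kernel

end count

end XC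

end Cfsg.Agent.N2C.Ext
end

-- part: N2/Cl/Ext/Main
section
/-!
# N2 (S3519), class `pExt`: normalisers of groups of symplectic type (helper22)

`Cfsg.Agent.N2C.ext : On pExt`.
-/

set_option autoImplicit false
set_option linter.unusedSectionVars false

namespace Cfsg.Agent.N2C.Ext

open Cfsg.Agent.DS.Cl Cfsg.Agent.DS.Cl.Fwd Cfsg.Agent.SB.Cl Cfsg.Agent.TH.Cl.Ext Module
open Cfsg.Agent.TH.Cl (KL KU KSp KO)

section num

theorem pw_le {q a m c f e : ℕ} (ha : 0 < a) (hq : a ≤ q) (h : (a + 1) ^ m * c ≤ f * a ^ (m + e)) :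
    (q + 1) ^ m * c ≤ f * q ^ (m + e) := by
  refine Nat.le_of_mul_le_mul_left ?_ (pow_pos ha m)
  calc a ^ m * ((q + 1) ^ m * c) = (a * (q + 1)) ^ m * c := by rw [mul_pow, mul_assoc]
    _ ≤ (q * (a + 1)) ^ m * c := Nat.mul_le_mul_right _ (Nat.pow_le_pow_left (by linarith only [hq]) m)
    _ = q ^ m * ((a + 1) ^ m * c) := by rw [mul_pow, mul_assoc]
    _ ≤ q ^ m * (f * a ^ (m + e)) := Nat.mul_le_mul_left _ h
    _ = a ^ m * (f * (q ^ m * a ^ e)) := by ring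
    _ ≤ _ := by rw [pow_add]; gcongr

theorem num_one {q d r S : ℕ} (hr : r = 5 ∨ 7 ≤ r) (hq : r ≤ q + 1) (hd : d ≤ r) (h : q ^ (r ^ 2 - 1) ≤ 2 * d * S) :
    ((q + 1) ^ r) ^ 3 * r ^ 5 ≤ 8 * S := by
  have h1 : ((q + 1) ^ r) ^ 3 * r ^ 5 * r ≤ 4 * q ^ (r ^ 2 - 1) := by
    rcases hr with rfl | hr
    · have := pw_le (q := q) (a := 4) (m := 15) (c := 5 ^ 6) (f := 4) (e := 9) (by norm_num) (by omega) (by norm_num)
      rw [← pow_mul, mul_assoc]
      exact this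
    have h2 := pw_le (q := q) (a := 3) (m := 2) (c := 1) (f := 1) (e := 1) (by norm_num) (by omega) (by norm_num)
    rw [mul_one, one_mul] at h2
    refine le_trans ((Nat.pow_le_pow_iff_left two_ne_zero).1 ?_) (Nat.le_mul_of_pos_left _ (by norm_num))
    calc _ = ((q + 1) ^ (r * 3) * r ^ 6) ^ 2 := by ring
      _ ≤ ((q + 1) ^ (r * 3) * (q + 1) ^ 6) ^ 2 := by gcongr
      _ = ((q + 1) ^ 2) ^ (r * 3 + 6) := by generalize q + 1 = x; ring
      _ ≤ (q ^ (2 + 1)) ^ (r * 3 + 6) := Nat.pow_le_pow_left h2 _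
      _ ≤ _ := by
        rw [← pow_mul, ← pow_mul]
        refine Nat.pow_le_pow_right (by omega) ?_
        have : 7 * r ≤ r ^ 2 := by nlinarith only [hr]
        omega
  refine Nat.le_of_mul_le_mul_right (h1.trans ?_) (show 0 < r by omega)
  calc _ ≤ 4 * (2 * d * S) := Nat.mul_le_mul_left _ h
    _ ≤ 4 * (2 * r * S) := by gcongr
    _ = _ := by ring

theorem le_of_two_mul {X d S Y : ℕ} (h0 : 0 < Y) (h1 : X * (2 * d) ≤ Y) (h : Y ≤ 2 * d * S) : X ≤ S := by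
  refine Nat.le_of_mul_le_mul_right (h1.trans (h.trans (mul_comm _ _).le)) (Nat.pos_of_ne_zero fun e => ?_)
  rw [e, zero_mul] at h
  omega

theorem num_big {q d r k t S : ℕ} (h2 : 2 ≤ q) (hr : 3 ≤ r) (hq : r ≤ q + 1) (hd : d ≤ q + 1) (hk : 2 ≤ k)
    (ht : 9 * t ≤ (r ^ k) ^ 2) (h : q ^ ((r ^ k) ^ 2 - 1) ≤ 2 * d * S) : ((q ^ 2) ^ t) ^ 3 * r ^ (2 * k ^ 2 + 3 * k) ≤ S := by
  have h1 : 24 * (2 * k ^ 2 + 3 * k + 1) + 30 ≤ 5 * (3 ^ k) ^ 2 := by
    clear ht h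
    induction k, hk using Nat.le_induction with
    | base => norm_num
    | succ k hk ih => rw [pow_succ 3]; linarith only [ih, _root_.sq_nonneg (↑k : ℤ)]
  have h3 : (3 ^ k) ^ 2 ≤ (r ^ k) ^ 2 := by gcongr
  have h4 := pw_le (q := q) (a := 2) (m := 5) (c := 1) (f := 1) (e := 3) (by norm_num) h2 (by norm_num)
  rw [mul_one, one_mul] at h4
  refine le_of_two_mul (by positivity) ((Nat.pow_le_pow_iff_left (show 5 ≠ 0 by norm_num)).1 ?_) h
  calc _ ≤ (((q ^ 2) ^ t) ^ 3 * (q + 1) ^ (2 * k ^ 2 + 3 * k) * (q * (q + 1))) ^ 5 := by gcongr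
    _ = q ^ (30 * t + 5) * ((q + 1) ^ 5) ^ (2 * k ^ 2 + 3 * k + 1) := by generalize q + 1 = x; ring
    _ ≤ q ^ (30 * t + 5) * (q ^ (5 + 3)) ^ (2 * k ^ 2 + 3 * k + 1) := by gcongr
    _ ≤ _ := by
      rw [← pow_mul, ← pow_mul, ← pow_add]
      exact Nat.pow_le_pow_right (by omega) (by omega)

theorem num_two {z k t M S : ℕ} (hz : 2 ≤ z) (hk : 4 ≤ k) (ht : 32 * t ≤ 3 * (2 ^ k) ^ 2) (hM : 2 * M + 2 ^ k = (2 ^ k) ^ 2)
    (h : z ^ M ≤ 8 * S) : (z ^ t) ^ 3 * 2 ^ (2 * k ^ 2 + 3 * k) ≤ S := by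
  have h1 : 2 * k ^ 2 + 3 * k + 3 ≤ 3 * 2 ^ k := by
    clear ht hM
    induction k, hk using Nat.le_induction with
    | base => norm_num
    | succ k hk ih => rw [pow_succ 2]; nlinarith only [hk, ih]
  have h2 : 16 ≤ 2 ^ k := Nat.pow_le_pow_right (n := 2) two_pos hk
  have h3 : 16 * 2 ^ k ≤ (2 ^ k) ^ 2 := by nlinarith only [h2]
  refine Nat.le_of_mul_le_mul_left (le_trans ?_ h) (show 0 < 8 by norm_num)
  calc _ = (z ^ t) ^ 3 * 2 ^ (2 * k ^ 2 + 3 * k + 3) := by ring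
    _ ≤ (z ^ t) ^ 3 * z ^ (2 * k ^ 2 + 3 * k + 3) := by gcongr
    _ ≤ _ := by
      rw [← pow_mul, ← pow_add]
      exact Nat.pow_le_pow_right (by omega) (by omega)

end num

variable {A : Type} [Ring A] [StarRing A] [Finite A]

variable (A) in
/-- `q` symmetric central elements with invertible differences -/
def Sc (q : ℕ) : Prop := ∃ (ι : Type) (e : ι → A), Nat.card ι = q ∧ (∀ i, e i ∈ Subring.center A) ∧
  (∀ i, star (e i) = e i) ∧ ∀ i j, i ≠ j → IsUnit (e i - e j)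

theorem isUnit_three (h3 : (3 : A) = 0) {s : A} (hs : s * s = 1 + 1) {m n : ℤ} (h : 3 ∣ (m ^ 2 + n ^ 2) ^ 2 - 1) :
    IsUnit ((m : A) + n * s) := by
  obtain ⟨c, hc⟩ := h
  have h1 := congrArg (Int.cast : ℤ → A) hc
  have h2 : ((m : A) + n * s) * (m - n * s) = ((m ^ 2 + n ^ 2 : ℤ) : A) := by
    have h4 : (n : A) * s * (n * s) = n * n * (1 + 1) := by
      rw [← hs, mul_assoc, ← mul_assoc s, ← Int.cast_comm n s, mul_assoc, mul_assoc]
    rw [mul_sub, add_mul, add_mul, h4, ← Int.cast_comm m (n * s), Int.cast_add, Int.cast_pow, Int.cast_pow,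
      ← add_zero (_ + _ ^ 2), ← mul_zero (-(n * n : A)), ← h3, show (3 : A) = 1 + 1 + 1 by norm_num]
    noncomm_ring
  rw [Int.cast_mul, Int.cast_ofNat, h3, zero_mul, Int.cast_sub, Int.cast_pow, Int.cast_one, sub_eq_zero, pow_two] at h1
  exact IsUnit.of_mul_eq_one _ (by rw [← mul_assoc, h2, h1])

namespace XC

variable {F : FR A} {H N : Subgroup (RingAut A)} {p r : ℕ} (E : XC F H N p r)
include E

theorem dvd_of_pow {m : ℕ} (hm : ∀ z ∈ Subring.center A, Un z → z ^ m = 1) : r ∣ m := by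
  obtain ⟨u, v, hu, hv, h⟩ := E.exists_pair E.nd_top E.σ.ne
  obtain ⟨ζ, a1, a2, a3⟩ := E.exists_cm hu hv
  by_contra h1
  exact h (a3.eq ((pow_eq_one_iff_of_coprime ((Nat.Prime.coprime_iff_not_dvd E.σ.prime).2 h1)).1 ⟨a2, hm ζ a3.1 a1⟩))

omit E in
theorem card_ne (E : XC F H N p 2) (j : ℕ) : Nat.card (Subring.center A) ≠ 2 ^ j := fun e => by
  have := E.σ.ss.nontrivial
  obtain ⟨h, hh⟩ := E.exists_hf
  have h1 := SB.C2.cast_card_center (A := A)
  rw [e, Nat.cast_pow, Nat.cast_ofNat] at h1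
  exact ((IsUnit.of_mul_eq_one_right h hh.two).pow j).ne_zero h1

omit E in
theorem gd_two (E : XC F H N p 2) {k M : ℕ} (hN : Nat.card N = (2 ^ k) ^ 2) (hk : 4 ≤ k) (hM : 2 * M + 2 ^ k = (2 ^ k) ^ 2)
    (hS : Nat.card (Subring.center A) ^ M ≤ 8 * Nat.card F.S) : Gd F H := by
  have h2 : 16 ≤ 2 ^ k := Nat.pow_le_pow_right (n := 2) two_pos hk
  obtain ⟨g, t, g1, g2, g3, g4, g5⟩ := E.two_big (by nlinarith only [hN, h2])
  exact E.gd_of g1 g2 g3 g4 ((Nat.mul_le_mul_left _ (E.card_B (k := k) (by rw [hN, ← pow_mul, mul_comm]))).trans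
    (num_two E.σ.two_le hk (hN ▸ g5) hM hS))

/-- **linear and unitary groups** -/
theorem coreU {n q m : ℕ} (hN : Nat.card N = n ^ 2) (h5 : 5 ≤ n) (hz : Nat.card (Subring.center A) = q ^ 2) (sc : Sc A q)
    (hq : 2 ≤ q) (hm : ∀ z ∈ Subring.center A, Un z → z ^ m = 1) (m0 : 0 < m) (m1 : m ≤ q + 1)
    (hS : q ^ (n ^ 2 - 1) ≤ 2 * n.gcd m * Nat.card F.S) : Gd F H := by
  obtain ⟨k, rfl⟩ := E.exists_k hN
  obtain ⟨ι, e, rfl, e1, e2, e3⟩ := sc
  have d1 := (Nat.gcd_le_right (r ^ k) m0).trans m1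
  have hB := E.card_B (k := k) (by rw [hN, ← pow_mul, mul_comm])
  have h1 := (Nat.le_of_dvd m0 (E.dvd_of_pow hm)).trans m1
  have h0 := E.σ.prime.two_le
  by_cases hr : r = 2
  · subst hr
    by_cases hk : 4 ≤ k
    · obtain ⟨M, hM⟩ : ∃ M, 2 * M + 2 ^ k = (2 ^ k) ^ 2 := by
        obtain ⟨M, hM⟩ := Nat.even_mul_pred_self (2 ^ k)
        exact ⟨M, by rw [two_mul, ← hM, Nat.mul_sub_one, pow_two, Nat.sub_add_cancel (Nat.le_mul_self _)]⟩
      refine E.gd_two hN hk hM (le_trans (le_of_two_mul (by positivity) ?_ hS) (Nat.le_mul_of_pos_left _ (by norm_num)))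
      have h2 := pw_le (a := 2) (m := 1) (c := 2) (f := 1) (e := 3) two_pos hq (by norm_num)
      rw [hz, ← pow_mul]
      rw [pow_one, one_mul] at h2
      calc _ ≤ Nat.card ι ^ (2 * M) * Nat.card ι ^ (1 + 3) := Nat.mul_le_mul_left _ (by omega)
        _ ≤ _ := by
          rw [← pow_add]
          exact Nat.pow_le_pow_right (by omega) (by omega)
    obtain rfl : k = 3 := by
      by_contra h2
      have : 2 ^ k ≤ 2 ^ 2 := Nat.pow_le_pow_right two_pos (by omega)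
      omega
    have h3 : Nat.card ι ≠ 2 := fun h => E.card_ne 2 (by rw [hz, h])
    obtain ⟨h, hh⟩ := E.exists_hf
    obtain ⟨g, g1, g2, g3, g4, g5, ⟨θ, t1, t2⟩, -⟩ := E.two_eight hN
    refine E.gd_of g1 g2 g3 (Cyc.cU_le_unit g1 g4 (cen_comm hh.cen g).symm (by rw [hh.st, ← mul_two, hh.two]) t1 t2 e
      (fun i => (cen_comm (e1 i) g).symm) e2 e3 hq (ν := 8) (by rwa [hz, ← pow_mul, mul_comm, pow_mul] at g5))
      ((Nat.mul_le_mul_left _ hB).trans (le_of_two_mul (by positivity) ?_ hS))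
    have h2 := pw_le (q := Nat.card ι) (a := 3) (m := 25) (c := 2 ^ 28) (f := 1) (e := 38) (by norm_num) (by omega)
      (by norm_num)
    calc _ ≤ ((Nat.card ι + 1) ^ 8) ^ 3 * 2 ^ (2 * 3 ^ 2 + 3 * 3) * (2 * (Nat.card ι + 1)) := by gcongr
      _ = (Nat.card ι + 1) ^ 25 * 2 ^ 28 := by ring
      _ ≤ _ := h2.trans (by norm_num only [_root_.one_mul, _root_.Std.le_refl])
  by_cases hk : 2 ≤ k
  · obtain ⟨g, t, g1, g2, g3, g4, g5⟩ := E.odd_big hr (by
      rw [hN]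
      exact Nat.pow_lt_pow_left (lt_of_lt_of_le (by nlinarith only [h0]) (Nat.pow_le_pow_right (by omega) hk)) two_ne_zero)
    exact E.gd_of g1 g2 g3 (hz ▸ g4) ((Nat.mul_le_mul_left _ hB).trans (num_big hq (by omega) h1 d1 hk (hN ▸ g5) hS))
  obtain rfl : k = 1 := by
    by_contra h2
    rw [show k = 0 by omega, pow_zero] at h5
    omega
  rw [pow_one] at h5 hN hS
  refine E.odd_small hr hN e e1 e2 e3 hq hz.le (num_one ?_ h1 (Nat.gcd_le_left _ (by omega)) hS)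
  by_contra h2
  exact absurd ((show r = 6 by omega) ▸ E.σ.prime) (by norm_num)

/-- **symplectic and orthogonal groups** -/
theorem coreB {n q M : ℕ} (hN : Nat.card N = n ^ 2) (h5 : 5 ≤ n) (hz : Nat.card (Subring.center A) = q) (sc : Sc A q)
    (hs : ∀ z ∈ Subring.center A, star z = z) (hM : 2 * M + n = n ^ 2) (hS : q ^ M ≤ 8 * Nat.card F.S)
    (h3 : n = 8 → q = 3 → 3317760000000 ≤ Nat.card F.S) : Gd F H := by
  obtain ⟨k, rfl⟩ := E.exists_k hN
  have hU : ∀ c ∈ Subring.center A, Un c → c * c = 1 := fun c h1 h2 => by rw [← h2.ms, hs c h1]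
  obtain rfl : r = 2 := (Nat.prime_dvd_prime_iff_eq E.σ.prime Nat.prime_two).1
    (E.dvd_of_pow fun z h1 h2 => by rw [pow_two, hU z h1 h2])
  by_cases hk : 4 ≤ k
  · exact E.gd_two hN hk hM (hz ▸ hS)
  obtain rfl : k = 3 := by
    by_contra h2
    have : 2 ^ k ≤ 2 ^ 2 := Nat.pow_le_pow_right two_pos (by omega)
    omega
  obtain rfl : M = 28 := by omega
  have hq := hz ▸ E.σ.two_le
  obtain ⟨h, hh⟩ := E.exists_hf
  obtain ⟨g, g1, g2, g3, g4, g5, ⟨θ, t1, t2⟩, s, s1, s2, s3⟩ := E.two_eight hN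
  have c1 := (cen_comm hh.cen g).symm
  have c2 : h + star h = 1 := by rw [hh.st, ← mul_two, hh.two]
  by_cases h4 : q = 3
  · obtain ⟨i, j, a, b, c, d, δ, t⟩ := E.exists_tr (by omega)
    have h6 : (3 : A) = 0 := by simpa only [hz, h4, _root_.Nat.cast_ofNat] using SB.C2.cast_card_center (A := A)
    have h7 := Cyc.cU_le_unit g1 g4 c1 c2 t1 t2 (fun x : Fin 3 × Fin 3 => (((x.1 : ℕ) : ℤ) : A) + (((x.2 : ℕ) : ℤ) : A) * s)
      (fun x => by rw [add_mul, mul_add, Int.cast_comm, mul_assoc, s1, ← mul_assoc, Int.cast_comm _ g, mul_assoc])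
      (fun x => by rw [star_add, star_mul, star_intCast, star_intCast, s2, Int.cast_comm _ s])
      (fun x y hxy => by
        rw [add_sub_add_comm, ← sub_mul, ← Int.cast_sub, ← Int.cast_sub]
        exact isUnit_three h6 s3 (by revert x y; decide +kernel)) (ν := 2) (by simp) (by simpa only [hz, h4, _root_.Nat.card_eq_fintype_card, _root_.Fintype.card_prod, _root_.Fintype.card_fin, _root_.Nat.reduceMul, _root_.Nat.reducePow] using g5)
    refine E.gd_of g1 g2 g3 h7 ((Nat.mul_le_mul_left _ (E.card_eight t hN hU)).trans (le_trans ?_ (h3 rfl h4)))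
    simp
  obtain ⟨ι, e, rfl, e1, e2, e3⟩ := sc
  have h6 := E.card_ne 1
  have h7 := E.card_ne 2
  refine E.gd_of g1 g2 g3 (Cyc.cU_le_unit g1 g4 c1 c2 t1 t2 e (fun i => (cen_comm (e1 i) g).symm) e2 e3 hq (ν := 4)
    (by rwa [hz, show 8 = 4 * 2 from rfl, pow_mul] at g5)) ((Nat.mul_le_mul_left _ (E.card_B (k := 3) hN)).trans
      (Nat.le_of_mul_le_mul_left (le_trans ?_ hS) (show 0 < 8 by norm_num)))
  have h2 := pw_le (q := Nat.card ι) (a := 5) (m := 12) (c := 2 ^ 30) (f := 1) (e := 16) (by norm_num) (by omega)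
    (by norm_num)
  calc _ = (Nat.card ι + 1) ^ 12 * 2 ^ 30 := by ring
    _ ≤ _ := h2.trans (by norm_num only [_root_.one_mul, _root_.Std.le_refl])

theorem card_N {n : ℕ} (hn : Nat.card A = Nat.card (Subring.center A) ^ n ^ 2) : Nat.card N = n ^ 2 :=
  Nat.pow_right_injective E.σ.two_le (E.σ.card_eq.symm.trans hn)

end XC

theorem pow_of_ZI (F : FR A) {m : ℕ} (h : ∀ z ∈ Cyc.ZI F, z ^ m = 1) : ∀ z ∈ Subring.center A, Un z → z ^ m = 1 :=
  fun z h1 h2 => (Units.val_pow_eq_pow_val (mkU z h2) m).symm.trans (congrArg Units.val (h (mkU z h2)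
    (Cyc.mem_ZI (FR.mem_Iso_of_cj h2 (by rw [cj_eq_one_iff.2 h1]; exact one_mem _)) h1)))

section kinds

variable {K V : Type} [Field K] [Fintype K] [AddCommGroup V] [Module K V] [Finite V]

theorem sc_L (n : ℕ) (K : Type) [Field K] [Fintype K] : Sc (LR (Fin n) K) (Fintype.card K) :=
  ⟨K, fun c => LR.mk (c • 1) (c • 1), Nat.card_eq_fintype_card,
    fun c => Subring.mem_center_iff.2 fun x => by
      obtain ⟨a, b, rfl⟩ := LR.exists_mk x
      simp [LR.mk_mul],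
    fun c => by simp [LR.star_mk], fun c d h => IsUnit.of_mul_eq_one (LR.mk ((c - d)⁻¹ • 1) ((c - d)⁻¹ • 1)) (by
      rw [LR.mk_sub, LR.mk_mul, ← sub_smul, smul_mul_smul_comm, mul_inv_cancel₀ (sub_ne_zero.2 h), one_mul, one_smul,
        LR.one_eq])⟩

theorem card_L {n : ℕ} (hn : 0 < n) (K : Type) [Field K] [Fintype K] :
    Nat.card (Subring.center (LR (Fin n) K)) = Fintype.card K ^ 2 ∧
      Nat.card (LR (Fin n) K) = Nat.card (Subring.center (LR (Fin n) K)) ^ n ^ 2 := by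
  have : Nonempty (Fin n) := ⟨⟨0, hn⟩⟩
  rw [SB.C2.L_card_center (by exact SB.C2.prL_bij), SB.C2.L_card (SB.C2.prL_bij (n := n) (K := K)), SB.C2.card_end, finrank_fin_fun, ← pow_mul,
    ← pow_mul, mul_comm, Nat.card_eq_fintype_card]
  exact ⟨rfl, rfl⟩

theorem S_ge_L {n : ℕ} {F : FR (LR (Fin n) K)} (k : KL F) :
    Fintype.card K ^ (n ^ 2 - 1) ≤ 2 * n.gcd (Fintype.card K - 1) * Nat.card F.S := by
  have h1 := Cyc.oGL_ge' (Cyc.two_le_q K) (n := n) (by have := k.dim; omega)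
  rw [← Cyc.card_S_L k] at h1
  exact Nat.le_of_mul_le_mul_left (h1.trans (le_of_eq (by ring))) (Nat.sub_pos_of_lt Fintype.one_lt_card)

variable {h : HF K V} {F : FR h.EB}

theorem sc_U {q : ℕ} (k : KU h F q) : Sc h.EB q :=
  ⟨{x : K // x ^ q = x}, fun c => h.eb (c.1 • 1), LieClassical.HermBasic.card_fixed k.card, fun c => h.smul_mem_center _,
    fun c => by rw [Cyc.sc_star, Cyc.tau_pow k.u k.card, c.2], fun _ _ hcd => Cyc.sc_unit fun e => hcd (Subtype.ext e)⟩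

theorem sc_B (hτ : ∀ c, h.τ c = c) : Sc h.EB (Fintype.card K) :=
  ⟨K, fun c => h.eb (c • 1), Nat.card_eq_fintype_card, fun c => h.smul_mem_center _, fun c => by rw [Cyc.sc_star, hτ],
    fun _ _ => Cyc.sc_unit⟩

theorem card_cen [Nontrivial V] (h : HF K V) : Nat.card (Subring.center h.EB) = Fintype.card K := by
  rw [SB.C2.card_center (SB.C2.ebE h), Nat.card_eq_fintype_card]

theorem S_ge_U {q : ℕ} (k : KU h F q) : q ^ (finrank K V ^ 2 - 1) ≤ 2 * (finrank K V).gcd (q + 1) * Nat.card F.S := by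
  have h0 := ClassicalGeometry.GUBasic.two_le k.card
  have h3 := k.dim
  have h1 := Cyc.oGU_ge h0 (n := finrank K V) (by omega)
  rw [← Cyc.card_S_U k, mul_assoc, mul_left_comm (Nat.gcd _ _)] at h1
  have h2 := Nat.le_of_mul_le_mul_left h1 q.succ_pos
  have h4 : 9 ≤ finrank K V ^ 2 := by nlinarith only [h3]
  have h5 : 4 ≤ q ^ 2 := by nlinarith only [h0]
  rw [show finrank K V ^ 2 - 1 = 2 + (finrank K V ^ 2 - 3) by omega, pow_add, mul_assoc]
  exact (Nat.mul_le_mul_right _ (show q ^ 2 ≤ 2 * (q ^ 2 - 1) by omega)).trans (by rw [mul_assoc]; omega)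

theorem S_ge_Sp {j : ℕ} (k : KSp h F j) : Fintype.card K ^ (2 * j ^ 2 + j) ≤ 3 * Nat.card F.S := by
  have h1 := Cyc.oSp_ge' (Cyc.two_le_q K) j
  have h2 := Nat.mul_le_mul_right (Nat.card F.S) (Nat.gcd_le_left (Fintype.card K - 1) two_pos)
  rw [Cyc.card_S_Sp k] at h2
  omega

theorem S_ge_O {Q : QuadraticForm K V} (k : KO h F Q) :
    (∃ m, finrank K V = 2 * m + 1 ∧ Cyc.oSp m (Fintype.card K) ≤ 2 * Nat.card F.S) ∨
      ∃ m, finrank K V = 2 * (m + 1) ∧ Cyc.oP (m + 1) (Fintype.card K) ≤ 4 * Nat.card F.S := by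
  have h7 := k.dim
  rcases Cyc.card_S_O k with ⟨m, h1, -, h2⟩ | ⟨m, h1, -, h2⟩ | ⟨m, h1, -, h2⟩
  · exact Or.inl ⟨m, h1, h2.ge⟩
  all_goals
    obtain ⟨m, rfl⟩ := Nat.exists_eq_add_of_le' (show 1 ≤ m by omega)
    refine Or.inr ⟨m, h1, le_trans ?_ (h2.ge.trans (Nat.mul_le_mul_right _ (Nat.gcd_le_left _ four_pos)))⟩
  exacts [le_rfl, Cyc.oP_le_oM _ _]

end kinds

end Cfsg.Agent.N2C.Ext

namespace Cfsg.Agent.N2C

open Cfsg.Agent.N2C.Ext Module

/-- **class `pExt`** -/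
theorem ext : On pExt := by
  refine ⟨fun K _ _ n F H p k h5 c h => ?_, fun K V _ _ _ _ _ f F q H p k h5 c h => ?_,
    fun K V _ _ _ _ _ f F j H p k h5 c h => ?_, fun K V _ _ _ _ _ f F Q H p k c h => ?_⟩ <;>
    obtain ⟨N, r, E⟩ := exists_xc c h
  · obtain ⟨h1, h2⟩ := card_L (n := n) (by omega) K
    exact E.coreU (E.card_N h2) h5 h1 (sc_L n K) (Cyc.two_le_q K) (pow_of_ZI F fun _ => Cyc.ZI_pow_L)
      (Nat.sub_pos_of_lt Fintype.one_lt_card) (by omega) (S_ge_L k)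
  · have : Nontrivial V := nontrivial_of_finrank_pos (R := K) (by omega)
    exact E.coreU (E.card_N (SB.C2.card_EB f)) h5 ((card_cen f).trans k.card) (sc_U k)
      (ClassicalGeometry.GUBasic.two_le k.card) (pow_of_ZI F fun _ => Cyc.ZI_pow_U k) q.succ_pos le_rfl (S_ge_U k)
  · have h1 := k.dim
    have : Nontrivial V := nontrivial_of_finrank_pos (R := K) (by omega)
    have h2 := S_ge_Sp k
    obtain ⟨M, hM⟩ : ∃ M, M + j = 2 * j ^ 2 := Nat.exists_eq_add_of_le' (show j ≤ 2 * j ^ 2 by nlinarith only []) |>.imp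
      fun _ => Eq.symm
    refine E.coreB (M := M) (E.card_N (SB.C2.card_EB f)) (by omega) (card_cen f) (sc_B k.sp.1)
      (SB.C2.star_cen_eq f k.sp.1) (by rw [h1]; linarith only [hM])
      ((Nat.pow_le_pow_right Fintype.card_pos (by omega)).trans (h2.trans (by omega))) fun h3 h4 => ?_
    rw [h4, show j = 4 by omega] at h2
    omega
  · have h1 := k.dim
    have : Nontrivial V := nontrivial_of_finrank_pos (R := K) (by omega)
    rcases S_ge_O k with ⟨m, h2, h3⟩ | ⟨m, h2, h3⟩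
    · have h4 := Cyc.oSp_ge' (Cyc.two_le_q K) m
      exact E.coreB (M := 2 * m ^ 2 + m) (E.card_N (SB.C2.card_EB f)) (by omega) (card_cen f) (sc_B k.o.1)
        (SB.C2.star_cen_eq f k.o.1) (by rw [h2]; ring) (by omega) (by omega)
    · have h4 := Cyc.oP_ge (Cyc.two_le_q K) (show 3 ≤ m by omega)
      refine E.coreB (M := 2 * m ^ 2 + 3 * m + 1) (E.card_N (SB.C2.card_EB f)) (by omega) (card_cen f) (sc_B k.o.1)
        (SB.C2.star_cen_eq f k.o.1) (by rw [h2]; ring) (by omega) fun h5 h6 => ?_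
      rw [h6, show m = 3 by omega, show Cyc.oP (3 + 1) 3 = 19808719257600 by decide +kernel] at h3
      omega

end Cfsg.Agent.N2C
end

private theorem dce_a0f9aeb4765a : _root_.True := by
  try have : _root_.True := by simp only [_root_.Cfsg.Agent.N2C.Ext.q2.eq_1]
  try have : _root_.True := by simp only [_root_.Cfsg.Agent.N2C.Ext.tt.eq_1]
  try have : _root_.True := by simp only [_root_.Cfsg.Agent.N2.cc.eq_1]
  try have : _root_.True := by simp only [_root_.Cfsg.Agent.N2C.Ext.gs.congr_simp]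
  try have : _root_.True := by simp only [_root_.Cfsg.Agent.N2C.Ext.Iv.congr_simp]
  try have : _root_.True := by simp only [_root_.Cfsg.Agent.N2C.Ext.w6.eq_1]
  try have : _root_.True := by simp only [_root_.Cfsg.Agent.N2C.Ext.gs.eq_1]
  try have : _root_.True := by simp only [_root_.Cfsg.Agent.N2C.Ext.pw.eq_1]
  try have : _root_.True := by simp only [_root_.Cfsg.Agent.N2C.Ext.w2.eq_1]
  try have : _root_.True := by simp only [_root_.Cfsg.Agent.N2C.Ext.q6.eq_1]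
  exact _root_.True.intro
end

-- part: N2/Cl/TenSO/Main
section
prune_inst 0x100001000500000000000000000000002000000000000000008000000100200000000000000000000000010000040000000000000000000000000000000001000000000000000000000000000000000000000000000000000000000000000000000000000
set_option linter.all false
open scoped Cfsg.Agent.FastGrp

-- part: N2/Cl/TenSO/Cd
section
/-!
# N2 (S3519), tensor decompositions: commutants and fixed spaces of elements of a factor (helper92)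

`Cd B m d g` : the commutant of `g` is detected by `d` coefficients; `Kr B m κ g` : the same for the fixed space;
`Rk B m ε` : a symmetric or skew element of rank one.
-/

set_option autoImplicit false
set_option linter.unusedSectionVars false
set_option maxHeartbeats 400000

namespace Cfsg.Agent.N2C.TenSO

open Cfsg.Agent.DS.Cl Cfsg.Agent.DS.Cl.Fwd Cfsg.Agent.SB.Cl Module
open Cfsg.Agent.TH.Cl.Ten (Cz)
open Cfsg.Agent.N2C.Cyc

section ring

variable {A : Type} [Ring A] [Finite A] {B B' : Subring A} {m m' d d' : ℕ} {g g' e : A}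

theorem Ru.card_mid (h : Ru B m e) : Nat.card {y : A // e * y * e = y} ^ (m ^ 2) ≤ Nat.card A := by
  obtain ⟨ι, _, a, b, h0, -, -, -, h4, h5, h6, -⟩ := h
  rw [← h0, ← Nat.card_eq_fintype_card, sq, pow_mul, ← Nat.card_fun, ← Nat.card_fun]
  have k : ∀ (x : ι → ι → {y : A // e * y * e = y}) (k l : ι),
      e * b k * (∑ i, ∑ j, a i * (x i j).1 * b j) * a l = x k l := fun x k l => by
    have k1 : ∀ i j, e * b k * (a i * (x i j).1 * b j) * a l = e * b k * a i * (x i j).1 * (e * b j * a l) := fun i j => by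
      conv_lhs => rw [← (x i j).2]
      conv_rhs => rw [← (x i j).2]
      simp only [mul_assoc]
      rw [← mul_assoc e e, h4]
    simp only [Finset.mul_sum, Finset.sum_mul, k1]
    rw [Finset.sum_eq_single k, Finset.sum_eq_single l, h5, h5, (x k l).2]
    · exact fun j _ hj => by rw [h6 _ _ hj, mul_zero]
    · exact fun h => absurd (Finset.mem_univ l) h
    · exact fun i _ hi => Finset.sum_eq_zero fun j _ => by rw [h6 _ _ hi.symm, zero_mul, zero_mul]
    · exact fun h => absurd (Finset.mem_univ k) h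
  exact Nat.card_le_card_of_injective (fun x => ∑ i, ∑ j, a i * (x i j).1 * b j) fun x y hxy => funext₂ fun i j =>
    Subtype.ext (by rw [← k, ← k, show ∑ i, ∑ j, a i * (x i j).1 * b j = ∑ i, ∑ j, a i * (y i j).1 * b j from hxy])

/-- the commutant of `g` is detected by `d` coefficients -/
def Cd (B : Subring A) (m d : ℕ) (g : A) : Prop :=
  ∃ e, Ru B m e ∧ ∃ (ι : Type) (_ : Fintype ι) (Λ : ι → A →+ A), Fintype.card ι ≤ d ∧ (∀ l x, e * Λ l x * e = Λ l x) ∧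
    (∀ l x, ∀ c ∈ Cz B, Λ l (c * x) = c * Λ l x ∧ Λ l (x * c) = Λ l x * c) ∧
    ∀ x, x * g = g * x → (∀ l, Λ l x = 0) → x = 0

theorem Cd.mono (h : Cd B m d g) (hd : d ≤ d') : Cd B m d' g := by
  obtain ⟨e, r, ι, _, Λ, h1, h2⟩ := h
  exact ⟨e, r, ι, _, Λ, h1.trans hd, h2⟩

theorem Cd.mul (h : Cd B m d g) (h' : Cd B' m' d' g') (hc : ∀ x ∈ B, ∀ y ∈ B', x * y = y * x) (hg : g' ∈ B')
    (k : ∀ x, x * (g * g') = g * g' * x → x * g = g * x ∧ x * g' = g' * x) : Cd (B ⊔ B') (m * m') (d * d') (g * g') := by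
  obtain ⟨e, r, ι, _, Λ, h1, h2, h3, h4⟩ := h
  obtain ⟨e', r', ι', _, Λ', k1, k2, k3, k4⟩ := h'
  have a1 : e ∈ Cz B' := fun y hy => (hc e r.mem y hy).symm
  have a2 : g' ∈ Cz B := fun y hy => hc y hy g' hg
  refine ⟨e * e', r.mul r' hc le_sup_left le_sup_right, ι × ι', inferInstance, fun l => (Λ' l.2).comp (Λ l.1),
    by rw [Fintype.card_prod]; exact Nat.mul_le_mul h1 k1, fun l x => ?_, fun l x c hc' => ?_, fun x hx h0 => ?_⟩
  · change e * e' * Λ' _ (Λ _ x) * (e * e') = Λ' _ (Λ _ x)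
    conv_lhs => rw [hc e r.mem e' r'.mem]; rw [← hc e r.mem e' r'.mem]; arg 2; rw [hc e r.mem e' r'.mem]
    rw [← mul_assoc, mul_assoc e, mul_assoc e, k2, ← (k3 _ _ e a1).1, ← (k3 _ _ e a1).2, h2]
  · have b1 : c ∈ Cz B := fun y hy => hc' y (le_sup_left (a := B) hy)
    have b2 : c ∈ Cz B' := fun y hy => hc' y (le_sup_right (b := B') hy)
    exact ⟨(congrArg (Λ' _) (h3 _ _ c b1).1).trans (k3 _ _ c b2).1, (congrArg (Λ' _) (h3 _ _ c b1).2).trans (k3 _ _ c b2).2⟩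
  · exact h4 x (k x hx).1 fun l => k4 _ (by rw [← (h3 _ _ _ a2).1, ← (h3 _ _ _ a2).2, (k x hx).2]) fun l' => h0 (l, l')

theorem Cd.card_le (h : Cd B m d g) : cA g ^ (m ^ 2) ≤ Nat.card A ^ d := by
  obtain ⟨e, r, ι, _, Λ, h1, h2, -, h4⟩ := h
  have : Nonempty {y : A // e * y * e = y} := ⟨⟨0, by simp⟩⟩
  have h5 : cA g ≤ Nat.card {y : A // e * y * e = y} ^ d := by
    refine le_trans ?_ (Nat.pow_le_pow_right Nat.card_pos h1)
    rw [← Nat.card_eq_fintype_card, ← Nat.card_fun]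
    exact Nat.card_le_card_of_injective (fun x l => ⟨Λ l x.1, h2 l _⟩) fun x y k => Subtype.ext (sub_eq_zero.1
      (h4 _ (by rw [sub_mul, mul_sub, x.2, y.2]) fun l => by rw [map_sub, sub_eq_zero]; exact Subtype.mk.inj (congrFun k l)))
  refine (Nat.pow_le_pow_left h5 _).trans ?_
  rw [← pow_mul, mul_comm, pow_mul]
  exact Nat.pow_le_pow_left r.card_mid d

/-- the fixed space of `g` is detected by `κ` coefficients -/
def Kr (B : Subring A) (m κ : ℕ) (g : A) : Prop :=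
  ∃ e, Ru B m e ∧ ∃ (ι : Type) (_ : Fintype ι) (α β : ι → A) (σ : A), Fintype.card ι ≤ κ ∧ (∀ l, e * α l = α l) ∧
    σ * (g - 1) + ∑ l, β l * α l = 1

/-- an element of rank one with `star s = ε s` -/
def Rk [StarRing A] (B : Subring A) (m : ℕ) (ε : ℤ) : Prop :=
  ∃ e s, Ru B m e ∧ s ∈ B ∧ star s = ε * s ∧ (∃ a ∈ B, ∃ b ∈ B, s = a * e * b) ∧ ∃ a ∈ B, ∃ b ∈ B, e = a * s * b

theorem Rk.mul [StarRing A] {ε ε' : ℤ} (h : Rk B m ε) (h' : Rk B' m' ε') (hc : ∀ x ∈ B, ∀ y ∈ B', x * y = y * x) :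
    Rk (B ⊔ B') (m * m') (ε * ε') := by
  obtain ⟨e, s, r, h1, h2, ⟨a, ha, b, hb, h3⟩, c, hc1, d, hd, h4⟩ := h
  obtain ⟨e', s', r', k1, k2, ⟨a', ha', b', hb', k3⟩, c', hc', d', hd', k4⟩ := h'
  have l : ∀ {x y}, x ∈ B → y ∈ B' → x * y ∈ B ⊔ B' := fun hx hy =>
    mul_mem (le_sup_left (a := B) hx) (le_sup_right (b := B') hy)
  have mm : ∀ x, ∀ y ∈ B', ∀ z ∈ B, ∀ w, x * y * (z * w) = x * z * (y * w) := fun x y hy z hz w => by
    rw [mul_assoc, ← mul_assoc y, ← hc z hz y hy, mul_assoc, mul_assoc]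
  refine ⟨e * e', s * s', r.mul r' hc le_sup_left le_sup_right, l h1 k1, ?_, ⟨_, l ha ha', _, l hb hb', ?_⟩, _, l hc1 hc',
    _, l hd hd', ?_⟩
  · rw [star_mul, h2, k2, ← zsmul_eq_mul, ← zsmul_eq_mul, ← zsmul_eq_mul, smul_mul_smul_comm, hc s h1 s' k1, mul_comm]
  · rw [mm _ _ ha' _ r.mem, mm _ _ (mul_mem ha' r'.mem) _ hb, ← h3, ← k3]
  · rw [mm _ _ hc' _ h1, mm _ _ (mul_mem hc' k1) _ hd, ← h4, ← k4]

end ring

section lin

variable {K M : Type} [Field K] [AddCommGroup M] [Module K M] [FiniteDimensional K M]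

theorem split (T : M →ₗ[K] M) : ∃ (σ : M →ₗ[K] M) (w : Fin (finrank K (LinearMap.ker T)) → M)
    (φ : Fin (finrank K (LinearMap.ker T)) → M →ₗ[K] K), ∀ x, σ (T x) + ∑ l, φ l x • w l = x := by
  obtain ⟨τ, hτ⟩ := T.rangeRestrict.exists_rightInverse_of_surjective T.range_rangeRestrict
  obtain ⟨σ, hσ⟩ := LinearMap.exists_extend τ
  have h1 : ∀ x, (LinearMap.id - σ ∘ₗ T : M →ₗ[K] M) x ∈ LinearMap.ker T := fun x => by
    have h2 : σ (T x) = τ (T.rangeRestrict x) := LinearMap.congr_fun hσ (T.rangeRestrict x)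
    have h3 : T (τ (T.rangeRestrict x)) = T x := congrArg Subtype.val (LinearMap.congr_fun hτ (T.rangeRestrict x))
    change T (x - σ (T x)) = 0
    rw [map_sub, h2, h3, sub_self]
  let c := finBasis K (LinearMap.ker T)
  refine ⟨σ, fun l => c l, fun l => c.coord l ∘ₗ (LinearMap.id - σ ∘ₗ T).codRestrict _ h1, fun x => ?_⟩
  have h2 := congrArg Subtype.val (c.sum_repr ((LinearMap.id - σ ∘ₗ T).codRestrict _ h1 x))
  rw [Submodule.coe_sum] at h2
  exact (congrArg _ h2).trans (add_sub_cancel _ _)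

theorem finrank_le_of_card [Fintype K] {W : Submodule K M} {d : ℕ} (h : Nat.card W ≤ Fintype.card K ^ d) :
    finrank K W ≤ d := by
  rw [natCard_eq_pow_finrank (K := K), Nat.card_eq_fintype_card] at h
  exact (Nat.pow_le_pow_iff_right Fintype.one_lt_card).1 h

variable {m : ℕ} (c : Basis (Fin m) K M)

/-- the matrix units of a basis -/
noncomputable def Eu (i j : Fin m) : End K M := (c.coord j).smulRight (c i)

theorem Eu_apply (i j : Fin m) (x : M) : Eu c i j x = c.repr x j • c i := rfl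

theorem Eu_mid (y : End K M) (k i j l : Fin m) : Eu c k i * y * Eu c j l = c.repr (y (c j)) i • Eu c k l :=
  LinearMap.ext fun x => by
    rw [End.mul_apply, End.mul_apply, Eu_apply, Eu_apply, map_smul, map_smul, LinearMap.smul_apply, Eu_apply, smul_smul,
      Finsupp.smul_apply, smul_eq_mul, mul_comm]

theorem mu_Eu : MU0 (Eu c) where
  mul i j k l := by
    have h1 := Eu_mid c 1 i j k l
    rw [mul_one, End.one_apply, c.repr_self, Finsupp.single_apply] at h1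
    rw [h1]
    by_cases h : j = k
    · rw [if_pos h, if_pos h.symm, one_smul]
    · rw [if_neg h, if_neg (Ne.symm h), zero_smul]
  sum := LinearMap.ext fun x => by
    rw [LinearMap.sum_apply]
    exact c.sum_repr x

theorem coef_Eu (y : End K M) (i j : Fin m) : coef (Eu c) y i j = c.repr (y (c j)) i • 1 := by
  simp only [coef, Eu_mid, ← Finset.smul_sum, (mu_Eu c).sum]

variable {A : Type} [Ring A] [Finite A] {B : Subring A} (ψ : End K M →+* A) (hB : ∀ x, x ∈ B ↔ ∃ y, ψ y = x)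
  (hc : ∀ a : K, ψ (a • 1) ∈ Subring.center A) (o : Fin m)
include hB

theorem ru_Eu : Ru B m (ψ (Eu c o o)) := by
  have h := (mu_Eu c).map ψ
  have k : ∀ i j, ψ (Eu c i j) ∈ B := fun i j => (hB _).2 ⟨_, rfl⟩
  refine ⟨Fin m, inferInstance, fun i => ψ (Eu c i o), fun i => ψ (Eu c o i), Fintype.card_fin m, k _ _, fun i => k _ _,
    fun i => k _ _, h.mul_eq _ _ _, fun i => by rw [h.mul_eq, h.mul_eq], fun i j hij => by rw [h.mul_eq, h.mul, if_neg hij], ?_⟩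
  simp only [h.mul_eq, h.sum]

include c o in
theorem kr_of {g : End K M} {κ : ℕ} (h : finrank K (LinearMap.ker (g - 1)) ≤ κ) : Kr B m κ (ψ g) := by
  obtain ⟨σ, w, φ, k⟩ := split (g - 1)
  refine ⟨_, ru_Eu c ψ hB o, _, inferInstance, fun l => ψ ((φ l).smulRight (c o)), fun l => ψ ((c.coord o).smulRight (w l)),
    ψ σ, by rwa [Fintype.card_fin], fun l => ?_, ?_⟩
  · rw [← map_mul]
    exact congrArg ψ (LinearMap.ext fun x => by simp [Eu_apply])
  · simp only [← map_mul]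
    rw [← map_one ψ, ← map_sub, ← map_mul, ← map_sum, ← map_add]
    refine congrArg ψ (LinearMap.ext fun x => ?_)
    simpa only [_root_.LinearMap.add_apply, _root_.Module.End.mul_apply, _root_.LinearMap.sub_apply, _root_.Module.End.one_apply, _root_.map_sub, _root_.LinearMap.coe_sum, _root_.Finset.sum_apply, _root_.LinearMap.coe_smulRight, _root_.map_smul, _root_.Module.Basis.coord_apply, _root_.Module.Basis.repr_self, _root_.Finsupp.single_eq_same, _root_.one_smul] using k x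

include c o hc in
theorem cd_of {g : End K M} {d : ℕ} (h : finrank K (LinearMap.ker (LinearMap.mulRight K g - LinearMap.mulLeft K g)) ≤ d) :
    Cd B m d (ψ g) := by
  obtain ⟨σ, w, φ, k⟩ := split (LinearMap.mulRight K g - LinearMap.mulLeft K g)
  have hE := (mu_Eu c).map ψ
  have mem : ∀ y, ψ y ∈ B := fun y => (hB _).2 ⟨_, rfl⟩
  have sm : ∀ (a : K) y, ψ (a • y) = ψ (a • 1) * ψ y := fun a y => by rw [← map_mul, smul_mul_assoc, one_mul]
  let co : Fin m → Fin m → A →+ A := fun i j =>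
    { toFun := fun x => coef (fun i j => ψ (Eu c i j)) x i j
      map_zero' := by simp only [coef, _root_.MulZeroClass.mul_zero, _root_.MulZeroClass.zero_mul, _root_.Finset.sum_const_zero]
      map_add' := fun x y => by simp only [coef, mul_add, add_mul, Finset.sum_add_distrib] }
  have c0 : ∀ i j x, co i j x = coef (fun i j => ψ (Eu c i j)) x i j := fun _ _ _ => rfl
  have c1 : ∀ i j x, co i j x ∈ Cz B := fun i j x y hy => by
    obtain ⟨y, rfl⟩ := (hB y).1 hy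
    rw [(mu_Eu c).expand y]
    simp only [map_sum, map_mul, coef_Eu, Finset.sum_mul, Finset.mul_sum]
    refine Finset.sum_congr rfl fun p _ => Finset.sum_congr rfl fun q _ => ?_
    rw [c0, mul_assoc, ← hE.coef_comm, ← mul_assoc, ← cen_comm (hc _), mul_assoc]
  have c2 : ∀ i j x, ∀ z ∈ Cz B, co i j (z * x) = z * co i j x ∧ co i j (x * z) = co i j x * z := fun i j x z hz => by
    simp only [c0, coef, Finset.sum_mul, Finset.mul_sum]
    exact ⟨Finset.sum_congr rfl fun p _ => by rw [← mul_assoc, hz _ (mem _)]; simp only [mul_assoc],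
      Finset.sum_congr rfl fun p _ => by simp only [mul_assoc]; rw [hz _ (mem _)]⟩
  let Lt : (End K M →ₗ[K] End K M) → A →+ A := fun L => ∑ i, ∑ j, (AddMonoidHom.mulLeft (ψ (L (Eu c i j)))).comp (co i j)
  have l0 : ∀ L x, Lt L x = ∑ i, ∑ j, ψ (L (Eu c i j)) * co i j x := fun L x => by
    simp only [Lt, AddMonoidHom.finsetSum_apply]
    rfl
  have l1 : ∀ L y, ∀ z ∈ Cz B, Lt L (ψ y * z) = ψ (L y) * z := fun L y z hz => by
    have a1 : ∀ i j, co i j (ψ y) = ψ (c.repr (y (c j)) i • 1) := fun i j => by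
      rw [← coef_Eu]
      simp only [c0, coef, map_sum, map_mul]
    conv_rhs => rw [(mu_Eu c).expand y]
    simp only [l0, (c2 _ _ _ z hz).2, a1, coef_Eu, smul_mul_assoc, one_mul, map_sum, map_smul, Finset.sum_mul]
    exact Finset.sum_congr rfl fun i _ => Finset.sum_congr rfl fun j _ => by
      rw [sm _ (L _), ← mul_assoc, cen_comm (hc _)]
  have l2 : ∀ x, x = Lt σ (x * ψ g - ψ g * x) + ∑ l, ψ (w l) * Lt ((φ l).smulRight 1) x := fun x => by
    have a1 : ∀ y, ∀ z ∈ Cz B, ψ y * z = Lt σ (ψ y * z * ψ g - ψ g * (ψ y * z)) +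
        ∑ l, ψ (w l) * Lt ((φ l).smulRight 1) (ψ y * z) := fun y z hz => by
      rw [mul_assoc, ← hz _ (mem g), ← mul_assoc, ← mul_assoc, ← sub_mul, ← map_mul, ← map_mul, ← map_sub, l1 _ _ _ hz]
      conv_lhs => rw [← k y]
      simp only [l1 _ _ _ hz, map_add, map_sum, add_mul, Finset.sum_mul]
      exact congrArg _ (Finset.sum_congr rfl fun l _ => by rw [sm, ← cen_comm (hc _), mul_assoc]; rfl)
    have a2 : x = ∑ i, ∑ j, ψ (Eu c i j) * co i j x := (hE.expand x).trans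
      (Finset.sum_congr rfl fun i _ => Finset.sum_congr rfl fun j _ => (c1 i j x _ (mem _)).symm)
    rw [a2]
    simp only [Finset.sum_mul, Finset.mul_sum, ← Finset.sum_sub_distrib, map_sum]
    rw [Finset.sum_comm (s := Finset.univ (α := Fin (finrank K _))), ← Finset.sum_add_distrib]
    refine Finset.sum_congr rfl fun i _ => ?_
    rw [Finset.sum_comm (s := Finset.univ (α := Fin (finrank K _))), ← Finset.sum_add_distrib]
    exact Finset.sum_congr rfl fun j _ => a1 _ _ (c1 i j x)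
  have l3 : ∀ l x, Lt ((φ l).smulRight 1) x ∈ Cz B := fun l x => by
    rw [l0]
    exact Subring.sum_mem _ fun i _ => Subring.sum_mem _ fun j _ => mul_mem (fun y _ => cen_comm (hc _) y) (c1 i j x)
  have r := ru_Eu c ψ hB o
  refine ⟨_, r, _, inferInstance, fun l => (AddMonoidHom.mulRight (ψ (Eu c o o))).comp (Lt ((φ l).smulRight 1)),
    by rwa [Fintype.card_fin], fun l x => ?_, fun l x z hz => ?_, fun x hx h0 => ?_⟩
  · change _ * (Lt _ x * _) * _ = Lt _ x * _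
    rw [← mul_assoc, l3 l x _ (mem _), mul_assoc, mul_assoc, hE.mul_eq, hE.mul_eq]
  · change Lt _ _ * _ = z * (Lt _ _ * _) ∧ Lt _ _ * _ = Lt _ _ * _ * z
    simp only [l0, (c2 _ _ _ z hz).1, (c2 _ _ _ z hz).2]
    constructor
    · rw [← mul_assoc, Finset.mul_sum]
      congr 1
      exact Finset.sum_congr rfl fun i _ => by
        rw [Finset.mul_sum]
        exact Finset.sum_congr rfl fun j _ => by rw [← mul_assoc, hz _ (mem _), mul_assoc]
    · rw [mul_assoc, hz _ (mem _), ← mul_assoc]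
      simp only [Finset.sum_mul, mul_assoc]
  · rw [l2 x, hx, sub_self, map_zero, zero_add]
    exact Finset.sum_eq_zero fun l _ => by rw [r.eq_zero (l3 l x) (h0 l), mul_zero]

end lin

end Cfsg.Agent.N2C.TenSO
end

-- part: N2/Cl/TenSO/Cay
section
/-!
# N2 (S3519), tensor decompositions: counting by Cayley transforms (helper92)

`cayley` : if the unitary element `s` is central in the commutant of `g`, then `(M - β) cU g ≤ M √(cA g)`.
-/

set_option autoImplicit false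
set_option linter.unusedSectionVars false
set_option maxHeartbeats 400000

namespace Cfsg.Agent.N2C.TenSO

open Cfsg.Agent.DS.Cl Cfsg.Agent.DS.Cl.Fwd Cfsg.Agent.SB.Cl Module
open Cfsg.Agent.N2C.Cyc

variable {A W : Type} [Ring A] [Finite A] [AddCommGroup W] [Module A W] [Finite W] {B : Subring A} {m κ : ℕ} {e g : A}

theorem Ru.card_vec (h : Ru B m e) : Nat.card {v : W // e • v = v} ^ m = Nat.card W := by
  obtain ⟨ι, _, a, b, h0, -, -, -, h4, h5, h6, h7⟩ := h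
  rw [← h0, ← Nat.card_eq_fintype_card, ← Nat.card_fun]
  refine Nat.card_eq_of_bijective (fun x => ∑ i, a i • (x i).1) ⟨fun x y hxy => funext fun j => Subtype.ext ?_, fun v =>
    ⟨fun i => ⟨(e * b i) • v, by rw [← mul_smul, ← mul_assoc, h4]⟩, ?_⟩⟩
  · have k : ∀ x : ι → {v : W // e • v = v}, (e * b j) • ∑ i, a i • (x i).1 = x j := fun x => by
      rw [Finset.smul_sum, Finset.sum_eq_single j, ← mul_smul, h5, (x j).2]
      · exact fun i _ hi => by rw [← mul_smul, h6 _ _ hi.symm, zero_smul]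
      · exact fun h => absurd (Finset.mem_univ j) h
    rw [← k, ← k, show ∑ i, a i • (x i).1 = ∑ i, a i • (y i).1 from hxy]
  · simp only [← mul_smul, ← mul_assoc]
    rw [← Finset.sum_smul, h7, one_smul]

theorem Kr.card_le (h : Kr B m κ g) : Nat.card {v : W // g • v = v} ^ m ≤ Nat.card W ^ κ := by
  obtain ⟨e, r, ι, _, α, β, σ, h1, h2, h3⟩ := h
  have : Nonempty {v : W // e • v = v} := ⟨⟨0, smul_zero e⟩⟩
  have k : ∀ v : {v : W // g • v = v}, v.1 = ∑ l, β l • α l • v.1 := fun v => by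
    conv_lhs => rw [← one_smul A v.1, ← h3, add_smul, mul_smul, sub_smul, v.2, one_smul, sub_self, smul_zero, zero_add,
      Finset.sum_smul]
    simp only [mul_smul]
  have h5 : Nat.card {v : W // g • v = v} ≤ Nat.card {v : W // e • v = v} ^ κ := by
    refine le_trans ?_ (Nat.pow_le_pow_right Nat.card_pos h1)
    rw [← Nat.card_eq_fintype_card, ← Nat.card_fun]
    exact Nat.card_le_card_of_injective (fun v l => ⟨α l • v.1, by rw [← mul_smul, h2]⟩) fun x y hxy => Subtype.ext (by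
      rw [k x, k y]
      exact Finset.sum_congr rfl fun l _ => congrArg _ (Subtype.mk.inj (congrFun hxy l)))
  refine (Nat.pow_le_pow_left h5 _).trans (le_of_eq ?_)
  rw [← pow_mul, mul_comm, pow_mul, r.card_vec]

omit [Finite A] [Finite W] in
theorem unit_smul {a : A} (h : IsUnit a) {v : W} (h0 : a • v = 0) : v = 0 := by
  obtain ⟨u, rfl⟩ := h
  rw [← one_smul A v, ← u.inv_mul, mul_smul, h0, smul_zero]

omit [Finite A] [Finite W] in
/-- eigenvectors are independent -/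
theorem indep {ι : Type} {x : A} {z : ι → A} (h1 : ∀ i, x * z i = z i * x) (h2 : ∀ i j, z i * z j = z j * z i) (D : Finset ι)
    (h3 : ∀ i ∈ D, ∀ j ∈ D, i ≠ j → IsUnit (z i - z j)) :
    ∀ w : ι → W, (∀ i ∈ D, x • w i = z i • w i) → ∑ i ∈ D, w i = 0 → ∀ i ∈ D, w i = 0 := by
  classical
  induction D using Finset.induction_on with
  | empty => simp only [_root_.Finset.notMem_empty, _root_.IsEmpty.forall_iff, _root_.implies_true, _root_.Finset.sum_empty, _root_.imp_self]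
  | insert j D hj ih =>
    intro w hw h0
    rw [Finset.sum_insert hj] at h0
    have m1 := @Finset.mem_insert_of_mem _ _ D
    have k : ∀ i ∈ D, w i = 0 := fun i hi => by
      refine unit_smul (h3 i (m1 hi) j (Finset.mem_insert_self _ _) fun e => hj (e ▸ hi))
        (ih (fun a ha b hb => h3 a (m1 ha) b (m1 hb)) (fun i => (z i - z j) • w i) (fun i hi => ?_) ?_ i hi)
      · rw [← mul_smul, mul_sub, h1, h1, ← sub_mul, mul_smul, hw i (m1 hi), ← mul_smul, ← mul_smul, sub_mul, mul_sub, h2 j]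
      · have h4 := congrArg ((x - z j) • ·) h0
        simp only [smul_add, Finset.smul_sum, smul_zero, sub_smul] at h4
        rw [hw j (Finset.mem_insert_self _ _), sub_self, zero_add] at h4
        rw [← h4]
        exact Finset.sum_congr rfl fun i hi => by rw [sub_smul, hw i (m1 hi)]
    intro i hi
    rcases Finset.mem_insert.1 hi with rfl | hi
    · rwa [Finset.sum_eq_zero k, add_zero] at h0
    · exact k i hi

omit [Finite A] [Finite W] in
theorem exists_fix {a t : A} (hc : a * t = t * a) (j : ℕ) : ∀ v : W, v ≠ 0 → a • v = 0 → t ^ j • v = 0 →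
    ∃ w : W, w ≠ 0 ∧ a • w = 0 ∧ t • w = 0 := by
  induction j with
  | zero => exact fun v h0 _ h => absurd (by simpa using h) h0
  | succ j ih =>
    intro v h0 h1 h2
    by_cases h3 : t • v = 0
    · exact ⟨v, h0, h1, h3⟩
    · exact ih _ h3 (by rw [← mul_smul, hc, mul_smul, h1, smul_zero]) (by rwa [← mul_smul, ← pow_succ])

variable [StarRing A]

omit [Finite A] in
theorem tr_inv {x : A} (hx : x * star x = 1) {w : Aˣ} (hw : (w : A) = 1 - x) :
    ((w⁻¹ : Aˣ) : A) + star ((w⁻¹ : Aˣ) : A) = 1 := by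
  have h1 : star (w : A) * star ((w⁻¹ : Aˣ) : A) = 1 := by rw [← star_mul, Units.inv_mul, star_one]
  have h2 : (w : A) = -(x * star (w : A)) := by rw [hw, star_sub, star_one, mul_sub, mul_one, hx, neg_sub]
  refine w.isUnit.mul_left_cancel ?_
  rw [mul_add, w.mul_inv, mul_one]
  conv_lhs => rw [h2, neg_mul, mul_assoc, h1, mul_one]
  rw [hw, sub_eq_add_neg]

omit [StarRing A] [Finite A] in
theorem inv_comm {w : Aˣ} {x : A} (h : x * w = w * x) : x * (w⁻¹ : Aˣ) = (w⁻¹ : Aˣ) * x :=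
  (show Commute x (w : A) from h).units_inv_right

omit [StarRing A] in
/-- an element generating a field with at least `Q` elements, of order at least `M` -/
structure SE (s : A) (Q M : ℕ) : Prop where
  fld : ∃ (ι : Type) (ζ : ι → A), Q ≤ Nat.card ι ∧ (∀ i x, x * s = s * x → x * ζ i = ζ i * x) ∧
    ∀ i j, i ≠ j → IsUnit (ζ i - ζ j)
  pw : ∀ j, 0 < j → j < M → IsUnit (s ^ j - 1)

theorem cS_sq_le {s : A} (hs : s * star s = 1) (h2 : IsUnit (s ^ 2 - 1)) (hsg : s * g = g * s)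
    (k : ∀ x, x * g = g * x → x * s = s * x) : cS g ^ 2 ≤ cA g := by
  have hs' := mul_eq_one_comm.1 hs
  have e1 : s ^ 2 - 1 = (1 - s) * -(s + 1) := by noncomm_ring
  obtain ⟨w, hw⟩ := (IsUnit.mul_iff.1 (e1 ▸ h2)).1
  have h3 := tr_inv hs hw
  have h4 : ∀ x, x * s = s * x → x * (w⁻¹ : Aˣ) = (w⁻¹ : Aˣ) * x := fun x hx =>
    inv_comm (by rw [hw, mul_sub, sub_mul, hx, mul_one, one_mul])
  have h5 : ∀ x, x * s = s * x → x * star s = star s * x := fun x hx => by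
    rw [← one_mul (x * _), ← hs', mul_assoc, ← mul_assoc s, ← hx, mul_assoc x, hs, mul_one]
  have h6 : IsUnit (s - star s) := by
    refine (IsUnit.mul_iff.1 (show IsUnit (s * (s - star s)) from ?_)).2
    rwa [mul_sub, hs, ← sq]
  have h7 : ∀ x y : {x : A // star x = -x ∧ x * g = g * x}, (w⁻¹ : Aˣ) * x.1 + (s - star s) * y.1 -
      star ((w⁻¹ : Aˣ) * x.1 + (s - star s) * y.1) = x.1 := fun x y => by
    rw [star_add, star_mul, star_mul, x.2.1, y.2.1, star_sub, star_star, eq_sub_of_add_eq' h3, neg_mul, neg_mul, mul_sub,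
      mul_sub, h4 _ (k _ x.2.2), h5 _ (k _ y.2.2), k _ y.2.2]
    noncomm_ring
  rw [sq, cS, ← Nat.card_prod]
  refine Nat.card_le_card_of_injective (fun x => (⟨(w⁻¹ : Aˣ) * x.1.1 + (s - star s) * x.2.1, ?_⟩ : {x : A // x * g = g * x}))
    fun x y e => ?_
  · have e0 : (s - star s) * g = g * (s - star s) := by rw [sub_mul, mul_sub, hsg, h5 g hsg.symm]
    rw [add_mul, mul_add, mul_assoc, x.1.2.2, ← mul_assoc, ← h4 g hsg.symm, mul_assoc, mul_assoc, x.2.2.2, ← mul_assoc _ g,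
      e0, mul_assoc]
  · have e2 := Subtype.mk.inj e
    have e3 : x.1.1 = y.1.1 := by rw [← h7 x.1 x.2, e2, h7]
    rw [e3] at e2
    exact Prod.ext (Subtype.ext e3) (Subtype.ext (h6.mul_left_cancel (add_left_cancel e2)))

/-- **Cayley count** -/
theorem cayley (hW : ∀ a : A, (∀ v : W, a • v = 0 → v = 0) → IsUnit a) {s u : A} {Q M β : ℕ} (hs : s * star s = 1)
    (E : SE s Q M) (hM : 3 ≤ M) (hg : g * star g = 1) (hsg : s * g = g * s) (hus : u * s = s * u)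
    (k : ∀ x, x * g = g * x → x * u = u * x ∧ x * s = s * x) (hn : IsNilpotent (u - 1))
    (hβ : Nat.card {v : W // u • v = v} < Q ^ (β + 1)) : ((M - β) * cU g) ^ 2 ≤ M ^ 2 * cA g := by
  classical
  have hs' := mul_eq_one_comm.1 hs
  have h2 := E.pw 2 two_pos hM
  obtain ⟨c, hc, hc'⟩ : ∃ c, c * g = g * c ∧ c + star c = 1 := by
    have e1 : s ^ 2 - 1 = (1 - s) * -(s + 1) := by noncomm_ring
    obtain ⟨w, hw⟩ := (IsUnit.mul_iff.1 (e1 ▸ h2)).1
    exact ⟨_, (inv_comm (by rw [hw, mul_sub, sub_mul, hsg, mul_one, one_mul])).symm, tr_inv hs hw⟩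
  have p1 : ∀ j, s ^ j * star (s ^ j) = 1 := fun j => by rw [star_pow, ← (show Commute s (star s) from hs.trans hs'.symm).mul_pow,
    hs, one_pow]
  have p2 : ∀ j x, x * s = s * x → x * s ^ j = s ^ j * x := fun j x hx => (show Commute x s from hx).pow_right j
  have key : (M - β) * cU g ≤ M * cS g := by
    have := Fintype.ofFinite {x : A // x * star x = 1 ∧ x * g = g * x}
    rw [cU, Nat.card_eq_fintype_card, ← Finset.card_univ, mul_comm]
    conv_rhs => rw [← Finset.card_range M]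
    refine Finset.card_mul_le_card_mul (fun x j => IsUnit (x.1 - s ^ j)) (fun x _ => ?_) fun j _ => ?_
    · by_contra hcon
      have h3 := Finset.card_filter_add_card_filter_not (s := Finset.range M) fun j => IsUnit (x.1 - s ^ j)
      rw [Finset.card_range] at h3
      obtain ⟨D, hD, hD'⟩ := Finset.exists_subset_card_eq (s := (Finset.range M).filter fun j => ¬ IsUnit (x.1 - s ^ j))
        (n := β + 1) (by rw [Finset.bipartiteAbove] at hcon; omega)
      obtain ⟨ι, ζ, z1, z2, z3⟩ := E.fld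
      obtain ⟨x1, x2⟩ := k _ x.2.2
      have h4 : ∀ j, ∃ w : W, j ∈ D → w ≠ 0 ∧ (x.1 - s ^ j) • w = 0 ∧ (u - 1) • w = 0 := fun j => by
        by_cases hj : j ∈ D
        · have h5 := mt (hW _) (Finset.mem_filter.1 (hD hj)).2
          push Not at h5
          obtain ⟨v, h6, h7⟩ := h5
          obtain ⟨i, hi⟩ := hn
          obtain ⟨w, h8⟩ := exists_fix (a := x.1 - s ^ j) (t := u - 1)
            ((Commute.sub_left x1 (p2 j u hus).symm).sub_right (Commute.one_right _)) i v h7 h6 (by rw [hi, zero_smul])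
          exact ⟨w, fun _ => h8⟩
        · exact ⟨0, fun h => absurd h hj⟩
      choose w hw using h4
      have h5 : ∀ j ∈ D, u • w j = w j := fun j hj => by simpa only [sub_smul, one_smul, sub_eq_zero] using (hw j hj).2.2
      have h6 : ∀ j ∈ D, x.1 • w j = s ^ j • w j := fun j hj => by simpa only [sub_smul, sub_eq_zero] using (hw j hj).2.1
      have h7 : ∀ i ∈ D, ∀ j ∈ D, i ≠ j → IsUnit (s ^ i - s ^ j) := by
        have h8 : ∀ i ∈ D, ∀ j, j < i → IsUnit (s ^ i - s ^ j) := fun i hi j hj => by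
          obtain ⟨l, rfl⟩ := Nat.exists_eq_add_of_le hj.le
          have := Finset.mem_range.1 (Finset.mem_filter.1 (hD hi)).1
          rw [pow_add, ← mul_sub_one]
          exact (IsUnit.of_mul_eq_one _ (p1 j)).mul (E.pw l (by omega) (by omega))
        intro i hi j hj hij
        rcases hij.lt_or_gt with h9 | h9
        · rw [← neg_sub]
          exact (h8 j hj i h9).neg
        · exact h8 i hi j h9
      refine hβ.not_ge ((Nat.pow_le_pow_left z1 _).trans ?_)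
      rw [← hD', ← Nat.card_eq_finsetCard, ← Nat.card_fun]
      refine Nat.card_le_card_of_injective (fun f => ⟨∑ j : D, ζ (f j) • w j, ?_⟩) fun f f' e => funext fun j => ?_
      · rw [Finset.smul_sum]
        exact Finset.sum_congr rfl fun j _ => by rw [← mul_smul, z2 _ _ hus, mul_smul, h5 j j.2]
      · by_contra h8
        refine (hw j j.2).1 (unit_smul (z3 _ _ h8) (indep (z := fun j : D => s ^ (j : ℕ)) (fun i => p2 _ _ x2)
          (fun i j => p2 _ _ (p2 _ _ rfl).symm) Finset.univ (fun i _ j _ hij => h7 i i.2 j j.2 fun e => hij (Subtype.ext e))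
          (fun j => (ζ (f j) - ζ (f' j)) • w j) (fun i _ => ?_) ?_ j (Finset.mem_univ j)))
        · have h9 : ∀ y, y * s = s * y → y • (ζ (f i) - ζ (f' i)) • w i = (ζ (f i) - ζ (f' i)) • y • w i := fun y hy => by
            rw [← mul_smul, ← mul_smul, mul_sub, sub_mul, z2 _ _ hy, z2 _ _ hy]
          rw [h9 _ x2, h9 _ (p2 _ _ rfl).symm, h6 i i.2]
        · simp only [sub_smul, Finset.sum_sub_distrib]
          exact sub_eq_zero.2 (Subtype.mk.inj e)
    · have h3 : ∀ x : Finset.bipartiteBelow (fun (x : {x : A // x * star x = 1 ∧ x * g = g * x}) j => IsUnit (x.1 - s ^ j))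
          Finset.univ j, ∃ w : Aˣ, (w : A) = 1 - star (s ^ j) * x.1.1 := fun x => by
        have h4 := ((IsUnit.of_mul_eq_one _ (mul_eq_one_comm.1 (p1 j))).mul (Finset.mem_filter.1 x.2).2).neg
        rwa [mul_sub, mul_eq_one_comm.1 (p1 j), neg_sub] at h4
      choose w hw using h3
      have h4 : star (s ^ j) * g = g * star (s ^ j) := star_comm hg (mul_eq_one_comm.1 hg) (p2 j g hsg.symm).symm
      rw [← Nat.card_eq_finsetCard, cS]
      refine Nat.card_le_card_of_injective (fun x => ⟨((w x)⁻¹ : Aˣ) - c, ?_, ?_⟩) fun x y e => Subtype.ext (Subtype.ext ?_)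
      · have h5 : star (s ^ j) * x.1.1 * star (star (s ^ j) * x.1.1) = 1 := by
          rw [star_mul, star_star, mul_assoc, ← mul_assoc x.1.1, x.1.2.1, one_mul, mul_eq_one_comm.1 (p1 j)]
        rw [star_sub, eq_sub_of_add_eq' (tr_inv h5 (hw x)), eq_sub_of_add_eq' hc']
        abel
      · rw [sub_mul, mul_sub, hc, inv_comm (w := w x) (x := g) (by
          rw [hw, mul_sub, sub_mul, mul_one, one_mul, mul_assoc, x.1.2.2, ← mul_assoc, ← mul_assoc, h4])]
      · have h5 : w x = w y := inv_injective (Units.ext (sub_left_inj.1 (Subtype.mk.inj e)))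
        have h6 := (hw x).symm.trans (h5 ▸ hw y)
        exact (IsUnit.of_mul_eq_one _ (mul_eq_one_comm.1 (p1 j))).mul_left_cancel (sub_right_inj.1 h6)
  refine (Nat.pow_le_pow_left key 2).trans ?_
  rw [mul_pow]
  exact Nat.mul_le_mul_left _ (cS_sq_le hs h2 hsg fun x hx => (k x hx).2)

end Cfsg.Agent.N2C.TenSO
end

-- part: N2/Cl/TenSO/Mod
section
/-!
# N2 (S3519), tensor decompositions: models of the factors and the order of the stabiliser (helper92)

`MD` a model of a factor, `exists_md`; `PB B x` : the projective conformal group of `B` has order at most `x`;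
`TC.card_le'`, `TC.card_le_all` the order of the stabiliser; `TC.cen_of` characteristic commutative subrings.
-/

set_option autoImplicit false
set_option linter.unusedSectionVars false
set_option maxHeartbeats 400000

namespace Cfsg.Agent.N2C.TenSO

open Cfsg.Agent.DS.Cl Cfsg.Agent.DS.Cl.Fwd Cfsg.Agent.SB.Cl Module
open Cfsg.Agent.TH.Cl.Ten (Cz)
open Cfsg.Agent.N2C.Cyc
open Cfsg.Agent.N2C.Size (SI fm exists_kind UC card_conf_le)
open scoped Pointwise

section pc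

variable {K V : Type} [Field K] [Fintype K] [AddCommGroup V] [Module K V] [Finite V] [Nontrivial V] {h : HF K V}
  {F : FR h.EB}

theorem pc_mul (hL : F.L = Lmax _) : PC h.EB * Nat.card (UC h.EB) ≤ 2 * Nat.card F.Iso := by
  have e : SAut h.EB = F.Aut := le_antisymm (fun γ hγ => ⟨hγ, by
    rw [hL]
    change star (γ F.l - F.l) = -(γ F.l - F.l)
    rw [star_sub, ← hγ, eq_sub_of_add_eq' F.l_add, map_sub, map_one]
    abel⟩) F.Aut_le_SAut
  rw [PC, e]
  exact card_conf_le h.ss F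

theorem pc_le (hL : F.L = Lmax _) : PC h.EB ≤ 2 * Nat.card F.Iso :=
  (Nat.le_mul_of_pos_right _ Nat.card_pos).trans (pc_mul hL)

theorem pc_le_odd (hL : F.L = Lmax _) (h2 : (2 : K) ≠ 0) : PC h.EB ≤ Nat.card F.Iso := by
  have h1 : 2 ≤ Nat.card (UC h.EB) := by
    refine Finite.one_lt_card_iff_nontrivial.2 ⟨⟨-1, by simp, by simp⟩, 1, fun e => h2 ?_⟩
    obtain ⟨v, hv⟩ := exists_ne (0 : V)
    have h1 : -v = v := congrArg (fun u : UC h.EB => h.ap (u : h.EBˣ) v) e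
    exact (smul_eq_zero_iff_left hv).1 (by rw [two_smul, add_eq_zero_iff_neg_eq, h1])
  have h3 := (Nat.mul_le_mul_left _ h1).trans (pc_mul hL)
  omega

omit [Nontrivial V] in
theorem two_ne_iff (K : Type) [Field K] [Fintype K] : (2 : K) ≠ 0 ↔ Odd (Fintype.card K) := by
  rw [Nat.odd_iff, ← Nat.mod_two_not_eq_zero, ← FiniteField.even_card_iff_char_two]
  refine not_congr ⟨fun k => ?_, fun k => ?_⟩
  · exact ((Nat.dvd_prime Nat.prime_two).1 ((ringChar.spec K 2).1 (by exact_mod_cast k))).resolve_left CharP.ringChar_ne_one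
  · exact_mod_cast (ringChar.spec K 2).2 (by rw [k])

end pc

variable {A : Type} [Ring A] [StarRing A] [Finite A] {B B' : Subring A} {q a x : ℕ}

/-- the projective conformal group of `B` has order at most `x` -/
def PB (B : Subring A) (x : ℕ) : Prop := ∃ (R : Type) (_ : Ring R) (_ : StarRing R) (_ : FM B R), PC R ≤ x

theorem PB.mono (h : PB B x) {y : ℕ} (hy : x ≤ y) : PB B y := by
  obtain ⟨R, _, _, f, h⟩ := h
  exact ⟨R, _, _, f, h.trans hy⟩

/-- a model of a factor -/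
structure MD (B : Subring A) (q a : ℕ) {K : Type} [Field K] [Fintype K] (h : HF K (Fin a → K)) (F : FR h.EB) : Prop where
  pos : 0 < a
  card : Fintype.card K = q
  L : F.L = Lmax _
  kd : IsSp h F ∨ ∃ Q, IsO h F Q ∧ (2 : K) ≠ 0

theorem exists_md {hs : ∀ x ∈ B, star x ∈ B} (ss : SS (Blk.ofSubring B hs).T) (hZ : Subring.center A ≤ B)
    (hc : ∀ z ∈ B, (∀ y ∈ B, y * z = z * y) → z ∈ Subring.center A) {l : A} (hl : l ∈ B) (hl' : l + star l = 1)
    (hst : ∀ z ∈ Subring.center A, star z = z) (hq : Nat.card (Subring.center A) = q) :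
    ∃ (K : Type) (_ : Field K) (_ : Fintype K) (a : ℕ) (h : HF K (Fin a → K)) (F : FR h.EB) (_ : FM B h.EB), MD B q a h F := by
  let T := Blk.ofSubring B hs
  have c1 : ∀ z ∈ Subring.center T.T, T.val z ∈ Subring.center A := fun z hz => hc _ (T.val_mem z) (T.mem_center_iff.1 hz)
  have c2 : ∀ z ∈ Subring.center T.T, star z = z := fun z hz => T.val_inj (hst _ (c1 z hz))
  rcases exists_kind ss ⟨T.mk' l hl, Lmax _, T.val_inj hl', Or.inr rfl⟩ with ⟨K, _, _, n, e, hn, he⟩ | ⟨K, _, _, n, h, e, he, hn, k⟩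
  · have : Nonempty (Fin n) := ⟨⟨0, hn⟩⟩
    have h1 := congrArg e (c2 _ ((Size.mem_center_map e.symm).2 SB.Fld.luL.c_cen))
    rw [he, e.apply_symm_apply] at h1
    exact absurd (congrArg Prod.fst h1) (show ¬ (0 : Matrix (Fin n) (Fin n) K).transpose = 1 by simp)
  have : Nonempty (Fin n) := ⟨⟨0, hn⟩⟩
  let ψ : h.EB →+* A :=
    { toFun := fun y => T.val (e.symm y)
      map_one' := congrArg T.val (map_one e.symm)
      map_mul' := fun x y => congrArg T.val (map_mul e.symm x y)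
      map_zero' := congrArg T.val (map_zero e.symm)
      map_add' := fun x y => congrArg T.val ((map_add e.symm x y :)) }
  let f : FM B h.EB :=
    { ψ := ψ
      inj := T.val_inj.comp e.symm.injective
      mem := fun x => ⟨fun hx => ⟨e (T.mk' x hx), congrArg T.val (e.symm_apply_apply _)⟩, fun ⟨y, hy⟩ => hy ▸ T.val_mem _⟩
      st := fun y => congrArg T.val (he.symm y)
      cen := fun y hy => c1 _ ((Size.mem_center_map e.symm).2 hy) }
  obtain ⟨v, hv⟩ := exists_ne (0 : Fin n → K)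
  have hτ : ∀ c, h.τ c = c := fun c => by
    have h1 := f.inj ((f.st _).trans (hst _ (f.cen _ (h.smul_mem_center c))))
    rw [sc_star] at h1
    exact smul_left_injective K hv (congrArg (fun x => h.ap x v) h1)
  have hL := Size.fm_L_max he (F := ⟨T.mk' l hl, Lmax _, T.val_inj hl', Or.inr rfl⟩) rfl
  refine ⟨K, _, _, n, h, _, f, hn, ?_, hL, ?_⟩
  · rw [← hq, ← Nat.card_eq_fintype_card]
    refine Nat.card_eq_of_bijective (fun c => ⟨ψ (h.eb (c • 1)), f.cen _ (h.smul_mem_center c)⟩) ⟨fun c d k => ?_, fun z => ?_⟩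
    · exact smul_left_injective K hv (congrArg (fun x => h.ap x v) (f.inj (Subtype.mk.inj k)))
    · obtain ⟨y, hy⟩ := (f.mem _).1 (hZ z.2)
      obtain ⟨c, hc⟩ := SB.Tor.exists_sc h (z := y) (Subring.mem_center_iff.2 fun g => f.inj (by
        rw [map_mul, map_mul, hy, cen_comm z.2]))
      exact ⟨c, Subtype.ext ((congrArg ψ (h.ap_ext (a := h.eb (c • 1)) fun v => (hc v).symm)).trans hy)⟩
  · rcases k with ⟨k, -⟩ | k | ⟨Q, k⟩
    · exact k.2.elim fun c hc => absurd (hτ c) hc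
    · exact Or.inl k
    · by_cases h2 : (2 : K) = 0
      · exact Or.inl ⟨hτ, fun v => by rw [k.2.1, QuadraticMap.polar_self, two_smul, ← two_mul, h2, zero_mul], hL⟩
      · exact Or.inr ⟨Q, k, h2⟩

theorem choose_succ (a : ℕ) : (a + 1).choose 2 = a.choose 2 + a := by
  rw [Nat.choose_succ_succ' a 1, Nat.choose_one_right, add_comm]

theorem two_choose (a : ℕ) : 2 * a.choose 2 + a = a * a := by
  induction a with
  | zero => rfl
  | succ a ih => rw [choose_succ]; linarith only [ih]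

namespace MD

variable {K : Type} [Field K] [Fintype K] {h : HF K (Fin a → K)} {F : FR h.EB} (m : MD B q a h F) (f : FM B h.EB)
include m

theorem nt : Nontrivial (Fin a → K) :=
  have : Nonempty (Fin a) := ⟨⟨0, m.pos⟩⟩
  inferInstance

theorem two : 2 ≤ q := m.card ▸ two_le_q K

include f

theorem pb_Sp (k : IsSp h F) : PB B (2 * q ^ (a + 1).choose 2) ∧ (Odd q → PB B (q ^ (a + 1).choose 2)) := by
  have := m.nt
  have h1 := Size.iso_le_Sp k
  rw [Size.card_L_Sp k, finrank_fin_fun, m.card] at h1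
  exact ⟨⟨_, _, _, f, (pc_le m.L).trans (Nat.mul_le_mul_left _ h1)⟩,
    fun h2 => ⟨_, _, _, f, (pc_le_odd m.L ((two_ne_iff K).2 (m.card ▸ h2))).trans h1⟩⟩

theorem pb_O {Q : QuadraticForm K (Fin a → K)} (k : IsO h F Q) (h2 : (2 : K) ≠ 0) (ha : a ≠ 2) : PB B (2 * q ^ a.choose 2) := by
  have := m.nt
  have h1 := Size.iso_le_O k (by rw [finrank_fin_fun]; exact m.pos) (by rwa [finrank_fin_fun])
  rw [Size.card_L_O k, finrank_fin_fun, m.card] at h1
  exact ⟨_, _, _, f, (pc_le_odd m.L h2).trans h1⟩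

/-- all kinds -/
theorem pb : PB B (2 * q ^ (a + 1).choose 2) ∧ (Odd q → PB B (q ^ (a + 1).choose 2)) ∧ (a ≤ 3 → PB B (2 * q ^ 3)) := by
  have hq := m.two
  have h0 := m.pos
  rcases m.kd with k | ⟨Q, k, h2⟩
  · obtain ⟨h1, h3⟩ := m.pb_Sp f k
    obtain ⟨j, hj, -⟩ := Size.card_Iso_Sp k
    rw [finrank_fin_fun] at hj
    refine ⟨h1, h3, fun h4 => ?_⟩
    obtain rfl : a = 2 := by omega
    exact h1
  have h3 : PB B (q ^ (a + 1).choose 2) ∧ (a ≤ 3 → PB B (2 * q ^ 3)) := by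
    by_cases ha : a = 2
    · have := m.nt
      have h1 := Size.iso_le_O2 k (by rwa [finrank_fin_fun])
      have h4 : PB B (q ^ 3) := ⟨_, _, _, f, ((pc_le_odd m.L h2).trans h1).trans (by
        rw [m.card]
        nlinarith only [Nat.mul_le_mul hq hq])⟩
      exact ⟨by rwa [ha], fun _ => h4.mono (by omega)⟩
    · have h1 := m.pb_O f k h2 ha
      refine ⟨h1.mono ?_, fun h4 => h1.mono (Nat.mul_le_mul_left _ (Nat.pow_le_pow_right (by omega) ?_))⟩
      · rw [choose_succ, pow_add, mul_comm]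
        exact Nat.mul_le_mul_left _ (hq.trans (Nat.le_self_pow h0.ne' q))
      · exact (Nat.choose_le_choose 2 h4).trans (by decide)
  exact ⟨h3.1.mono (by omega), fun _ => h3.1, h3.2⟩

end MD

namespace TC

variable {F : FR A} {H : Subgroup (RingAut A)} {p : ℕ} {𝓑 : Set (Subring A)} (T : TC F H p 𝓑)
include T

theorem card_le' (hB : B ∈ 𝓑) {y : ℕ} (h : PB B x) (h' : PB (Cz B) y) : Nat.card ↥(H ⊓ F.S) ≤ 𝓑.ncard * (x * y) := by
  obtain ⟨R, _, _, f, h⟩ := h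
  obtain ⟨R', _, _, f', h'⟩ := h'
  exact (T.card_le hB f f').trans (Nat.mul_le_mul_left _ (Nat.mul_le_mul h h'))

theorem card_le_all (h : ∀ B ∈ 𝓑, PB B x) : Nat.card ↥(H ⊓ F.S) ≤ 𝓑.ncard ^ 𝓑.ncard * x ^ 𝓑.ncard := by
  have := finAut (A := A)
  have : Finite (Subring A) := Finite.of_injective _ SetLike.coe_injective
  have := Fintype.ofFinite 𝓑
  refine (SzG.card_step (U := H ⊓ F.S) (U' := H ⊓ F.S ⊓ ptStab (RingAut A) 𝓑) (Y := 𝓑 → 𝓑)
    (fun γ B => ⟨γ.1 • B.1, T.st _ γ.2.1 _ B.2⟩) fun γ δ e => ⟨(γ⁻¹ * δ).2, fun B hB => ?_⟩).trans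
    (Nat.mul_le_mul (by rw [Nat.card_fun, Nat.card_coe_set_eq]) ?_)
  · rw [mul_smul, ← Subtype.mk.inj (congrFun e ⟨B, hB⟩), inv_smul_smul]
  choose R i1 i2 f hf using fun B : 𝓑 => h B B.2
  have i3 : ∀ B, Finite ↥(SAut (R B) ⊓ Lin (R B)) := fun B =>
    have := (f B).fin
    have := finAut (A := R B)
    inferInstance
  choose a ha using fun (γ : ↥(H ⊓ F.S ⊓ ptStab (RingAut A) 𝓑)) (B : 𝓑) =>
    (f B).exists_res (T.c.le_SAut γ.2.1.1) (F.PI_le_Lin (F.S_le_PI γ.2.1.2)) (γ.2.2 B B.2)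
  refine (Nat.card_le_card_of_injective a fun γ δ e => Subtype.ext (RingEquiv.ext fun y => ?_)).trans ?_
  · refine T.d.t.ind (T := (γ.1 : A →+* A).eqLocus (δ.1 : A →+* A)) (fun B hB z hz => ?_) y
    obtain ⟨y, rfl⟩ := ((f ⟨B, hB⟩).mem z).1 hz
    exact (ha γ _ y).symm.trans ((congrArg (fun r => (f ⟨B, hB⟩).ψ ((r ⟨B, hB⟩).1 y)) e).trans (ha δ _ y))
  · rw [Nat.card_pi, ← Nat.card_coe_set_eq, Nat.card_eq_fintype_card, ← Finset.card_univ]
    exact Finset.prod_le_pow_card _ _ _ fun B _ => hf B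

/-- characteristic commutative subrings of the factors are central -/
theorem cen_of (Φ : A → Prop) (φ : A → A) (h1 : ∀ γ ∈ SAut A, ∀ x, Φ x → Φ (γ x)) (h2 : ∀ γ : RingAut A, ∀ x, γ (φ x) = φ (γ x))
    (h3 : ∀ (B : Subring A), ∀ x ∈ B, φ x ∈ B) (h4 : ∀ x, Φ x → Φ (star x) ∧ star (φ x) = φ (star x)) (hB : B ∈ 𝓑)
    (hc : ∀ x ∈ B, ∀ y ∈ B, Φ x → Φ y → φ x * φ y = φ y * φ x) {x : A} (hx : x ∈ B) (hs : Φ x) : φ x ∈ Subring.center A := by
  let X : Set A := {z | z ∈ Subring.center A ∨ ∃ B ∈ 𝓑,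
    (∀ x ∈ B, ∀ y ∈ B, Φ x → Φ y → φ x * φ y = φ y * φ x) ∧ ∃ x ∈ B, Φ x ∧ z = φ x}
  have k1 : ∀ x ∈ X, ∀ y ∈ X, x * y = y * x := by
    rintro x (hx | ⟨B₁, a1, a2, x, a3, a4, rfl⟩) y hy
    · exact (cen_comm hx y).symm
    rcases hy with hy | ⟨B₂, b1, -, y, b3, b4, rfl⟩
    · exact cen_comm hy _
    by_cases e : B₁ = B₂
    · exact a2 x a3 y (e ▸ b3) a4 b4
    · exact T.comm a1 b1 e _ (h3 _ _ a3) _ (h3 _ _ b3)
  refine T.irr.2 (Subring.closure X) ⟨fun z hz => Subring.subset_closure (Or.inl hz), fun z hz => ?_, fun y hy z hz => ?_⟩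
    (fun γ hγ z hz => ?_) (Subring.subset_closure (Or.inr ⟨B, hB, hc, x, hx, hs, rfl⟩))
  · induction hz using Subring.closure_induction with
    | mem z hz =>
      rcases hz with hz | ⟨B₁, a1, a2, x, a3, a4, rfl⟩
      · exact Subring.subset_closure (Or.inl (star_cen hz))
      · exact Subring.subset_closure (Or.inr ⟨B₁, a1, a2, _, T.d.t.star_mem _ a1 x a3, h4 x a4⟩)
    | zero => rw [star_zero]; exact zero_mem _
    | one => rw [star_one]; exact one_mem _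
    | add a b _ _ ha hb => rw [star_add]; exact add_mem ha hb
    | neg a _ ha => rw [star_neg]; exact neg_mem ha
    | mul a b _ _ ha hb => rw [star_mul]; exact mul_mem hb ha
  · have k2 : Subring.closure X ≤ Subring.centralizer X := Subring.closure_le.2 fun a ha b hb => k1 b hb a ha
    have k3 : Subring.closure X ≤ Subring.centralizer {y} := Subring.closure_le.2 fun a ha b hb => by
      rw [Set.mem_singleton_iff.1 hb]; exact (k2 hy a ha).symm
    exact k3 hz y rfl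
  · have k2 : Subring.closure X ≤ (Subring.closure X).comap (γ : A →+* A) := Subring.closure_le.2 (by
      rintro a (ha | ⟨B₁, a1, a2, x, a3, a4, rfl⟩)
      · exact Subring.subset_closure (Or.inl (map_cen γ ha))
      · refine Subring.subset_closure (Or.inr ⟨γ • B₁, T.st γ hγ B₁ a1, fun x hx y hy x1 y1 => ?_, γ x,
          apply_mem_smul.2 a3, h1 γ (T.c.le_SAut hγ) x a4, h2 γ x⟩)
        have k3 := T.c.le_SAut (inv_mem hγ)
        apply (γ⁻¹).injective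
        rw [map_mul, map_mul, h2, h2]
        exact a2 _ (mem_smul_subring.1 hx) _ (mem_smul_subring.1 hy) (h1 _ k3 _ x1) (h1 _ k3 _ y1))
    exact k2 hz

end TC

end Cfsg.Agent.N2C.TenSO
end

-- part: N2/Cl/TenSO/Amb
section
/-!
# N2 (S3519), tensor decompositions: the ambient symplectic or orthogonal group (helper92)
-/

set_option autoImplicit false
set_option linter.unusedSectionVars false
set_option maxHeartbeats 400000

namespace Cfsg.Agent.N2C.TenSO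

open Cfsg.Agent.DS.Cl Cfsg.Agent.DS.Cl.Fwd Cfsg.Agent.SB.Cl Module
open Cfsg.Agent.TH.Cl (KSp KO)
open Cfsg.Agent.N2C.Cyc
open Cfsg.Agent.LieClassical.OrthCore (O)

/-- the ambient group -/
structure Amb {A : Type} [Ring A] [StarRing A] (F : FR A) (W : Type) [AddCommGroup W] [Module A W] (q n : ℕ) : Prop where
  two : 2 ≤ q
  six : 6 ≤ n
  cardA : Nat.card A = q ^ n ^ 2
  cardW : Nat.card W = q ^ n
  cen : Nat.card (Subring.center A) = q
  st : ∀ z ∈ Subring.center A, star z = z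
  unit : ∀ a : A, (∀ v : W, a • v = 0 → v = 0) → IsUnit a
  dvd : ∀ (B : Subring A) m e, Ru B m e → m ∣ n
  gb : ∀ u ∈ F.Iso, cI F u ^ 2 ≤ cA (u : A) * q ^ n
  nil : ∀ (u : A) j, u ^ q ^ j = 1 → IsNilpotent (u - 1)
  tu : Odd q → IsUnit (2 : A)
  sq : ∀ u ∈ F.Iso, u * u ∈ I0 F
  s32 : 5 * q ^ n.choose 2 ≤ 32 * Nat.card F.S
  s8 : Even q → 5 * q ^ n.choose 2 ≤ 8 * Nat.card F.S
  sp : Odd q → ∀ B : Subring A, Rk B n (-1) → q ^ (n + 1).choose 2 ≤ 3 * Nat.card F.S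

variable {K V : Type} [Field K] [Fintype K] [AddCommGroup V] [Module K V] [Finite V] {h : HF K V} {F : FR h.EB}

/-- the natural module -/
abbrev modE (h : HF K V) : Module h.EB V := inferInstanceAs (Module (End K V) V)

theorem card_fix (e : End K V) : Nat.card {v : V // e v = v} = Fintype.card K ^ finrank K (LinearMap.ker (e - 1)) := by
  rw [← card_V]
  exact Nat.card_congr (Equiv.subtypeEquivRight fun v => (sub_eq_zero (a := e v) (b := v)).symm)

theorem ru_dim {B : Subring h.EB} {m : ℕ} {e : h.EB} (r : Ru B m e) :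
    finrank K (LinearMap.ker (h.ap e - 1)) * m = finrank K V := by
  have h1 : Nat.card {v : V // h.ap e v = v} ^ m = Nat.card V := @Ru.card_vec _ V _ _ _ (modE h) _ _ _ _ r
  rw [card_fix, card_V K V, ← pow_mul] at h1
  exact Nat.pow_right_injective (two_le_q K) h1

theorem nil_of_pow [Nontrivial V] (u : h.EB) (j : ℕ) (hu : u ^ Fintype.card K ^ j = 1) : IsNilpotent (u - 1) := by
  obtain ⟨p, _, f, hp, hf⟩ := FiniteField.card' K
  have : Fact p.Prime := ⟨hp⟩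
  have : Nontrivial h.EB := h.ss.1
  have : CharP h.EB p := (CharP.charP_iff_prime_eq_zero hp).2 (h.ap_ext fun v => by
    change (p : End K V) v = 0
    rw [End.natCast_apply, ← Nat.cast_smul_eq_nsmul K, CharP.cast_eq_zero, zero_smul])
  rw [hf, ← pow_mul] at hu
  exact ⟨_, by rw [sub_pow_char_pow_of_commute _ _ (Commute.one_right u), hu, one_pow, sub_self]⟩

theorem amb_of (hτ : ∀ c, h.τ c = c) (h6 : 6 ≤ finrank K V) (sq : ∀ u ∈ F.Iso, u * u ∈ I0 F)
    (s32 : 5 * Fintype.card K ^ (finrank K V).choose 2 ≤ 32 * Nat.card F.S)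
    (s8 : Even (Fintype.card K) → 5 * Fintype.card K ^ (finrank K V).choose 2 ≤ 8 * Nat.card F.S)
    (sp : Odd (Fintype.card K) → ∀ B : Subring h.EB, Rk B (finrank K V) (-1) →
      Fintype.card K ^ (finrank K V + 1).choose 2 ≤ 3 * Nat.card F.S) :
    @Amb _ _ _ F V _ (modE h) (Fintype.card K) (finrank K V) := by
  have : Nontrivial V := nontrivial_of_dim (K := K) (by omega)
  have : Module.Finite K V := Module.Finite.of_finite
  obtain ⟨v, hv⟩ := exists_ne (0 : V)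
  have sc : ∀ z ∈ Subring.center h.EB, ∃ c : K, h.eb (c • 1) = z := fun z hz =>
    (SB.Tor.exists_sc h hz).imp fun c hc => h.ap_ext fun v => (hc v).symm
  refine @Amb.mk _ _ _ F V _ (modE h) _ _ (two_le_q K) h6 (Size.card_EB h) (card_V K V) ?_ (fun z hz => ?_)
    (fun a ha => (LinearMap.isUnit_iff_ker_eq_bot (h.ap a)).2 (LinearMap.ker_eq_bot'.2 ha))
    (fun B m e r => Dvd.intro_left _ (ru_dim r)) (fun u hu => ?_) nil_of_pow (fun h2 => ?_) sq s32 s8 sp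
  · rw [← Nat.card_eq_fintype_card]
    exact (Nat.card_eq_of_bijective (fun c : K => (⟨h.eb (c • 1), h.smul_mem_center c⟩ : Subring.center h.EB))
      ⟨fun c d k => smul_left_injective K hv (congrArg (fun x => h.ap x v) (Subtype.mk.inj k)),
        fun z => (sc z z.2).imp fun c hc => Subtype.ext hc⟩).symm
  · obtain ⟨c, rfl⟩ := sc z hz
    rw [sc_star, hτ]
  · have h1 := SzG.sizeG h F hu (W := I0 F) F.comm_le_Iso
    rw [card_V K V] at h1
    refine le_trans (le_of_eq (congrArg (· ^ 2) (Nat.card_congr (Equiv.subtypeEquivRight fun x => ?_)))) (h1.trans (le_of_eq ?_))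
    · rw [Subgroup.mem_inf, Subgroup.mem_centralizer_singleton_iff, and_comm]
    · exact congrArg (· * _) (Nat.card_congr (Equiv.subtypeEquivRight fun x => eq_comm))
  · refine IsUnit.of_mul_eq_one (h.eb ((2 : K)⁻¹ • 1)) (h.ap_ext fun v => ?_)
    rw [two_mul, h.ap_add, h.ap_one]
    change (2 : K)⁻¹ • v + (2 : K)⁻¹ • v = v
    rw [← add_smul, ← two_mul, mul_inv_cancel₀ ((two_ne_iff K).2 h2), one_smul]

theorem amb_Sp {k : ℕ} (s : KSp h F k) (h3 : 3 ≤ k) : @Amb _ _ _ F V _ (modE h) (Fintype.card K) (finrank K V) := by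
  have h1 : Fintype.card K ^ (finrank K V + 1).choose 2 ≤ 3 * Nat.card F.S := by
    have h2 := oSp_ge' (two_le_q K) k
    have h4 := Nat.mul_le_mul_right (Nat.card F.S) (Nat.gcd_le_left (Fintype.card K - 1) two_pos)
    have h5 := two_choose (2 * k + 1)
    rw [card_S_Sp s] at h4
    rw [s.dim, show (2 * k + 1).choose 2 = 2 * k ^ 2 + k by linarith only [h5]]
    omega
  have h2 : 5 * Fintype.card K ^ (finrank K V).choose 2 ≤ 8 * Nat.card F.S := by
    rw [choose_succ, pow_add] at h1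
    have h4 := Nat.mul_le_mul_left (Fintype.card K ^ (finrank K V).choose 2)
      ((two_le_q K).trans (Nat.le_self_pow (n := finrank K V) (by rw [s.dim]; omega) _))
    omega
  exact amb_of s.sp.1 (by rw [s.dim]; omega) (fun u hu => s.mem_comm (mul_mem hu hu)) (by omega) (fun _ => h2) fun _ _ _ => h1

/-- no skew elements of rank one for symmetric forms -/
theorem not_rk (hb : ∀ u v, h.b u v = h.b v u) (h2 : (2 : K) ≠ 0) (h0 : 0 < finrank K V) {B : Subring h.EB}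
    (r : Rk B (finrank K V) (-1)) : False := by
  obtain ⟨e, s, r, -, h3, ⟨a, -, b, -, h4⟩, c, -, d, -, h5⟩ := r
  have h6 : finrank K (LinearMap.ker (h.ap e - 1)) = 1 := Nat.eq_of_mul_eq_mul_right h0 ((ru_dim r).trans (one_mul _).symm)
  obtain ⟨x, hx, h7⟩ := finrank_eq_one_iff'.1 h6
  obtain ⟨ι, _, -, -, -, -, -, -, h8, -⟩ := r
  have h9 : ∀ v, ∃ t : K, h.ap s v = t • h.ap a x := fun v => by
    obtain ⟨t, ht⟩ := h7 ⟨h.ap e (h.ap b v), sub_eq_zero.2 (by rw [← h.ap_mul, h8]; rfl)⟩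
    exact ⟨t, by rw [h4, h.ap_mul, h.ap_mul, ← map_smul]; exact congrArg _ (congrArg Subtype.val ht).symm⟩
  have h10 : ∀ u v, h.b u (h.ap s v) = -h.b (h.ap s u) v := fun u v => by
    rw [← h.b_star, h3, Int.cast_neg, Int.cast_one, neg_one_mul, ← zero_sub s, h.ap_sub, h.sub_right]
    change _ = -(h.b u 0 - _)
    rw [h.zero_right, zero_sub, neg_neg]
  have h11 : s = 0 := h.ap_ext fun v => h.nondeg _ fun u => by
    obtain ⟨t, ht⟩ := h9 v
    obtain ⟨t', ht'⟩ := h9 u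
    have h12 : 2 * h.b (h.ap s v) v = 0 := by linear_combination h10 v v + hb (h.ap s v) v
    replace h12 := (mul_eq_zero.1 h12).resolve_left h2
    rw [ht, h.smul_left] at h12
    rcases mul_eq_zero.1 h12 with h13 | h13
    · rw [ht, h13, zero_smul, h.zero_right]
    · rw [h10, ht', h.smul_left, h13, mul_zero, neg_zero]
  rw [h11, mul_zero, zero_mul] at h5
  exact hx (Subtype.ext ((sub_eq_zero.1 (show h.ap e x - x = 0 from x.2)).symm.trans (congrArg (fun y => h.ap y x) h5)))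

theorem amb_O {Q : QuadraticForm K V} (k : KO h F Q) : @Amb _ _ _ F V _ (modE h) (Fintype.card K) (finrank K V) := by
  have h7 := k.dim
  have hQ := nondeg_of_O k.o
  have h1 := card_O_ge hQ h7
  rw [← Nat.choose_two_right] at h1
  refine amb_of k.o.1 (by omega) (fun u hu => (mem_I0_O k _).2 ?_) ?_ (fun h2 => ?_) fun h2 B r => (not_rk
    (fun u v => by rw [k.o.2.1, k.o.2.1, QuadraticMap.polar_comm]) ((two_ne_iff K).2 h2) (by omega) r).elim
  · rw [map_mul]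
    exact H875.KB.sq_mem_E k.good ((map_Iso_O k.o).le ⟨u, hu, rfl⟩)
  · have h4 : ∀ x, Nat.gcd 4 x * Nat.card F.S ≤ 4 * Nat.card F.S := fun x =>
      Nat.mul_le_mul_right _ (Nat.gcd_le_left _ four_pos)
    rcases card_S_O k with ⟨m, h2, -, h3⟩ | ⟨m, h2, hP, h3⟩ | ⟨m, h2, hP, h3⟩
    · rw [card_O_odd hQ h2] at h1
      omega
    · rw [card_O_plus hQ (by omega) h2 hP, ← h3] at h1
      have := h4 (Fintype.card K ^ m - 1)
      omega
    · rw [card_O_minus hQ (by omega) h2 hP, ← h3] at h1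
      have := h4 (Fintype.card K ^ m + 1)
      omega
  · rw [card_O_eq_S_two k h2] at h1
    omega

end Cfsg.Agent.N2C.TenSO
end

-- part: N2/Cl/TenSO/Gen
section
/-!
# N2 (S3519), tensor decompositions: tensor products of elements, the criteria (helper92)

`GE` an element of the stabiliser, `gdG` the general criterion, `gdC` the criterion with the Cayley count, `pair` the
product of two transvections.
-/

set_option autoImplicit false
set_option linter.unusedSectionVars false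
set_option maxHeartbeats 400000

namespace Cfsg.Agent.N2C.TenSO

open Cfsg.Agent.DS.Cl Cfsg.Agent.DS.Cl.Fwd Cfsg.Agent.SB.Cl Module
open Cfsg.Agent.TH.Cl.Ten (Cz)
open Cfsg.Agent.N2C.Cyc
open scoped Pointwise

section num

theorem fin {c X S q E h N : ℕ} (q₀ α k x τ σ j : ℕ) (hq : q₀ ≤ q) (h0 : 0 < q) (h1 : α * c ^ 2 ≤ k * q ^ E)
    (h2 : X ≤ x * q ^ h) (h3 : τ * q ^ N ≤ σ * S) (h4 : k ^ 3 * x ^ 2 * σ ^ 2 ≤ α ^ 3 * τ ^ 2 * q₀ ^ j)
    (h5 : 3 * E + 2 * h + j ≤ 2 * N) (h6 : 0 < α * σ) : c ^ 3 * X ≤ S := by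
  have h7 := Nat.pos_of_mul_pos_right h6
  have h8 := Nat.pos_of_mul_pos_left h6
  refine (Nat.pow_le_pow_iff_left two_ne_zero).1 (Nat.le_of_mul_le_mul_left ?_ (show 0 < α ^ 3 * σ ^ 2 by positivity))
  calc α ^ 3 * σ ^ 2 * (c ^ 3 * X) ^ 2 = (α * c ^ 2) ^ 3 * X ^ 2 * σ ^ 2 := by ring
    _ ≤ (k * q ^ E) ^ 3 * (x * q ^ h) ^ 2 * σ ^ 2 := by gcongr
    _ = k ^ 3 * x ^ 2 * σ ^ 2 * q ^ (3 * E + 2 * h) := by ring
    _ ≤ α ^ 3 * τ ^ 2 * q ^ j * q ^ (3 * E + 2 * h) := Nat.mul_le_mul_right _ (h4.trans (by gcongr))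
    _ = α ^ 3 * τ ^ 2 * q ^ (3 * E + 2 * h + j) := by ring
    _ ≤ α ^ 3 * τ ^ 2 * q ^ (2 * N) := Nat.mul_le_mul_left _ (Nat.pow_le_pow_right h0 h5)
    _ = α ^ 3 * (τ * q ^ N) ^ 2 := by ring
    _ ≤ α ^ 3 * (σ * S) ^ 2 := by gcongr
    _ = _ := by ring

theorem two_mul_le (t : ℕ) : 2 * t ≤ 2 ^ t := by
  induction t with
  | zero => simp
  | succ t ih =>
    rcases t with _ | t
    · simp
    · have : 2 ≤ 2 ^ (t + 1) := Nat.le_self_pow (by omega) 2
      rw [pow_succ]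
      omega

theorem le_of_two_pow {t n j : ℕ} (h : 2 ^ t ≤ n) (hn : n < 2 ^ (j + 1)) : t ≤ j :=
  Nat.lt_succ_iff.1 ((Nat.pow_lt_pow_iff_right one_lt_two).1 (h.trans_lt hn))

/-- the generic case -/
theorem gen {c X S q n t E h : ℕ} (hq : 2 ≤ q) (h1 : c ^ 2 ≤ q ^ E) (h2 : X ≤ t * 4 * q ^ h) (ht : 2 ^ t ≤ n)
    (h3 : 5 * q ^ n.choose 2 ≤ 32 * S)
    (h5 : 3 * E + 2 * h + 2 * n + 10 ≤ n * n ∨ 3 ≤ q ∧ n < 32 ∧ 3 * E + 2 * h + n + 9 ≤ n * n) : c ^ 3 * X ≤ S := by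
  have h6 := two_choose n
  rcases h5 with h5 | ⟨h7, h8, h5⟩
  · refine fin (E := E) 2 1 1 (t * 4) 5 32 (n + 10) hq (by omega) (by omega) h2 h3 ?_ (by omega) (by omega)
    have h7 : t ^ 2 ≤ 2 ^ n := (Nat.pow_le_pow_left Nat.lt_two_pow_self.le 2).trans (by
      rw [← pow_mul, mul_comm]
      exact Nat.pow_le_pow_right two_pos ((two_mul_le t).trans ht))
    rw [pow_add]
    linarith only [h7, _root_.sq_nonneg (↑t : ℤ)]
  · have h9 := le_of_two_pow (j := 4) ht h8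
    exact fin (E := E) 3 1 1 16 5 32 9 h7 (by omega) (by omega) (h2.trans (Nat.mul_le_mul_right _ (by omega))) h3 (by norm_num)
      (by omega) (by omega)

end num

variable {A : Type} [Ring A] [StarRing A] [Finite A] {F : FR A} {H : Subgroup (RingAut A)} {𝓑 : Set (Subring A)}
  {B B' X X' : Subring A} {m m' N N' d d' : ℕ} {g g' : Aˣ}

/-- an element of the stabiliser -/
structure GE (F : FR A) (𝓑 : Set (Subring A)) (X : Subring A) (m N d : ℕ) (g : Aˣ) : Prop where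
  mem : (g : A) ∈ X
  i0 : g ∈ I0 F
  pt : cj A g ∈ ptStab (RingAut A) 𝓑
  pow : g ^ N = 1
  cd : Cd X m d (g : A)

/-- `H` contains the stabiliser of the factors -/
def Stab (F : FR A) (H : Subgroup (RingAut A)) (𝓑 : Set (Subring A)) : Prop :=
  ∀ s ∈ F.S, s ∈ ptStab (RingAut A) 𝓑 → s ∈ H

/-- commuting subrings -/
abbrev Cm (X X' : Subring A) : Prop := ∀ x ∈ X, ∀ y ∈ X', x * y = y * x

omit [StarRing A] [Finite A] in
theorem Cm.sup (h : Cm B X) (h' : Cm B' X) : Cm (B ⊔ B') X := fun _ hx y hy =>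
  ((sup_le (c := Cz X) (fun z hz w hw => (h z hz w hw).symm) fun z hz w hw => (h' z hz w hw).symm) hx y hy).symm

namespace GE

variable (h : GE F 𝓑 X m N d g)
include h

theorem uni : (g : A) * star (g : A) = 1 := (F.comm_le_Iso h.i0).1

theorem pow' : (g : A) ^ N = 1 := congrArg Units.val h.pow

theorem mono (hd : d ≤ d') : GE F 𝓑 X m N d' g := ⟨h.mem, h.i0, h.pt, h.pow, h.cd.mono hd⟩

theorem gd (st : Stab F H 𝓑) (hc : cI F g ^ 3 * Nat.card ↥(H ⊓ F.S) ≤ Nat.card F.S) : Gd F H :=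
  gd_of_cI h.i0 (st _ ⟨g, h.i0, rfl⟩ h.pt) le_rfl hc

variable (h' : GE F 𝓑 X' m' N' d' g') (hc : Cm X X') (k : N.Coprime N')
include h' hc k

theorem both (x : A) (hx : x * ((g * g' : Aˣ) : A) = (g * g' : Aˣ) * x) : x * g = g * x ∧ x * g' = g' * x :=
  have h1 := hc _ h.mem _ h'.mem
  ⟨comm_of_cop h1 h.pow' h'.pow' k hx, comm_of_cop h1.symm h'.pow' h.pow' k.symm (h1 ▸ hx)⟩

theorem mul : GE F 𝓑 (X ⊔ X') (m * m') (N * N') (d * d') (g * g') :=
  ⟨mul_mem (le_sup_left (a := X) h.mem) (le_sup_right (b := X') h'.mem), mul_mem h.i0 h'.i0,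
    by rw [map_mul]; exact mul_mem h.pt h'.pt,
    by rw [(show Commute g g' from Units.ext (hc _ h.mem _ h'.mem)).mul_pow, pow_mul, h.pow, mul_comm N, pow_mul, h'.pow,
      one_pow, one_pow, mul_one], h.cd.mul h'.cd hc h'.mem (h.both h' hc k)⟩

end GE

namespace Amb

variable {W : Type} [AddCommGroup W] [Module A W] [Finite W] {q n : ℕ} (M : Amb F W q n)
include M

theorem exists_r (h : GE F 𝓑 X m N d g) : ∃ r, n = m * (r + 1) := by
  obtain ⟨e, h1, -⟩ := h.cd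
  obtain ⟨r, hr⟩ := M.dvd _ _ _ h1
  have := M.six
  rcases r with _ | r
  · omega
  · exact ⟨r, hr⟩

theorem cA_le (h : GE F 𝓑 X m N d g) {r : ℕ} (hr : n = m * r) : cA (g : A) ≤ q ^ (d * r ^ 2) := by
  have h1 := h.cd.card_le
  have := M.six
  have := M.two
  rw [M.cardA, ← pow_mul] at h1
  exact le_of_pow (by omega) (pow_ne_zero 2 (by rintro rfl; omega)) h1 (le_of_eq (by rw [hr]; ring))

theorem cI_le (h : GE F 𝓑 X m N d g) {r : ℕ} (hr : n = m * r) : cI F g ^ 2 ≤ q ^ (d * r ^ 2 + n) := by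
  rw [pow_add]
  exact (M.gb g (F.comm_le_Iso h.i0)).trans (Nat.mul_le_mul_right _ (M.cA_le h hr))

/-- the Cayley count -/
theorem cay (h : GE F 𝓑 X m N d g) {r : ℕ} (hr : n = m * r) {u s : A} {f μ j a κ : ℕ} (β : ℕ) (hs : s * star s = 1)
    (E : SE s (q ^ f) μ) (hM : 3 ≤ μ) (hsg : s * g = g * s) (hus : u * s = s * u)
    (k : ∀ x : A, x * g = g * x → x * u = u * x ∧ x * s = s * x) (hu : u ^ q ^ j = 1) (kr : Kr B a κ u)
    (hβ : n * κ < f * (β + 1) * a) : (μ - β) ^ 2 * cI F g ^ 2 ≤ μ ^ 2 * q ^ (d * r ^ 2) := by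
  have h1 := kr.card_le (W := W)
  rw [M.cardW, ← pow_mul] at h1
  have h2 := cayley M.unit hs E hM h.uni hsg hus k (M.nil u j hu) (β := β) (lt_of_pow_lt_pow_left₀ a (Nat.zero_le _)
    (h1.trans_lt (by rw [← pow_mul, ← pow_mul, ← mul_assoc]; exact Nat.pow_lt_pow_right M.two hβ)))
  rw [← mul_pow]
  exact (Nat.pow_le_pow_left (Nat.mul_le_mul_left _ (cI_le_cU F g)) 2).trans (h2.trans (Nat.mul_le_mul_left _ (M.cA_le h hr)))

end Amb

section pair

omit [StarRing A]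

theorem ru_mu {E : Fin m → Fin m → A} (h : MU0 E) (k : ∀ i j, E i j ∈ B) (o : Fin m) : Ru B m (E o o) := by
  refine ⟨Fin m, inferInstance, fun i => E i o, fun i => E o i, Fintype.card_fin m, k _ _, fun i => k _ _,
    fun i => k _ _, h.mul_eq _ _ _, fun i => by rw [h.mul_eq, h.mul_eq], fun i j hij => by rw [h.mul_eq, h.mul, if_neg hij], ?_⟩
  simp only [h.mul_eq, h.sum]

/-- Jordan blocks of sizes three and one -/
theorem four {G : Fin 4 → Fin 4 → A} (h : MU0 G) (k : ∀ i j, G i j ∈ X) (h2 : IsUnit (2 : A)) {g : A}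
    (hg : g = 1 + (G 0 1 + G 0 2 + G 0 3 + G 1 3 + G 2 3)) : Cd X 4 6 g ∧ Kr X 4 2 g := by
  have h1 : G 0 0 + G 1 1 + G 2 2 + G 3 3 = 1 := by rw [← h.sum, Fin.sum_univ_four]
  have h3 : (G 3 1 + G 2 0 - G 2 1) * (g - 1) + (G 0 3 * G 3 0 + (G 1 3 - G 2 3) * G 3 1) = 1 := by
    rw [hg, add_sub_cancel_left, ← h1]
    simp only [add_mul, sub_mul, mul_add, h.mul, _root_.Fin.isValue, _root_.one_ne_zero, ↓ _root_.reduceIte, _root_.zero_add, _root_.sub_zero, _root_.zero_ne_one, _root_.add_zero, _root_.add_add_sub_cancel, _root_.Fin.reduceEq, _root_.sub_self]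
    abel
  refine ⟨⟨_, ru_mu h k 3, Fin 4 ⊕ Fin 2, inferInstance, fun l => (AddMonoidHom.mulLeft (G 3 (l.elim id (Fin.castLE (by norm_num))))).comp
    (AddMonoidHom.mulRight (l.elim (fun _ => G 3 3) fun _ => G 1 3 - G 2 3)), by simp, fun l x => ?_, fun l x c hc => ?_,
    fun x hx h0 => ?_⟩, _, ru_mu h k 3, Fin 2, inferInstance, ![G 3 0, G 3 1], ![G 0 3, G 1 3 - G 2 3], _, by simp,
    fun l => by fin_cases l <;> exact h.mul_eq _ _ _, by rw [Fin.sum_univ_two]; exact h3⟩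
  · change G 3 3 * (G 3 _ * (x * _)) * G 3 3 = G 3 _ * (x * _)
    rw [← mul_assoc, h.mul_eq, mul_assoc, mul_assoc]
    rcases l with l | l <;> simp [sub_mul, h.mul]
  · change G 3 _ * (c * x * _) = c * (G 3 _ * (x * _)) ∧ G 3 _ * (x * c * _) = G 3 _ * (x * _) * c
    refine ⟨by rw [mul_assoc, ← mul_assoc, hc _ (k _ _), mul_assoc], ?_⟩
    rw [mul_assoc, mul_assoc, mul_assoc, hc]
    rcases l with l | l
    · exact k _ _
    · exact sub_mem (k _ _) (k _ _)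
  · have a0 : ∀ l, G 3 l * (x * G 3 3) = 0 := fun l => h0 (Sum.inl l)
    have a1 : x * G 3 3 = 0 := by
      rw [← one_mul (x * _), ← h.sum, Finset.sum_mul]
      exact Finset.sum_eq_zero fun l _ => by rw [← h.mul_eq l 3 l, mul_assoc, a0, mul_zero]
    have a2 : x * (g - 1) = (g - 1) * x := by rw [mul_sub, sub_mul, hx, mul_one, one_mul]
    have a3 : x * (G 1 3 - G 2 3) = 0 := by
      have b1 : G 3 0 * (x * (G 1 3 - G 2 3)) = 0 := h0 (Sum.inr 0)
      have b2 : G 3 1 * (x * (G 1 3 - G 2 3)) = 0 := h0 (Sum.inr 1)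
      have b3 : (g - 1) * (G 1 3 - G 2 3) = 0 := by
        rw [hg, add_sub_cancel_left]
        simp [add_mul, mul_sub, h.mul]
      rw [← one_mul (x * _), ← h3, add_mul, add_mul, mul_assoc, mul_assoc (G 0 3), mul_assoc _ (G 3 1), b1, b2,
        ← mul_assoc (g - 1), ← a2, mul_assoc x, b3]
      simp
    have a4 : x * (G 0 3 + G 1 3 + G 2 3) = 0 := by
      have b3 : (g - 1) * G 3 3 = G 0 3 + G 1 3 + G 2 3 := by
        rw [hg, add_sub_cancel_left]
        simp [add_mul, h.mul]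
      rw [← b3, ← mul_assoc, a2, mul_assoc, a1, mul_zero]
    have t2 : ∀ y : A, y + y = 0 → y = 0 := fun y hy => h2.mul_left_cancel (by rw [two_mul, hy, mul_zero])
    have a5 : x * G 0 3 = 0 := t2 _ (by
      have b3 : (g - 1) * (G 0 3 + G 1 3 + G 2 3) = G 0 3 + G 0 3 := by
        rw [hg, add_sub_cancel_left]
        simp only [add_mul, mul_add, h.mul, _root_.Fin.isValue, _root_.one_ne_zero, ↓ _root_.reduceIte, _root_.Fin.reduceEq, _root_.add_zero, _root_.zero_add]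
      rw [← mul_add, ← b3, ← mul_assoc, a2, mul_assoc, a4, mul_zero])
    rw [mul_add, mul_add, a5, zero_add] at a4
    rw [mul_sub, sub_eq_zero] at a3
    have a6 : x * G 2 3 = 0 := t2 _ (by rwa [a3] at a4)
    rw [← mul_one x, ← h1, ← h.mul_eq 0 3 0, ← h.mul_eq 1 3 1, ← h.mul_eq 2 3 2]
    simp only [mul_add, ← mul_assoc, a1, a3, a5, a6, zero_mul, add_zero]

/-- the product of two transvections -/
theorem pair {E E' : Fin 2 → Fin 2 → A} (h : MU0 E) (h' : MU0 E') (k : ∀ i j, E i j ∈ B) (k' : ∀ i j, E' i j ∈ B')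
    (hc : Cm B B') (h2 : IsUnit (2 : A)) :
    Cd (B ⊔ B') 4 6 ((1 + E 0 1) * (1 + E' 0 1)) ∧ Kr (B ⊔ B') 4 2 ((1 + E 0 1) * (1 + E' 0 1)) := by
  have h1 : E 0 0 + E 1 1 = 1 := by rw [← h.sum, Fin.sum_univ_two]
  have h1' : E' 0 0 + E' 1 1 = 1 := by rw [← h'.sum, Fin.sum_univ_two]
  refine four (G := fun i j => E (![0, 0, 1, 1] i) (![0, 0, 1, 1] j) * E' (![0, 1, 0, 1] i) (![0, 1, 0, 1] j))
    ⟨fun i j a b => ?_, ?_⟩ (fun i j => mul_mem (le_sup_left (a := B) (k _ _)) (le_sup_right (b := B') (k' _ _))) h2 ?_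
  · rw [mul_assoc, ← mul_assoc (E' _ _), ← hc _ (k _ _) _ (k' _ _), mul_assoc, ← mul_assoc, h.mul, h'.mul]
    (revert j a; simp only [_root_.Fin.forall_fin_succ, _root_.Nat.succ_eq_add_one, Nat.reduceAdd, Fin.isValue, _root_.mul_ite, _root_.ite_mul, _root_.MulZeroClass.zero_mul, _root_.MulZeroClass.mul_zero, _root_.Matrix.cons_val_zero, _root_.Matrix.cons_val_succ, _root_.Fin.succ_zero_eq_one, _root_.Fin.succ_one_eq_two, _root_.Matrix.cons_val_fin_one, Fin.reduceSucc, _root_.IsEmpty.forall_iff, _root_.and_true, ↓reduceIte, _root_.zero_ne_one, Fin.reduceEq, _root_.and_self, _root_.Fin.succ_ne_zero, _root_.ite_eq_right_iff, _root_.one_ne_zero, _root_.forall_const, _root_.imp_self, _root_.implies_true, _root_.right_eq_ite_iff, _root_.left_eq_ite_iff, _root_.true_and, _root_.not_true_eq_false])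
  · rw [Fin.sum_univ_four, ← mul_one (1 : A)]
    conv_rhs => rw [← h1]; arg 2; rw [h1, ← h1']
    simp only [add_mul, mul_add, _root_.Nat.succ_eq_add_one, _root_.Nat.reduceAdd, _root_.Fin.isValue, _root_.Matrix.cons_val_zero, _root_.Matrix.cons_val_one, _root_.Matrix.cons_val]
    abel
  · have e1 : E 0 1 = E 0 1 * (E' 0 0 + E' 1 1) := by rw [h1', mul_one]
    have e2 : E' 0 1 = (E 0 0 + E 1 1) * E' 0 1 := by rw [h1, one_mul]
    rw [add_mul, mul_add, mul_add, one_mul, one_mul, mul_one]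
    conv_lhs => arg 1; rw [e2]
    conv_lhs => arg 2; arg 1; rw [e1]
    simp only [add_mul, mul_add, _root_.Fin.isValue, _root_.Nat.succ_eq_add_one, _root_.Nat.reduceAdd, _root_.Matrix.cons_val_zero, _root_.Matrix.cons_val_one, _root_.Matrix.cons_val]
    abel

end pair

end Cfsg.Agent.N2C.TenSO
end

-- part: N2/Cl/TenSO/Fac
section
/-!
# N2 (S3519), tensor decompositions: the data of a factor (helper92)

`FSp` symplectic factors, `FO` orthogonal factors, `fac` every factor is of one of the two kinds, `cz` the centraliser.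
-/

set_option autoImplicit false
set_option linter.unusedSectionVars false
set_option maxHeartbeats 400000

namespace Cfsg.Agent.N2C.TenSO

open Cfsg.Agent.DS.Cl Cfsg.Agent.DS.Cl.Fwd Cfsg.Agent.SB.Cl Module Polynomial
open Cfsg.Agent.TH.Cl.Ten (Cz sqU one_add_pow)
open Cfsg.Agent.N2C.Cyc
open scoped Pointwise

/-- the boxes -/
structure Bx : Prop where
  usp : BoxUSp
  uo : BoxUO
  ssp : BoxSSp
  lw : BoxLW
  zo : BoxZO
  x : BoxX

variable {A : Type} [Ring A] [StarRing A] [Finite A]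

/-- a factor of dimension `a` -/
structure Fac (F : FR A) (H : Subgroup (RingAut A)) (𝓑 : Set (Subring A)) (B : Subring A) (q a : ℕ) : Prop where
  mem : B ∈ 𝓑
  two : 2 ≤ a
  st : Stab F H 𝓑
  ru : ∃ e, Ru B a e
  card : Nat.card B = q ^ a ^ 2
  third : ∀ B' ∈ 𝓑, B' ≠ B → (∀ X ∈ 𝓑, X = B ∨ X = B') → Nat.card A ≤ Nat.card B' ^ a ^ 2

/-- a symplectic factor -/
structure FSp (F : FR A) (H : Subgroup (RingAut A)) (𝓑 : Set (Subring A)) (B : Subring A) (q a : ℕ) : Prop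
    extends Fac F H 𝓑 B q a where
  ev : ∃ k, a = 2 * k
  q3 : a = 2 → 3 ≤ q
  pb : PB B (2 * q ^ (a + 1).choose 2)
  pbo : Odd q → PB B (q ^ (a + 1).choose 2)
  rk : Rk B a (-1)
  U : 6 ≤ a ∨ 3 ≤ q → ∃ u j, GE F 𝓑 B a (q ^ j) a u ∧ Kr B a 1 (u : A)
  S : ∃ s, GE F 𝓑 B a (q ^ (a / 2) + 1) a s ∧ SE (s : A) (q ^ a) 3 ∧ (4 ≤ a → SE (s : A) (q ^ a) 5)
  L : a = 2 → Even q → ∃ l, GE F 𝓑 B a (q - 1) 2 l
  W : a = 4 → q = 2 → ∃ w, GE F 𝓑 B a 3 6 w
  P : a = 2 → Odd q → ∃ (u : Aˣ) (E : Fin 2 → Fin 2 → A), MU0 E ∧ (∀ i j, E i j ∈ B) ∧ (u : A) = 1 + E 0 1 ∧ u ∈ I0 F ∧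
    cj A u ∈ ptStab (RingAut A) 𝓑 ∧ u ^ q = 1

/-- an orthogonal factor -/
structure FO (F : FR A) (H : Subgroup (RingAut A)) (𝓑 : Set (Subring A)) (B : Subring A) (q a : ℕ) : Prop
    extends Fac F H 𝓑 B q a where
  odd : Odd q
  three : 3 ≤ a
  q5 : a = 3 → 5 ≤ q
  pb : PB B (2 * q ^ a.choose 2)
  rk : Rk B a 1
  U : ∃ u j, GE F 𝓑 B a (q ^ j) (a + 2) u ∧ Kr B a 2 (u : A)
  U3 : a = 3 → ∃ u j, GE F 𝓑 B a (q ^ j) a u ∧ Kr B a 1 (u : A)
  Z : ∃ z, GE F 𝓑 B a 2 ((a - 2) ^ 2 + 4) z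
  Z3 : a = 3 → ∃ z N, N.Coprime q ∧ GE F 𝓑 B a N 3 z

variable {F : FR A} {H : Subgroup (RingAut A)} {p : ℕ} {𝓑 : Set (Subring A)} {B : Subring A} {q n a : ℕ}
  {W : Type} [AddCommGroup W] [Module A W] [Finite W]
  {K : Type} [Field K] [Fintype K] {h : HF K (Fin a → K)} {F' : FR h.EB}

namespace MD

variable (m : MD B q a h F') (f : FM B h.EB)
include m

include f in
theorem ru : ∃ e, Ru B a e := ⟨_, ru_Eu (Pi.basisFun K (Fin a)) f.ψ f.mem ⟨0, m.pos⟩⟩

theorem kr {g : h.EB} {κ : ℕ} (k : Fx h g κ) : Kr B a κ (f.ψ g) :=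
  kr_of (Pi.basisFun K (Fin a)) f.ψ f.mem ⟨0, m.pos⟩ (g := g) ((Nat.pow_le_pow_iff_right Fintype.one_lt_card).1
    ((card_fix (h.ap g)).symm.le.trans k))

theorem se {s : h.EB} (k : IrrV (h.ap s)) {μ : ℕ} (k' : ∀ j, 0 < j → j < μ → s ^ j ≠ 1) : SE (f.ψ s) (q ^ a) μ := by
  obtain ⟨v, hv⟩ := cycV_of_irr k
  choose φ hφ using hv
  let ζ : (Fin a → K) → h.EB := fun x => h.eb (aeval (h.ap s) (φ x))
  have h1 : ∀ x, ζ x * s = s * ζ x := fun x => (aeval_comm (x := h.ap s) rfl (φ x)).symm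
  refine ⟨⟨Fin a → K, fun x => f.ψ (ζ x), by rw [card_V K, finrank_fin_fun, m.card], fun i x hx => ?_, fun i j hij => ?_⟩,
    fun j h0 hj => ?_⟩
  · change x * f.ψ (h.eb (aeval (h.ap s) (φ i))) = f.ψ (h.eb (aeval (h.ap s) (φ i))) * x
    induction φ i using Polynomial.induction_on' with
    | add a b ha hb =>
      rw [show h.eb (aeval (h.ap s) (a + b)) = h.eb (aeval (h.ap s) a) + h.eb (aeval (h.ap s) b) from map_add _ _ _, map_add,
        mul_add, add_mul, ha, hb]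
    | monomial i c =>
      have h2 : h.eb (aeval (h.ap s) (monomial i c)) = h.eb (c • 1) * s ^ i := by
        rw [aeval_monomial, Algebra.algebraMap_eq_smul_one]
        rfl
      rw [h2, map_mul, map_pow, ← mul_assoc, cen_comm (f.cen _ (h.smul_mem_center c)), mul_assoc, mul_assoc,
        ((show Commute x (f.ψ s) from hx).pow_right i).eq]
  · rw [← map_sub]
    refine IsUnit.map f.ψ (k.isUnit (x := h.ap (ζ i - ζ j))
      (show (ζ i - ζ j) * s = s * (ζ i - ζ j) by rw [sub_mul, mul_sub, h1, h1]) fun e => hij ?_)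
    rw [← hφ i, ← hφ j]
    exact sub_eq_zero.1 (LinearMap.congr_fun e v)
  · rw [← map_pow, ← map_one f.ψ, ← map_sub]
    exact IsUnit.map f.ψ (k.isUnit (x := h.ap (s ^ j - 1)) (show (s ^ j - 1) * s = s * (s ^ j - 1) by
      rw [sub_mul, mul_sub, ← pow_succ, ← pow_succ', one_mul, mul_one]) (sub_ne_zero.2 (k' j h0 hj)))

include f in
theorem rk (hτ : ∀ c, h.τ c = c) {ε : ℤ} (hε : ∀ u v, h.b u v = ε * h.b v u) : Rk B a ε := by
  let c := Pi.basisFun K (Fin a)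
  let o : Fin a := ⟨0, m.pos⟩
  obtain ⟨y, hy⟩ := h.exists_ne (c.ne_zero o)
  refine ⟨_, f.ψ (h.eb (h.ro (c o) (c o))), ru_Eu c f.ψ f.mem o, f.mem' _, ?_, ⟨1, one_mem _, f.ψ (h.eb (h.ro (c o) (c o))),
    f.mem' _, ?_⟩, 1, one_mem _, f.ψ (h.eb ((h.b y (c o))⁻¹ • (c.coord o).smulRight y)), f.mem' _, ?_⟩
  · rw [← f.st, ← map_intCast f.ψ, ← map_mul]
    refine congrArg _ (h.ap_ext fun v => ?_)
    rw [ap_star_ro, hτ, hε, ← zsmul_eq_mul, ← zsmul_eq_mul, smul_assoc]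
    rfl
  · rw [one_mul]
    refine Eq.trans (congrArg _ (h.ap_ext fun v => ?_)) (map_mul f.ψ (h.eb (Eu c o o)) _)
    change h.b v (c o) • c o = Eu c o o (h.b v (c o) • c o)
    rw [map_smul, Eu_apply, c.repr_self, Finsupp.single_eq_same, one_smul]
  · rw [one_mul, ← map_mul]
    refine congrArg f.ψ (h.ap_ext (a := h.eb (Eu c o o)) fun v => ?_)
    change c.repr v o • c o = h.b ((h.b y (c o))⁻¹ • c.repr v o • y) (c o) • c o
    rw [h.smul_left, h.smul_left, mul_left_comm, inv_mul_cancel₀ hy, mul_one]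

variable (T : TC F H p 𝓑) (M : Amb F W q n) (hB : B ∈ 𝓑)
include T hB

omit m in
theorem cen_iff {y : h.EB} : f.ψ y ∈ Subring.center A ↔ y ∈ Subring.center h.EB :=
  ⟨fun k => Subring.mem_center_iff.2 fun g => f.inj (by rw [map_mul, map_mul, cen_comm k]), f.cen y⟩

include f in
theorem fac (h1 : a ≠ 1) (st : Stab F H 𝓑) : Fac F H 𝓑 B q a := by
  have h0 := m.pos
  refine ⟨hB, by omega, st, m.ru f, ?_, fun B' hB' hne k => ?_⟩
  · rw [← m.card, ← finrank_fin_fun K (n := a), ← Size.card_EB h]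
    exact (Nat.card_eq_of_bijective (fun y => (⟨f.ψ y, f.mem' y⟩ : B)) ⟨fun _ _ e => f.inj (Subtype.mk.inj e),
      fun x => ((f.mem _).1 x.2).imp fun _ e => Subtype.ext e⟩).symm
  let c := Pi.basisFun K (Fin a)
  let ψ : End K (Fin a → K) →+* A := f.ψ
  have hE := (mu_Eu c).map ψ
  have h2 : ∀ x ∈ B, ∀ i j, coef (fun i j => ψ (Eu c i j)) x i j ∈ B' := fun x hx i j => by
    obtain ⟨y, rfl⟩ : ∃ y, ψ y = x := (f.mem x).1 hx
    have h3 : coef (fun i j => ψ (Eu c i j)) (ψ y) i j = ψ (c.repr (y (c j)) i • 1) := by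
      rw [← coef_Eu]
      simp only [coef, map_sum, map_mul]
    exact h3 ▸ T.d.t.cen_le B' hB' (f.cen _ (h.smul_mem_center _))
  let Y : Subring A :=
    { carrier := {x | ∀ i j, coef (fun i j => ψ (Eu c i j)) x i j ∈ B'}
      mul_mem' := fun hx hy i j => by
        rw [Ten.coef_mul_coef hE]
        exact sum_mem fun l _ => mul_mem (hx _ _) (hy _ _)
      one_mem' := h2 1 (one_mem _)
      add_mem' := fun hx hy i j => by simpa only [coef, mul_add, add_mul, Finset.sum_add_distrib] using add_mem (hx i j) (hy i j)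
      zero_mem' := h2 0 (zero_mem _)
      neg_mem' := fun hx i j => by simpa only [coef, mul_neg, neg_mul, Finset.sum_neg_distrib] using neg_mem (hx i j) }
  have h3 : ∀ x, x ∈ Y := T.d.t.ind fun X hX x hx i j => by
    rcases k X hX with rfl | rfl
    · exact h2 x hx i j
    · have h4 := mul_mem hx (h2 1 (one_mem _) i j)
      rw [coef, Finset.mul_sum] at h4
      rwa [coef, Finset.sum_congr rfl fun l _ => show _ = x * (ψ (Eu c l i) * 1 * ψ (Eu c j l)) by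
        rw [show ψ (Eu c l i) * x = x * ψ (Eu c l i) from T.comm hB hX hne.symm _ (f.mem' _) x hx, mul_one, mul_assoc]]
  rw [sq, pow_mul]
  conv_rhs => rw [← Nat.card_fin a, ← Nat.card_fun, ← Nat.card_fun]
  refine Nat.card_le_card_of_injective (fun x i j => ⟨_, h3 x j i⟩) fun x y e => ?_
  rw [hE.expand x, hE.expand y]
  exact Finset.sum_congr rfl fun i _ => Finset.sum_congr rfl fun j _ =>
    congrArg (· * _) (Subtype.mk.inj (congrFun (congrFun e j) i))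

include M

omit m in
theorem sq_I0 {u : h.EBˣ} (hu : u ∈ Sq h.EB) : Units.map (f.ψ : h.EB →* A) u ∈ I0 F := by
  refine (Subgroup.closure_le ((I0 F).comap (Units.map (f.ψ : h.EB →* A)))).2 ?_ hu
  rintro _ ⟨v, hv, rfl⟩
  change Units.map _ (v * v) ∈ I0 F
  rw [map_mul]
  exact M.sq _ (T.iso hB (f.mem' v) ((congrArg (f.ψ v * ·) (f.st v).symm).trans (by rw [← map_mul, hv, map_one])))

theorem ge {u : h.EBˣ} {N d : ℕ} (e : El h u N d) : GE F 𝓑 B a N d (Units.map (f.ψ : h.EB →* A) u) := by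
  have h1 := sq_I0 f T M hB e.sq
  refine ⟨f.mem' u, h1, T.pt hB (f.mem' u) (F.comm_le_Iso h1).1, by rw [← map_pow, e.pow, map_one],
    cd_of (Pi.basisFun K (Fin a)) f.ψ f.mem (fun c => f.cen _ (h.smul_mem_center c)) ⟨0, m.pos⟩ (g := h.ap u)
      (finrank_le_of_card (le_trans (le_of_eq (Nat.card_congr (Equiv.subtypeEquivRight fun x => ?_))) e.ca))⟩
  exact sub_eq_zero (a := x * h.ap u) (b := h.ap u * x)

include f

omit m in
theorem stab {u : h.EBˣ} {N d : ℕ} (e : El h u N d) : Stab F H 𝓑 := fun _ =>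
  T.mem_H hB (y := Units.map (f.ψ : h.EB →* A) u) (f.mem' u) (sq_I0 f T M hB e.sq) fun k => e.cen ((cen_iff f T hB).1 k)

theorem fsp (X : Bx) (k : IsSp h F') : FSp F H 𝓑 B q a := by
  have hA : Alt h := ⟨k.1, k.2.1⟩
  obtain ⟨j, hj, -⟩ := Size.card_Iso_Sp k
  have ha : a = 2 * j := (finrank_fin_fun K).symm.trans hj
  have h0 := m.pos
  have hq := m.two
  have hc := m.card
  have q3 : a = 2 → 3 ≤ q := fun h2 => by
    by_contra h3
    obtain ⟨h4, x, h5, h6⟩ := (X.x K _ h).2.1 hA (by omega) (by omega)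
    refine h6 ((cen_iff f T hB).1 (T.cen_of (fun x => x * x + x + 1 = 0) id (fun γ _ x hx => ?_) (fun _ _ => rfl)
      (fun _ _ hx => hx) (fun x hx => ⟨?_, rfl⟩) hB (fun x hx y hy => ?_) (f.mem' x) ?_))
    · rw [← map_mul, ← map_one γ, ← map_add, ← map_add, hx, map_zero]
    · rw [← star_mul, ← star_one, ← star_add, ← star_add, hx, star_zero]
    · obtain ⟨x, rfl⟩ := (f.mem x).1 hx
      obtain ⟨y, rfl⟩ := (f.mem y).1 hy
      intro h7 h8
      exact (map_mul _ _ _).symm.trans ((congrArg _ (h4 x y (f.inj (by simpa only [_root_.map_add, _root_.map_mul, _root_.map_one, _root_.map_zero] using h7)) (f.inj (by simpa only [_root_.map_add, _root_.map_mul, _root_.map_one, _root_.map_zero] using h8)))).trans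
        (map_mul _ _ _))
    · simpa only [_root_.map_add, _root_.map_mul, _root_.map_one, _root_.map_zero] using congrArg f.ψ h5
  obtain ⟨s, s1, s2, s3⟩ := X.ssp K _ h hA j hj (by omega) (by omega)
  refine ⟨m.fac f T hB (by omega) (stab f T M hB s1), ⟨j, ha⟩, q3, (m.pb_Sp f k).1, (m.pb_Sp f k).2,
    m.rk f k.1 fun u v => by rw [Size.alt_swap k.2.1]; simp, fun h1 => ?_, ?_, fun h1 h2 => ?_, fun h1 h2 => ?_, fun h1 h2 => ?_⟩
  · obtain ⟨u, i, u1, u2⟩ := X.usp K _ h hA j hj (by omega) (by omega)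
    rw [hc, ← ha] at u1
    exact ⟨_, i, m.ge f T M hB u1, m.kr f u2⟩
  · rw [hc, ← ha, show j = a / 2 by omega] at s1
    exact ⟨_, m.ge f T M hB s1, m.se f s2 fun i i0 i1 e => s3 i i0 (by omega) (Units.ext e),
      fun h4 => m.se f s2 fun i i0 i1 e => s3 i i0 (by omega) (Units.ext e)⟩
  · obtain ⟨l, hl⟩ := (X.lw K _ h hA).1 (by omega) (hc ▸ h2) (by have := q3 h1; obtain ⟨r, hr⟩ := h2; omega)
    exact ⟨_, m.ge f T M hB (hc ▸ hl)⟩
  · obtain ⟨l, hl⟩ := (X.lw K _ h hA).2 (by omega) (by omega)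
    exact ⟨_, m.ge f T M hB hl⟩
  · have := m.nt
    obtain ⟨w, hw⟩ := exists_ne (0 : Fin a → K)
    obtain ⟨y, hy⟩ := h.exists_ne hw
    have h3 : h.b ((h.b y w)⁻¹ • y) w = 1 := by rw [h.smul_left, inv_mul_cancel₀ hy]
    generalize (h.b y w)⁻¹ • y = z at h3
    have h4 : LinearIndependent K ![w, z] := LinearIndependent.pair_iff.2 fun s t e => by
      have h5 := congrArg (h.b · w) e
      simp only [h.add_left, h.smul_left, k.2.1, h3, h.zero_left, mul_zero, zero_add, mul_one] at h5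
      rw [h5, zero_smul, add_zero] at e
      exact ⟨(smul_eq_zero.1 e).resolve_right hw, h5⟩
    let c := basisOfLinearIndependentOfCardEqFinrank h4 (by rw [Fintype.card_fin]; omega)
    have c0 : c 0 = w := congrFun (coe_basisOfLinearIndependentOfCardEqFinrank h4 _) 0
    have c1 : c 1 = z := congrFun (coe_basisOfLinearIndependentOfCardEqFinrank h4 _) 1
    have h5 : h.ro w w = Eu c 0 1 := c.ext fun i => by
      fin_cases i
      · simp only [Eu_apply, h.ro_apply, ← c0, k.2.1, _root_.Nat.succ_eq_add_one, _root_.Nat.reduceAdd, _root_.Fin.isValue, _root_.Fin.zero_eta, _root_.zero_smul, _root_.Module.Basis.repr_self, _root_.ne_eq, _root_.one_ne_zero, _root_.not_false_eq_true, _root_.Finsupp.single_eq_of_ne]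
      · simp only [Eu_apply, h.ro_apply, Fin.mk_one, c.repr_self, Finsupp.single_eq_same]
        rw [c0, c1, h3]
    have h6 : h.eb (h.ro w w) * h.eb (h.ro w w) = 0 := (h.ro_mul w w w w).trans (by rw [k.2.1, zero_smul]; rfl)
    have h7 : star (h.eb (h.ro w w)) = -h.eb (h.ro w w) := h.ap_ext fun v => by
      rw [ap_star_ro, k.1, Size.alt_swap k.2.1, neg_smul]
      rfl
    have h8 : sqU _ h6 ^ q = 1 := Units.ext ((one_add_pow h6 q).trans (h.ap_ext fun v => by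
      change v + (q : End K (Fin a → K)) _ = v
      rw [End.natCast_apply, ← Nat.cast_smul_eq_nsmul K, ← hc, FiniteField.cast_card_eq_zero, zero_smul, add_zero]))
    have h9 := sq_I0 f T M hB (sq_of_odd (u := sqU _ h6) (by
      change (1 + _) * star (1 + _) = 1
      rw [star_add, star_one, h7, ← sub_eq_add_neg]
      exact (sqU _ h6).val_inv) h2 h8)
    let ψ : End K (Fin a → K) →+* A := f.ψ
    exact ⟨_, _, (mu_Eu c).map ψ, fun i j => f.mem' _, (map_add ψ 1 _).trans (by rw [map_one, ← h5]; rfl), h9,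
      T.pt hB (f.mem' _) (F.comm_le_Iso h9).1, by rw [← map_pow, h8, map_one]⟩

theorem fo (X : Bx) {Q : QuadraticForm K (Fin a → K)} (k : IsO h F' Q) (h2 : (2 : K) ≠ 0) : FO F H 𝓑 B q a := by
  have hb : ∀ u v, h.b u v = h.b v u := fun u v => by rw [k.2.1, k.2.1, QuadraticMap.polar_comm]
  have hS : Sym h := ⟨k.1, hb, h2⟩
  have ha : finrank K (Fin a → K) = a := finrank_fin_fun K
  have h0 := m.pos
  have hq := m.two
  have hc := m.card
  have ho : Odd q := hc ▸ (two_ne_iff K).1 h2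
  have s1 : ∀ γ ∈ SAut A, ∀ x : A, star x = -x → star (γ x) = -γ x := fun γ hγ x hx => by rw [← hγ, hx, map_neg]
  have s2 : ∀ x, star (f.ψ x) = -f.ψ x ↔ star x = -x := fun x => by rw [← f.st, ← map_neg, f.inj.eq_iff]
  have a1 : a ≠ 1 := by
    rintro rfl
    refine T.d.t.not_le B hB fun x hx => ?_
    obtain ⟨y, rfl⟩ := (f.mem x).1 hx
    rw [show y = h.eb (h.ap y (Pi.basisFun K _ 0) 0 • 1) from (Pi.basisFun K (Fin 1)).ext fun i => _root_.funext fun j => by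
      rw [Subsingleton.elim i 0, Subsingleton.elim j 0]
      change h.ap y _ 0 = _ * (Pi.basisFun K (Fin 1) 0) 0
      simp]
    exact f.cen _ (h.smul_mem_center _)
  have a2 : a ≠ 2 := fun h3 => by
    obtain ⟨h4, x, h5, h6⟩ := (X.x K _ h).1 hS (by omega)
    refine h6 ((cen_iff f T hB).1 (T.cen_of (fun x => star x = -x) id s1 (fun _ _ => rfl)
      (fun _ _ hx => hx) (fun x hx => ⟨by rw [hx, star_neg, hx], rfl⟩) hB (fun x hx y hy => ?_) (f.mem' x) ((s2 x).2 h5)))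
    obtain ⟨x, rfl⟩ := (f.mem x).1 hx
    obtain ⟨y, rfl⟩ := (f.mem y).1 hy
    exact fun h7 h8 => (map_mul _ _ _).symm.trans ((congrArg _ (h4 x y ((s2 x).1 h7) ((s2 y).1 h8))).trans (map_mul _ _ _))
  have q5 : a = 3 → 5 ≤ q := fun h3 => by
    by_contra h1
    obtain ⟨h4, x, h5, h6, h7⟩ := (X.x K _ h).2.2 hS (by omega) (by obtain ⟨r, hr⟩ := ho; omega)
    have s3 : ∀ x, f.ψ x * f.ψ x * f.ψ x = -f.ψ x ↔ x * x * x = -x := fun x => by
      rw [← map_mul, ← map_mul, ← map_neg, f.inj.eq_iff]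
    refine h7 ((cen_iff f T hB).1 ((map_mul f.ψ x x).symm ▸ T.cen_of (fun x => star x = -x ∧ x * x * x = -x) (fun x => x * x)
      (fun γ hγ x hx => ⟨s1 γ hγ x hx.1, by rw [← map_mul, ← map_mul, hx.2, map_neg]⟩) (fun γ x => map_mul γ x x)
      (fun _ _ hx => mul_mem hx hx) (fun x hx => ⟨⟨by rw [hx.1, star_neg, hx.1], by
        rw [hx.1, neg_mul_neg, mul_neg, hx.2]⟩, star_mul x x⟩) hB (fun x hx y hy => ?_) (f.mem' x) ⟨(s2 x).2 h5, (s3 x).2 h6⟩))
    obtain ⟨x, rfl⟩ := (f.mem x).1 hx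
    obtain ⟨y, rfl⟩ := (f.mem y).1 hy
    intro h8 h9
    simpa only [map_mul] using congrArg f.ψ (h4 x y ((s2 x).1 h8.1) ((s2 y).1 h9.1) ((s3 x).1 h8.2) ((s3 y).1 h9.2))
  obtain ⟨⟨u, i, u1, u2⟩, u3⟩ := X.uo K _ h hS (by omega)
  obtain ⟨z, hz⟩ := (X.zo K _ h hS).1 (by omega)
  rw [hc, ha] at u1 u3
  rw [ha] at hz
  refine ⟨m.fac f T hB a1 (stab f T M hB hz), ho, by omega, q5, m.pb_O f k h2 a2, m.rk f k.1 fun u v => by rw [hb]; simp,
    ⟨_, i, m.ge f T M hB u1, m.kr f u2⟩, fun h3 => ?_, ⟨_, m.ge f T M hB hz⟩, fun h3 => ?_⟩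
  · obtain ⟨u, i, u1, u2⟩ := u3 (by rw [h3]; decide)
    exact ⟨_, i, m.ge f T M hB u1, m.kr f u2⟩
  · obtain ⟨z, N, z1, z2⟩ := (X.zo K _ h hS).2 (by omega) (hc ▸ q5 h3)
    exact ⟨_, N, hc ▸ z1, m.ge f T M hB z2⟩

end MD

variable (T : TC F H p 𝓑) (M : Amb F W q n) (hB : B ∈ 𝓑)
include T M hB

theorem TC.fac (X : Bx) : ∃ a, FSp F H 𝓑 B q a ∨ FO F H 𝓑 B q a := by
  obtain ⟨l, h1, h2⟩ := T.d.l B hB
  obtain ⟨K, _, _, a, h, F', f, m⟩ := exists_md (T.d.t.ss T.d.ss hB) (T.d.t.cen_le B hB) (fun _ => T.d.t.cen_blk hB) h1 h2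
    M.st M.cen
  exact ⟨a, m.kd.imp (m.fsp f T M hB X) fun ⟨_, k, h2⟩ => m.fo f T M hB X k h2⟩

theorem TC.cz : ∃ k, (∃ e, Ru (Cz B) k e) ∧ PB (Cz B) (2 * q ^ (k + 1).choose 2) ∧
    (Odd q → PB (Cz B) (q ^ (k + 1).choose 2)) ∧ (k ≤ 3 → PB (Cz B) (2 * q ^ 3)) := by
  obtain ⟨l, h1, h2, -⟩ := T.d.exists_l hB
  obtain ⟨K, _, _, a, h, F', f, m⟩ := exists_md (T.d.ss_Cz hB) (fun z hz y _ => cen_comm hz y) (fun _ => T.cen_Cz hB) h1 h2
    M.st M.cen
  exact ⟨a, m.ru f, m.pb f⟩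

end Cfsg.Agent.N2C.TenSO
end

-- part: N2/Cl/TenSO/Cases
section
/-!
# N2 (S3519), tensor decompositions of symplectic and orthogonal spaces: the cases (helper92)
-/

set_option autoImplicit false
set_option linter.unusedSectionVars false
set_option maxHeartbeats 400000

namespace Cfsg.Agent.N2C.TenSO

open Cfsg.Agent.DS.Cl Cfsg.Agent.DS.Cl.Fwd Cfsg.Agent.SB.Cl Module
open Cfsg.Agent.TH.Cl (TenD)
open Cfsg.Agent.TH.Cl.Ten (Cz)
open Cfsg.Agent.N2C.Cyc
open scoped Pointwise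

section num

/-- the generic inequality -/
def Nu (a b r d e : ℕ) : Prop :=
  3 * (d * r ^ 2 + a * b * r) + (e + b * r * (b * r) + b * r) + 2 * (a * b * r) + 10 ≤ a * b * r * (a * b * r)

/-- the second inequality -/
def Nu2 (a b r d e : ℕ) : Prop :=
  a * b * r < 32 ∧ 3 * (d * r ^ 2 + a * b * r) + (e + b * r * (b * r) + b * r) + a * b * r + 9 ≤ a * b * r * (a * b * r)

variable {a b r e : ℕ}

theorem nuA (he : e + a = a * a) (h : 4 ≤ a ∧ 4 ≤ b ∨ 4 ≤ a ∧ 2 ≤ b ∧ 2 ≤ r ∨ 5 ≤ a ∧ 2 ≤ b ∧ 1 ≤ r ∨ 7 ≤ a ∧ 2 ≤ b) :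
    Nu a b (r + 1) ((a + 2) * b) e := by
  unfold Nu
  rcases h with ⟨h1, h2⟩ | ⟨h1, h2, h3⟩ | ⟨h1, h2, h3⟩ | ⟨h1, h2⟩ <;> obtain ⟨a, rfl⟩ := Nat.exists_eq_add_of_le' h1 <;>
    obtain ⟨b, rfl⟩ := Nat.exists_eq_add_of_le' h2 <;> (try obtain ⟨r, rfl⟩ := Nat.exists_eq_add_of_le' h3) <;>
    ring_nf at he ⊢ <;> (clear * - he; solve | lia | omega)

theorem nuA3 (h : 4 ≤ b ∨ 2 ≤ b ∧ 2 ≤ r) : Nu 3 b (r + 1) (3 * b) 6 := by
  unfold Nu
  rcases h with h2 | ⟨h2, h3⟩ <;> obtain ⟨b, rfl⟩ := Nat.exists_eq_add_of_le' h2 <;>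
    (try obtain ⟨r, rfl⟩ := Nat.exists_eq_add_of_le' h3) <;> ring_nf <;> (clear * -; solve | lia | omega)

theorem nuB (he : e + a = a * a) (h : b + 2 ≤ a ∧ 3 ≤ b ∨ b + 3 ≤ a ∧ 2 ≤ b ∨ b + 2 ≤ a ∧ 2 ≤ b ∧ 1 ≤ r) :
    Nu a (b + 2) (r + 1) ((a + 2) * (b ^ 2 + 4)) e := by
  unfold Nu
  rcases h with ⟨h1, h2⟩ | ⟨h1, h2⟩ | ⟨h1, h2, h3⟩ <;> obtain ⟨a, rfl⟩ := Nat.exists_eq_add_of_le' h1 <;>
    obtain ⟨b, rfl⟩ := Nat.exists_eq_add_of_le' h2 <;> (try obtain ⟨r, rfl⟩ := Nat.exists_eq_add_of_le' h3) <;>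
    ring_nf at he ⊢ <;> omega

theorem nuB3 (he : e + a = a * a) (h : 5 ≤ a ∨ 4 ≤ a ∧ 1 ≤ r) : Nu a 3 (r + 1) ((a + 2) * 3) e := by
  unfold Nu
  rcases h with h2 | ⟨h2, h3⟩ <;> obtain ⟨b, rfl⟩ := Nat.exists_eq_add_of_le' h2 <;>
    (try obtain ⟨r, rfl⟩ := Nat.exists_eq_add_of_le' h3) <;> ring_nf at he ⊢ <;> (clear * - he; solve | lia | omega)

theorem nuB33 : Nu 3 3 (r + 1 + 1) (3 * 3) 6 := by
  unfold Nu
  ring_nf
  omega

theorem nuC (he : e + (a + 1) = (a + 1) * (a + 1))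
    (h : 4 ≤ a ∧ 4 ≤ b ∨ 2 ≤ a ∧ 8 ≤ b ∨ 2 ≤ a ∧ 6 ≤ b ∧ 1 ≤ r ∨ 2 ≤ a ∧ 4 ≤ b ∧ 2 ≤ r) : Nu a b (r + 1) (a * b) e := by
  unfold Nu
  rcases h with ⟨h1, h2⟩ | ⟨h1, h2⟩ | ⟨h1, h2, h3⟩ | ⟨h1, h2, h3⟩ <;> obtain ⟨a, rfl⟩ := Nat.exists_eq_add_of_le' h1 <;>
    obtain ⟨b, rfl⟩ := Nat.exists_eq_add_of_le' h2 <;> (try obtain ⟨r, rfl⟩ := Nat.exists_eq_add_of_le' h3) <;>
    ring_nf at he ⊢ <;> (clear * - he; solve | lia | omega)

theorem nuC2 : Nu 4 4 (r + 1) (4 * 6) 20 := by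
  unfold Nu
  ring_nf
  omega

theorem nuD : Nu 2 4 (r + 3 + 1) 12 6 := by
  unfold Nu
  ring_nf
  omega

theorem cop (q j : ℕ) {i : ℕ} (hi : 0 < i) : (q ^ j).Coprime (q ^ i + 1) := by
  obtain ⟨i, rfl⟩ := Nat.exists_eq_add_of_le' hi
  exact Nat.Coprime.pow_left j (by rw [pow_succ, Nat.coprime_mul_right_add_right]; exact Nat.coprime_one_right q)

theorem cop3 {q : ℕ} (j : ℕ) (h0 : 0 < q) (h : Even q) : (q ^ j * (q ^ (2 / 2) + 1)).Coprime (q - 1) := by
  obtain ⟨t, rfl⟩ := Nat.exists_eq_add_of_le' h0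
  rw [Nat.add_sub_cancel, pow_one, add_assoc]
  exact Nat.Coprime.mul_left (Nat.Coprime.pow_left j (by simp))
    (Nat.coprime_self_add_left.2 (Nat.coprime_two_left.2 (by simpa only [Nat.even_add_one, _root_.Nat.succ_eq_add_one, _root_.zero_add, _root_.Nat.not_even_iff_odd] using h)))

end num

variable {A : Type} [Ring A] [StarRing A] [Finite A] {F : FR A} {H : Subgroup (RingAut A)} {p : ℕ} {𝓑 : Set (Subring A)}
  {B B' X X' : Subring A} {q n a b : ℕ} {W : Type} [AddCommGroup W] [Module A W] [Finite W]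

/-- all the data -/
structure AD (F : FR A) (H : Subgroup (RingAut A)) (p : ℕ) (𝓑 : Set (Subring A)) (W : Type) [AddCommGroup W] [Module A W]
    (q n : ℕ) : Prop where
  T : TC F H p 𝓑
  M : Amb F W q n
  all : ∀ B ∈ 𝓑, ∃ a, Fac F H 𝓑 B q a

namespace AD

variable (D : AD F H p 𝓑 W q n)
include D

theorem pos : 0 < q := lt_of_lt_of_le two_pos D.M.two

theorem tle : 2 ^ 𝓑.ncard ≤ n := by
  obtain ⟨m, e, h1, h2⟩ := D.T.pow_le (μ := 2) fun B hB => by
    obtain ⟨a, f⟩ := D.all B hB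
    obtain ⟨e, he⟩ := f.ru
    exact ⟨a, e, f.two, he⟩
  exact h1.trans (Nat.le_of_dvd (by have := D.M.six; omega) (D.M.dvd _ _ _ h2))

theorem t_two (f : Fac F H 𝓑 B q a) (f' : Fac F H 𝓑 B' q b) (hne : B ≠ B') (hn : n = a * b) : 𝓑.ncard ≤ 2 := by
  refine (Set.ncard_le_ncard (t := {B, B'}) (fun X hX => ?_) (Set.toFinite _)).trans (Set.ncard_pair hne).le
  by_contra hc
  obtain ⟨h1, h2⟩ := not_or.1 hc
  obtain ⟨c, g⟩ := D.all X hX
  obtain ⟨e, he⟩ := f.ru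
  obtain ⟨e', he'⟩ := f'.ru
  obtain ⟨e'', he''⟩ := g.ru
  have h6 := D.M.six
  have h3 := Nat.le_of_dvd (by omega) (D.M.dvd _ _ _ ((he.mul he' (D.T.comm f.mem f'.mem hne) le_sup_left le_sup_right).mul he''
    (Cm.sup (D.T.comm f.mem hX (Ne.symm h1)) (D.T.comm f'.mem hX (Ne.symm h2))) le_top le_top))
  have h4 := Nat.mul_le_mul_left (a * b) g.two
  omega

theorem cz (f : Fac F H 𝓑 B q a) {k : ℕ} (hn : n = a * k) : PB (Cz B) (2 * q ^ (k + 1).choose 2) ∧
    (Odd q → PB (Cz B) (q ^ (k + 1).choose 2)) ∧ (k ≤ 3 → PB (Cz B) (2 * q ^ 3)) := by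
  obtain ⟨k', ⟨e', he'⟩, h1, h2, h3⟩ := D.T.cz D.M f.mem
  obtain ⟨e, he⟩ := f.ru
  have h6 := D.M.six
  have h4 := Nat.le_of_dvd (by omega) (D.M.dvd _ _ _ (he.mul he' (fun x hx y hy => hy x hx) le_top le_top))
  have h5 : k' ≤ k := Nat.le_of_mul_le_mul_left (hn ▸ h4) (by have := f.two; omega)
  have h7 := Nat.pow_le_pow_right D.pos (Nat.choose_le_choose 2 (Nat.succ_le_succ h5))
  exact ⟨h1.mono (Nat.mul_le_mul_left _ h7), fun h => (h2 h).mono h7, fun h => h3 (h5.trans h)⟩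

theorem X_le (hB : B ∈ 𝓑) {x y h h' t : ℕ} (k : PB B (x * q ^ h)) (k' : PB (Cz B) (y * q ^ h')) (ht : 𝓑.ncard ≤ t) :
    Nat.card ↥(H ⊓ F.S) ≤ t * (x * y) * q ^ (h + h') :=
  (D.T.card_le' hB k k').trans ((Nat.mul_le_mul_right _ ht).trans (le_of_eq (by ring)))

theorem X_all (k : ∀ B ∈ 𝓑, PB B (2 * q ^ 3)) {t : ℕ} (h0 : 0 < t) (ht : 𝓑.ncard ≤ t) :
    Nat.card ↥(H ⊓ F.S) ≤ t ^ t * 2 ^ t * q ^ (3 * t) := by
  have := D.pos
  refine (D.T.card_le_all k).trans ((Nat.mul_le_mul ((Nat.pow_le_pow_left ht _).trans (Nat.pow_le_pow_right h0 ht))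
    (Nat.pow_le_pow_right (by positivity) ht)).trans (le_of_eq ?_))
  rw [mul_pow, ← pow_mul, mul_assoc]

theorem gen (f : Fac F H 𝓑 B q a) {h N d r : ℕ} {g : Aˣ} (pb : PB B (2 * q ^ h)) (G : GE F 𝓑 X (a * b) N d g)
    (hr : n = a * b * r) (k : Nu a b r d (2 * h) ∨ 3 ≤ q ∧ Nu2 a b r d (2 * h)) : Gd F H := by
  have h1 := two_choose (b * r + 1)
  refine G.gd f.st (TenSO.gen D.M.two (D.M.cI_le G hr) (D.X_le f.mem pb (D.cz f (hr.trans (mul_assoc _ _ _))).1 le_rfl) D.tle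
    D.M.s32 ?_)
  have h2 : 2 * (h + (b * r + 1).choose 2) = 2 * h + b * r * (b * r) + b * r := by linarith only [h1]
  rw [h2, hr]
  exact k

theorem cay2 {u s : Aˣ} {j d d' N f μ κ r : ℕ} (β : ℕ) (U : GE F 𝓑 X a (q ^ j) d u) (kr : Kr X a κ (u : A))
    (S : GE F 𝓑 X' b N d' s) (E : SE (s : A) (q ^ f) μ) (hM : 3 ≤ μ) (hc : Cm X X') (k : (q ^ j).Coprime N)
    (hr : n = a * b * r) (hβ : n * κ < f * (β + 1) * a) : (μ - β) ^ 2 * cI F (u * s) ^ 2 ≤ μ ^ 2 * q ^ (d * d' * r ^ 2) :=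
  have h1 := hc _ U.mem _ S.mem
  D.M.cay (U.mul S hc k) hr β S.uni E hM (by rw [Units.val_mul, ← mul_assoc, ← h1]) h1 (U.both S hc k) U.pow' kr hβ

/-- an orthogonal and a symplectic factor -/
theorem caseA (f : FO F H 𝓑 B q a) (f' : FSp F H 𝓑 B' q b) (hne : B ≠ B') : Gd F H := by
  have hc := D.T.comm f.mem f'.mem hne
  obtain ⟨s, S, E, -⟩ := f'.S
  obtain ⟨k, hk⟩ := f'.ev
  have h2 := f'.two
  have h3 := f.three
  have hq : 3 ≤ q := by have := D.M.two; obtain ⟨_, _⟩ := f.odd; omega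
  have h4 := two_choose a
  have ht := D.tle
  have sp : n = a * b → q ^ (n + 1).choose 2 ≤ 3 * Nat.card F.S := fun hn => D.M.sp f.odd _ (hn ▸ f.rk.mul f'.rk hc)
  by_cases ha : a = 3
  · obtain ⟨u, j, U, kr⟩ := f.U3 ha
    subst ha
    have k := cop q j (show 0 < b / 2 by omega)
    obtain ⟨r, hr⟩ := D.M.exists_r (U.mul S hc k)
    by_cases h5 : 4 ≤ b ∨ 2 ≤ b ∧ 2 ≤ r
    · exact D.gen f.toFac f.pb (U.mul S hc k) hr (Or.inl (nuA3 h5))
    obtain rfl : b = 2 := by omega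
    have h6 := D.cay2 2 U kr S E le_rfl hc k hr (by omega)
    have h7 := D.X_le f.mem f.pb (D.cz f.toFac (hr.trans (mul_assoc _ _ _))).1 (le_of_two_pow (j := 3) ht (by omega))
    obtain rfl | rfl : r = 0 ∨ r = 1 := by omega
    · subst hr
      exact (U.mul S hc k).gd f.st (fin 5 _ _ _ 1 3 12 (f.q5 rfl) D.pos h6 h7 ((one_mul _).trans_le (sp rfl)) (by norm_num)
        (by decide) (by norm_num))
    · subst hr
      exact (U.mul S hc k).gd f.st (fin 3 _ _ _ 5 32 34 hq D.pos h6 h7 D.M.s32 (by norm_num) (by decide) (by norm_num))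
  obtain ⟨u, j, U, kr⟩ := f.U
  have k := cop q j (show 0 < b / 2 by omega)
  obtain ⟨r, hr⟩ := D.M.exists_r (U.mul S hc k)
  by_cases h5 : 4 ≤ a ∧ 4 ≤ b ∨ 4 ≤ a ∧ 2 ≤ b ∧ 2 ≤ r ∨ 5 ≤ a ∧ 2 ≤ b ∧ 1 ≤ r ∨ 7 ≤ a ∧ 2 ≤ b
  · exact D.gen f.toFac f.pb (U.mul S hc k) hr (Or.inl (nuA h4 h5))
  obtain rfl : b = 2 := by (clear * - hk h2 h3 ha h5; omega)
  by_cases h8 : a = 4 ∧ r = 1 ∨ a = 6 ∧ r = 0
  · refine D.gen f.toFac f.pb (U.mul S hc k) hr (Or.inr ⟨hq, ?_⟩)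
    rcases h8 with ⟨rfl, rfl⟩ | ⟨rfl, rfl⟩ <;> exact ⟨by decide, by decide⟩
  obtain rfl : r = 0 := by (clear * - h3 ha h5 h8; (solve | lia | omega))
  have h6 := D.cay2 2 U kr S E le_rfl hc k hr (by (clear * - h3 hr; omega))
  have h7 := D.X_le f.mem f.pb (D.cz f.toFac (hr.trans (mul_assoc _ _ _))).1 (le_of_two_pow (j := 3) ht (by (clear * - h3 h4 hr h5; omega)))
  obtain rfl | rfl : a = 4 ∨ a = 5 := by (clear * - h3 ha h5 h8; (solve | lia | omega))
  · subst hr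
    exact (U.mul S hc k).gd f.st (fin 3 _ _ _ 1 3 18 hq D.pos h6 h7 ((one_mul _).trans_le (sp rfl)) (by norm_num)
      (by decide) (by norm_num))
  · subst hr
    exact (U.mul S hc k).gd f.st (fin 3 _ _ _ 5 32 22 hq D.pos h6 h7 D.M.s32 (by norm_num) (by decide) (by norm_num))

/-- two orthogonal factors -/
theorem caseB (f : FO F H 𝓑 B q a) (f' : FO F H 𝓑 B' q b) (hne : B ≠ B') (hab : b ≤ a) : Gd F H := by
  have hc := D.T.comm f.mem f'.mem hne
  have h2 := f'.three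
  have hq : 3 ≤ q := by have := D.M.two; obtain ⟨_, _⟩ := f.odd; omega
  have h4 := two_choose a
  by_cases hb : b = 3
  · obtain ⟨z, N, z1, Z⟩ := f'.Z3 hb
    subst hb
    by_cases ha : a = 3
    · obtain ⟨u, j, U, -⟩ := f.U3 ha
      subst ha
      have G := U.mul Z hc (z1.symm.pow_left j)
      obtain ⟨r, hr⟩ := D.M.exists_r G
      rcases r with _ | r
      · have h6 := D.M.cI_le G hr
        have h7 := D.X_le f.mem f.pb ((D.cz f.toFac (hr.trans (mul_assoc _ _ _))).2.2 le_rfl)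
          (le_of_two_pow (j := 3) D.tle (by omega))
        subst hr
        exact G.gd f.st (fin 5 1 1 _ 5 32 6 (f.q5 rfl) D.pos (by rwa [one_mul, one_mul]) h7 D.M.s32 (by norm_num) (by decide)
          (by norm_num))
      · exact D.gen f.toFac f.pb G hr (Or.inl nuB33)
    obtain ⟨u, j, U, -⟩ := f.U
    have G := U.mul Z hc (z1.symm.pow_left j)
    obtain ⟨r, hr⟩ := D.M.exists_r G
    by_cases h5 : 5 ≤ a ∨ 4 ≤ a ∧ 1 ≤ r
    · exact D.gen f.toFac f.pb G hr (Or.inl (nuB3 h4 h5))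
    obtain ⟨rfl, rfl⟩ : a = 4 ∧ r = 0 := by (clear * - hab ha h5; omega)
    exact D.gen f.toFac f.pb G hr (Or.inr ⟨hq, by decide, by decide⟩)
  obtain ⟨z, Z⟩ := f'.Z
  obtain ⟨u, j, U, -⟩ := f.U
  have G := U.mul Z hc ((Nat.coprime_two_right.2 f.odd).pow_left j)
  obtain ⟨r, hr⟩ := D.M.exists_r G
  obtain ⟨b, rfl⟩ := Nat.exists_eq_add_of_le' (show 2 ≤ b by omega)
  by_cases h5 : b + 2 ≤ a ∧ 3 ≤ b ∨ b + 3 ≤ a ∧ 2 ≤ b ∨ b + 2 ≤ a ∧ 2 ≤ b ∧ 1 ≤ r
  · exact D.gen f.toFac f.pb G hr (Or.inl (nuB h4 h5))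
  obtain ⟨rfl, rfl, rfl⟩ : a = 4 ∧ b = 2 ∧ r = 0 := by (clear * - hab h2 hb h5; (solve | lia | omega))
  exact D.gen f.toFac f.pb G hr (Or.inr ⟨hq, by decide, by decide⟩)

/-- two symplectic factors -/
theorem caseC (f : FSp F H 𝓑 B q a) (f' : FSp F H 𝓑 B' q b) (hne : B ≠ B') (hU : 6 ≤ a ∨ 3 ≤ q) (hb : 4 ≤ b) : Gd F H := by
  have hc := D.T.comm f.mem f'.mem hne
  obtain ⟨s, S, -, E⟩ := f'.S
  obtain ⟨u, j, U, kr⟩ := f.U hU
  obtain ⟨k, hk⟩ := f.ev
  obtain ⟨k', hk'⟩ := f'.ev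
  have h2 := f.two
  have h4 := two_choose (a + 1)
  have k := cop q j (show 0 < b / 2 by omega)
  obtain ⟨r, hr⟩ := D.M.exists_r (U.mul S hc k)
  by_cases h5 : 4 ≤ a ∧ 4 ≤ b ∨ 2 ≤ a ∧ 8 ≤ b ∨ 2 ≤ a ∧ 6 ≤ b ∧ 1 ≤ r ∨ 2 ≤ a ∧ 4 ≤ b ∧ 2 ≤ r
  · exact D.gen f.toFac f.pb (U.mul S hc k) hr (Or.inl (nuC h4 h5))
  obtain rfl : a = 2 := by (clear * - hb hk h2 h5; omega)
  have hq := f.q3 rfl
  by_cases h8 : b = 4 ∧ r = 1 ∨ b = 6 ∧ r = 0
  · refine D.gen f.toFac f.pb (U.mul S hc k) hr (Or.inr ⟨hq, ?_⟩)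
    rcases h8 with ⟨rfl, rfl⟩ | ⟨rfl, rfl⟩ <;> exact ⟨by decide, by decide⟩
  obtain ⟨rfl, rfl⟩ : b = 4 ∧ r = 0 := by omega
  have h6 := D.cay2 1 U kr S (E le_rfl) (by norm_num) hc k hr (by omega)
  have h7 := D.t_two f.toFac f'.toFac hne hr
  have h9 := D.cz f.toFac (hr.trans (mul_assoc _ _ _))
  subst hr
  rcases Nat.even_or_odd q with h | h
  · exact (U.mul S hc k).gd f.st (fin 3 _ _ _ 5 8 6 hq D.pos h6 (D.X_le f.mem f.pb h9.1 h7) (D.M.s8 h) (by norm_num)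
      (by decide) (by norm_num))
  · exact (U.mul S hc k).gd f.st (fin 3 _ _ _ 5 32 6 hq D.pos h6 (D.X_le f.mem (x := 1) (y := 1) ((f.pbo h).mono (one_mul _).ge)
      ((h9.2.1 h).mono (one_mul _).ge) h7) D.M.s32 (by norm_num) (by decide) (by norm_num))

theorem caseC2 (f : FSp F H 𝓑 B q 4) (f' : FSp F H 𝓑 B' q 4) (hne : B ≠ B') (hq : q = 2) : Gd F H := by
  obtain ⟨s, S, -⟩ := f.S
  obtain ⟨w, hw⟩ := f'.W rfl hq
  have G := S.mul hw (D.T.comm f.mem f'.mem hne) (by rw [hq]; decide)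
  obtain ⟨r, hr⟩ := D.M.exists_r G
  exact D.gen f.toFac f.pb G hr (Or.inl nuC2)

/-- all factors have dimension two -/
theorem caseD (h : ∀ B ∈ 𝓑, FSp F H 𝓑 B q 2) : Gd F H := by
  obtain ⟨B₁, h1, B₂, h2, n12⟩ := D.T.d.t.two
  have h6 := D.M.six
  obtain ⟨B₃, h3, n31, n32⟩ : ∃ B₃ ∈ 𝓑, B₃ ≠ B₁ ∧ B₃ ≠ B₂ := by
    by_contra hc
    have h4 := (h B₁ h1).third B₂ h2 n12.symm fun X hX => by
      by_contra h4
      exact hc ⟨X, hX, not_or.1 h4⟩
    rw [D.M.cardA, (h B₂ h2).card, ← pow_mul, Nat.pow_le_pow_iff_right D.M.two] at h4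
    nlinarith
  have hq := (h B₁ h1).q3 rfl
  have st := (h B₁ h1).st
  have pb : ∀ B ∈ 𝓑, PB B (2 * q ^ 3) := fun B hB => (h B hB).pb
  have c12 := D.T.comm h1 h2 n12
  have c13 := D.T.comm h1 h3 n31.symm
  have c32 := D.T.comm h3 h2 n32
  have big : ∀ {X N g}, GE F 𝓑 X (2 * 4) N 12 g → n ≠ 8 → Gd F H := fun G h8 => by
    obtain ⟨r, hr⟩ := D.M.exists_r G
    by_cases h9 : 3 ≤ r
    · obtain ⟨r, rfl⟩ := Nat.exists_eq_add_of_le' h9
      exact D.gen (h B₁ h1).toFac (pb _ h1) G hr (Or.inl nuD)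
    have h4 := D.M.cI_le G hr
    have h5 := D.X_all pb four_pos (le_of_two_pow D.tle (by omega))
    obtain rfl | rfl : r = 1 ∨ r = 2 := by omega
    all_goals
      subst hr
      exact G.gd st (fin 3 1 1 _ 5 32 24 hq D.pos (by rwa [one_mul, one_mul]) h5 D.M.s32 (by norm_num) (by decide) (by norm_num))
  obtain ⟨s, S, E, -⟩ := (h B₂ h2).S
  rcases Nat.even_or_odd q with ho | ho
  · obtain ⟨u, j, U, kr⟩ := (h B₁ h1).U (Or.inr hq)
    obtain ⟨l, L⟩ := (h B₃ h3).L rfl ho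
    have k := cop q j (show 0 < 2 / 2 by norm_num)
    have c := Cm.sup c13 (D.T.comm h2 h3 n32.symm)
    have G := (U.mul S c12 k).mul L c (cop3 j D.pos ho)
    by_cases h8 : n = 8
    swap
    · exact big (G.mono (by norm_num)) h8
    have h4 := c12 _ U.mem _ S.mem
    have h5 := D.M.cay G (r := 1) h8 2 S.uni E le_rfl (by
      rw [Units.val_mul, Units.val_mul, ← mul_assoc, ← mul_assoc, ← h4, mul_assoc _ (l : A), c32 _ L.mem _ S.mem, ← mul_assoc]) h4
      (fun x hx => U.both S c12 k x ((U.mul S c12 k).both L c (cop3 j D.pos ho) x hx).1) U.pow' kr (by omega)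
    have h7 := D.X_all pb three_pos (le_of_two_pow D.tle (by omega))
    subst h8
    exact G.gd st (fin 4 _ _ _ 5 8 14 (by obtain ⟨_, _⟩ := ho; omega) D.pos h5 h7 (D.M.s8 ho) (by norm_num) (by decide)
      (by norm_num))
  · obtain ⟨u, E₁, a1, a2, a3, a4, a5, a6⟩ := (h B₁ h1).P rfl ho
    obtain ⟨v, E₃, b1, b2, b3, b4, b5, b6⟩ := (h B₃ h3).P rfl ho
    obtain ⟨cd, kr⟩ := pair a1 b1 a2 b2 c13 (D.M.tu ho)
    rw [← a3, ← b3] at cd kr
    have m1 : (u : A) ∈ B₁ := a3 ▸ add_mem (one_mem _) (a2 _ _)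
    have m3 : (v : A) ∈ B₃ := b3 ▸ add_mem (one_mem _) (b2 _ _)
    have U : GE F 𝓑 (B₁ ⊔ B₃) 4 (q ^ 1) 6 (u * v) :=
      ⟨mul_mem (le_sup_left (a := B₁) m1) (le_sup_right (b := B₃) m3), mul_mem a4 b4, by rw [map_mul]; exact mul_mem a5 b5,
        by rw [pow_one, (show Commute u v from Units.ext (c13 _ m1 _ m3)).mul_pow, a6, b6, mul_one], cd⟩
    have k := cop q 1 (show 0 < 2 / 2 by norm_num)
    have c := Cm.sup c12 c32
    by_cases h8 : n = 8
    swap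
    · exact big (U.mul S c k) h8
    have h5 := D.cay2 (r := 1) 2 U kr S E le_rfl c k h8 (by omega)
    have h7 := D.X_all pb three_pos (le_of_two_pow D.tle (by omega))
    subst h8
    exact (U.mul S c k).gd st (fin 3 _ _ _ 1 3 18 hq D.pos h5 h7 ((one_mul _).trans_le (D.M.sp ho _
      (((h B₁ h1).rk.mul (h B₃ h3).rk c13).mul (h B₂ h2).rk c))) (by norm_num) (by decide) (by norm_num))

end AD

/-- **tensor decompositions** -/
theorem core (X : Bx) (c : Ctx F H p) (h : TenD H) (M : Amb F W q n) : Gd F H := by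
  obtain ⟨𝓑, T⟩ := exists_tc c h
  have k : ∀ B ∈ 𝓑, ∃ a, FSp F H 𝓑 B q a ∨ FO F H 𝓑 B q a := fun B hB => T.fac M hB X
  have D : AD F H p 𝓑 W q n := ⟨T, M, fun B hB => (k B hB).imp fun _ f => f.elim (·.toFac) (·.toFac)⟩
  by_cases hO : ∃ B a, FO F H 𝓑 B q a
  · obtain ⟨B, a, f⟩ := hO
    obtain ⟨B', hB', hne⟩ := T.d.t.exists_ne f.mem
    obtain ⟨b, f' | f'⟩ := k B' hB'
    · exact D.caseA f f' hne.symm
    rcases le_total a b with h | h
    · exact D.caseB f' f hne h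
    · exact D.caseB f f' hne.symm h
  replace k : ∀ B ∈ 𝓑, ∃ a, FSp F H 𝓑 B q a := fun B hB => (k B hB).imp fun a f => f.resolve_right fun f => hO ⟨B, a, f⟩
  by_cases h2 : ∀ B ∈ 𝓑, FSp F H 𝓑 B q 2
  · exact D.caseD h2
  push Not at h2
  obtain ⟨B, hB, h2⟩ := h2
  obtain ⟨a, f⟩ := k B hB
  obtain ⟨B', hB', hne⟩ := T.d.t.exists_ne hB
  obtain ⟨b, f'⟩ := k B' hB'
  obtain ⟨i, hi⟩ := f.ev
  obtain ⟨j, hj⟩ := f'.ev
  have h3 := f.two
  have h4 : a ≠ 2 := fun e => h2 (e ▸ f)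
  by_cases h5 : 6 ≤ b ∨ 3 ≤ q
  · exact D.caseC f' f hne h5 (by omega)
  have h6 := f'.two
  have h7 := f'.q3
  have h8 := M.two
  by_cases h9 : 6 ≤ a
  · exact D.caseC f f' hne.symm (Or.inl h9) (by omega)
  obtain ⟨rfl, rfl⟩ : a = 4 ∧ b = 4 := by (clear * - hi hj h3 h4 h5 h6 h7 h9; omega)
  exact D.caseC2 f f' hne.symm (by omega)

theorem tenSp_of (X : Bx) : OnSp 3 pTen := fun _ V _ _ _ _ _ h _ _ _ _ k h3 c t =>
  @core _ _ _ _ _ _ _ _ _ V _ (modE h) _ X c t (amb_Sp k h3)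

theorem tenO_of (X : Bx) : OnO pTen := fun _ V _ _ _ _ _ h _ _ _ _ k c t =>
  @core _ _ _ _ _ _ _ _ _ V _ (modE h) _ X c t (amb_O k)

end Cfsg.Agent.N2C.TenSO
end

-- part: N2/Cl/TenSO/EltU
section
/-!
# N2 (S3519), tensor decompositions: regular unipotent elements of a factor (helper89)
-/

set_option autoImplicit false
set_option linter.unusedSectionVars false
set_option maxHeartbeats 400000

namespace Cfsg.Agent.N2C.TenSO.EU

open Cfsg.Agent.DS.Cl Cfsg.Agent.DS.Cl.Fwd Module Submodule Polynomial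
open Cfsg.Agent.SB.Cl (IsSp)
open Cfsg.Agent.TH.Cl (ap_eich eich_form IsSp.swap)
open Cfsg.Agent.N2.C1 hiding rg_step exists_rg
open Cfsg.Agent.N2C.Cyc
open Cfsg.Agent.N2C.Sub (EI rg_step)
open Cfsg.Agent.LieClassical
open scoped Matrix

variable {K V : Type} [Field K] [Fintype K] [AddCommGroup V] [Module K V] [Finite V] {h : HF K V} {F : FR h.EB}
  {Y : Submodule K V} {u : h.EBˣ}

theorem exists_sp (hA : Alt h) : ∃ F : FR h.EB, IsSp h F := by
  have : Module.Finite K V := Module.Finite.of_finite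
  let B : LinearMap.BilinForm K V := LinearMap.mk₂ K h.b h.add_left h.smul_left h.add_right fun c u v => by
    rw [h.smul_right, hA.1, smul_eq_mul]
  have hB : B.IsAlt := hA.2
  obtain ⟨m, l, c, c1, c2, c3, c4⟩ := Cfsg.Agent.S0752.result B hB
  let P : V →ₗ[K] V := c.constr K (Sum.elim (Sum.elim (fun i => c (.inl (.inl i))) 0) 0)
  have a2 : B.compLeft P + B.compRight P = B := LinearMap.ext_basis c c (by
    have c5 : ∀ j v, B v (c (.inr j)) = 0 := fun j v => by rw [← hB.neg_eq, c4, neg_zero]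
    rintro ((i | i) | i) ((j | j) | j) <;> simp only [P, c2, c3, c4, c5, _root_.LinearMap.add_apply, _root_.LinearMap.BilinForm.compLeft_apply, _root_.Module.Basis.constr_apply_fintype, _root_.Module.Basis.equivFun_self, _root_.ite_smul, _root_.one_smul, _root_.zero_smul, _root_.Finset.sum_ite_eq, _root_.Finset.mem_univ, ↓ _root_.reduceIte, _root_.Sum.elim_inl, _root_.LinearMap.BilinForm.compRight_apply, _root_.add_zero, _root_.Sum.elim_inr, _root_.Pi.zero_apply, _root_.map_zero, _root_.LinearMap.zero_apply, _root_.zero_add])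
  refine ⟨⟨h.eb P, Lmax _, h.ap_ext fun y => h.ext_right fun x => ?_, Or.inr rfl⟩, hA.1, hA.2, rfl⟩
  rw [h.ap_add, h.add_right, h.b_star, add_comm]
  exact LinearMap.congr_fun₂ a2 x y

theorem mem_comm_sp (k : IsSp h F) {j : ℕ} (hd : finrank K V = 2 * j) (hj : 3 ≤ j ∨ 4 ≤ Fintype.card K) {u : h.EBˣ}
    (hu : u ∈ F.Iso) : u ∈ (⁅F.Iso, F.Iso⁆ : Subgroup _) := by
  have : Module.Finite K V := Module.Finite.of_finite
  let B : LinearMap.BilinForm K V := LinearMap.mk₂ K h.b h.add_left h.smul_left h.add_right fun c u v => by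
    rw [h.smul_right, k.1, smul_eq_mul]
  obtain ⟨e, he⟩ := ClassicalGeometry.SympIso.exists_linearEquiv_sympForm B k.2.1
    (fun v hv => h.nondeg v fun w => by rw [h.swap v w, show h.b v w = 0 from hv w, map_zero, mul_zero]) hd
  let ψ : Matrix (Fin j ⊕ Fin j) (Fin j ⊕ Fin j) K →* h.EB :=
    { toFun := fun M => h.eb (e.toLinearMap ∘ₗ Matrix.toLin' M ∘ₗ e.symm.toLinearMap)
      map_one' := h.ap_ext fun v => by simp [h.ap_eb, h.ap_one]
      map_mul' := fun M N => h.ap_ext fun v => by simp [h.ap_eb, h.ap_mul] }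
  have h2 : ∀ M v, h.ap (ψ M) (e v) = e (M *ᵥ v) := fun M v => by
    change e (M *ᵥ e.symm (e v)) = _
    rw [e.symm_apply_apply]
  let φ : Matrix.symplecticGroup (Fin j) K →* h.EBˣ := (ψ.comp (Matrix.symplecticGroup (Fin j) K).subtype).toHomUnits
  have hle : φ.range ≤ F.Iso := by
    rintro _ ⟨M, rfl⟩
    refine mem_Iso_max k.2.2 ((h.unit_iff _).2 fun x y => ?_)
    obtain ⟨x, rfl⟩ := e.surjective x
    obtain ⟨y, rfl⟩ := e.surjective y
    exact (congrArg₂ _ (h2 _ x) (h2 _ y)).trans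
      ((he _ _).trans ((ClassicalGeometry.SympBasic.sympForm_mulVec M.2 x y).trans (he x y).symm))
  refine Subgroup.commutator_mono hle hle ?_
  rw [comm_range, SympPerfect.commutator_eq_top (hj.imp_right Or.inr), ← MonoidHom.range_eq_map]
  have h3 : ∀ v, LinearMap.toMatrix' (e.symm.toLinearMap ∘ₗ h.ap u ∘ₗ e.toLinearMap) *ᵥ v = e.symm (h.ap u (e v)) :=
    fun v => LinearMap.toMatrix'_mulVec _ v
  refine ⟨⟨LinearMap.toMatrix' (e.symm.toLinearMap ∘ₗ h.ap u ∘ₗ e.toLinearMap),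
    ClassicalGeometry.SympBasic.mem_symplecticGroup_iff.2 fun x y => ?_⟩, Units.ext (h.ap_ext fun v => ?_)⟩
  · rw [h3, h3, ← he, ← he, e.apply_symm_apply, e.apply_symm_apply]
    exact (h.unit_iff u).1 hu.1 _ _
  · obtain ⟨v, rfl⟩ := e.surjective v
    exact (h2 _ v).trans ((congrArg e (h3 v)).trans (e.apply_symm_apply _))

theorem exists_rg {s : K} (hs : s ≠ 0)
    (hS : ∀ Y, ND h Y → 3 ≤ finrank K Y → ∃ e ∈ Y, e ≠ 0 ∧ h.b e e = 0 ∧ ∀ t, h.b t e = 0 → ∃ c, EI h F e t s c)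
    {m : ℕ} (hm : 1 ≤ m) (base : ∀ Y, ND h Y → finrank K Y = m → ∃ u ∈ F.Iso, Rg h u Y) (i : ℕ) :
    ∀ Y, ND h Y → finrank K Y = m + 2 * i → ∃ u ∈ F.Iso, Rg h u Y := by
  induction i with
  | zero => exact base
  | succ i ih =>
    intro Y n d
    obtain ⟨e, he, h0, hee, hE⟩ := hS Y n (by omega)
    obtain ⟨f, hf, hfe⟩ := n.partner he h0 1
    have m' := nd_two hee (hfe ▸ one_ne_zero)
    have hle : span K {e, f} ≤ Y := span_le.2 (by rintro _ (rfl | rfl) <;> assumption)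
    have d' := m'.rel_dim hle
    rw [dim_two hee (hfe ▸ one_ne_zero)] at d'
    obtain ⟨u, hu, r⟩ := ih _ (n.rel_nd m' hle) (by omega)
    obtain ⟨y, hy, r'⟩ := rg_step n he hf hee hfe hu r (fun e => by rw [e, finrank_bot] at d'; omega) hs hE
    exact ⟨_, mul_mem hy hu, r'⟩

theorem rg_sp (hS : IsSp h F) {k : ℕ} (hd : finrank K V = 2 * k) (h0 : 1 ≤ k) : ∃ u ∈ F.Iso, Rg h u ⊤ := by
  have x : ∀ e t c, h.b t e = 0 → EI h F e t (-1) c := fun e t c ht =>
    ⟨SB.Tor.isoU h _ (eich_form (fun u v => by rw [hS.1, IsSp.swap hS, neg_one_mul]) (by ring) (hS.1 _)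
      (hS.2.1 e) ht (by rw [hS.1, hS.2.1]; ring)), mem_Iso_max hS.2.2 (SB.Tor.isoU_ms _ _ _), ap_eich e t (-1) c⟩
  refine exists_rg (neg_ne_zero.2 one_ne_zero) (fun Y n d => ?_) (m := 2) (by omega) (fun Y n d => ?_) (k - 1) ⊤ nd_top
    (by rw [finrank_top]; omega) <;> obtain ⟨e, he, h0⟩ := exists_mem_ne (X := Y) (by omega)
  · exact ⟨e, he, h0, hS.2.1 e, fun t ht => ⟨0, x e t 0 ht⟩⟩
  · exact (x e 0 1 (h.zero_left e)).rg n d one_ne_zero he h0 (hS.2.1 e)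

theorem rg_o (hS : Sym h) (n : ND h Y) (ho : Odd (finrank K Y)) : ∃ u : h.EBˣ, (u : h.EB) * star (u : h.EB) = 1 ∧ Rg h u Y := by
  have : Module.Finite K V := Module.Finite.of_finite
  let F : FR h.EB := ⟨h.eb ((2 : K)⁻¹ • 1), Lmax _, by
    rw [Size.star_scal, hS.1, Size.scal_add, ← two_mul, mul_inv_cancel₀ hS.2.2, Size.scal_one], Or.inr rfl⟩
  let B : LinearMap.BilinForm K V := LinearMap.mk₂ K h.b h.add_left h.smul_left h.add_right fun c u v => by
    rw [h.smul_right, hS.1, smul_eq_mul]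
  obtain ⟨i, hi⟩ := ho
  obtain ⟨u, hu, r⟩ := exists_rg (F := F) one_ne_zero (fun Y n d => by
    obtain ⟨e, h0, h1⟩ := ClassicalGeometry.SiegelGen.exists_singular hS.2.2 (B.toQuadraticMap.comp Y.subtype) d
    exact ⟨e, e.2, fun k => h0 (Subtype.ext k), h1, fun t ht => ⟨h.b t t / 2, SB.Tor.isoU h _ (eich_form (fun u v => by
      rw [one_mul, hS.1, hS.2.1]) (one_mul 1) (map_one _) h1 ht (by rw [hS.1, one_mul]; field_simp [hS.2.2]; ring)),
      mem_Iso_max rfl (SB.Tor.isoU_ms _ _ _), ap_eich _ t 1 _⟩⟩) le_rfl (fun Y' _ d => ⟨1, one_mem _, rg_one d⟩) i Y n (by omega)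
  exact ⟨u, hu.1, r⟩

theorem cyc_of_sb {T : End K V} (r : Sb T Y) : ∃ v, Y ≤ orb T v := by
  have : Module.Finite K V := Module.Finite.of_finite
  rcases Nat.eq_zero_or_pos (finrank K Y) with h0 | h0
  · exact ⟨0, (finrank_eq_zero.1 h0).le.trans bot_le⟩
  obtain ⟨v, hv, h1⟩ : ∃ v ∈ Y, (T ^ (finrank K Y - 1)) v ≠ 0 := by
    by_contra k
    push Not at k
    have h1 := r.ker_pow (finrank K Y - 1)
    rw [inf_eq_right.2 k] at h1
    omega
  refine ⟨v, (eq_of_le_of_finrank_le (inf_le_right (a := orb T v)) ?_).ge.trans inf_le_left⟩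
  by_contra k
  exact h1 ((r.nl.mono inf_le_right).fin (Iv.inf (fun _ => map_mem_orb) r.iv) (by omega) ⟨self_mem_orb T v, hv⟩)

theorem pow_card [Nontrivial V] {N : ℕ} (hN : ((u : h.EB) - 1) ^ N = 0) : u ^ Fintype.card K ^ N = 1 := by
  have : Nontrivial h.EB := inferInstanceAs (Nontrivial (End K V))
  have hp : Fact (ringChar K).Prime := ⟨CharP.char_is_prime K _⟩
  have : CharP h.EB (ringChar K) := charP_of_injective_algebraMap (algebraMap K (End K V)).injective _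
  obtain ⟨f, -, hf⟩ := FiniteField.card K (ringChar K)
  have h1 := sub_pow_char_pow_of_commute (ringChar K) (f * N) (Commute.one_right (u : h.EB))
  rw [pow_mul, ← hf, pow_eq_zero_of_le (Nat.lt_pow_self Fintype.one_lt_card).le hN, one_pow, eq_comm, sub_eq_zero] at h1
  exact Units.ext ((Units.val_pow_eq_pow_val _ _).trans h1)

/-- the element for a subspace of codimension at most one -/
theorem el_of (r : Rg h u Y) (h2 : 2 ≤ finrank K Y) {w : V} (hw : h.ap u w = w) (hY : ∀ z, ∃ y ∈ Y, ∃ a : K, z = y + a • w) :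
    (∃ j, u ^ Fintype.card K ^ j = 1) ∧ (u : h.EB) ∉ Subring.center h.EB ∧ Fx h u 2 ∧
      cA (u : h.EB) ≤ Fintype.card K ^ (finrank K V + 2) ∧ (w = 0 → Fx h u 1 ∧ cA (u : h.EB) ≤ Fintype.card K ^ finrank K V) := by
  have : Module.Finite K V := Module.Finite.of_finite
  have := nontrivial_of_dim (K := K) (V := V) (by have := Y.finrank_le; omega)
  have h3 : (h.ap u - 1) w = 0 := sub_eq_zero.2 hw
  have h4 : ((u : h.EB) - 1) ^ finrank K Y = 0 := h.ap_ext fun z => by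
    obtain ⟨y, hy, a, rfl⟩ := hY z
    change ((h.ap u - 1) ^ finrank K Y) _ = 0
    rw [map_add, map_smul, r.sb.nl.fin r.sb.iv le_rfl hy, ← Nat.sub_add_cancel (show 1 ≤ finrank K Y by omega), pow_succ,
      End.mul_apply, h3, map_zero, smul_zero, add_zero]
  have h5 := r.sb.card_ker 1
  rw [pow_one, pow_one, Nat.card_eq_fintype_card (α := K)] at h5
  have h6 : Fx h u 2 := by
    refine (Nat.card_le_card_of_surjective (fun z : ↥(LinearMap.ker (h.ap u - 1) ⊓ Y) × K => ⟨z.1.1 + z.2 • w, by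
      rw [map_add, map_smul, hw, show h.ap u z.1.1 = z.1.1 from sub_eq_zero.1 z.1.2.1]⟩) fun z => ?_).trans ?_
    · obtain ⟨y, hy, a, k⟩ := hY z.1
      have h6 := z.2
      rw [k, map_add, map_smul, hw, add_left_inj] at h6
      exact ⟨(⟨y, sub_eq_zero.2 h6, hy⟩, a), Subtype.ext k.symm⟩
    · rw [Nat.card_prod, Nat.card_eq_fintype_card (α := K), pow_two]
      exact Nat.mul_le_mul_right _ h5
  obtain ⟨v, hv⟩ := cyc_of_sb r.sb
  have h7 : ∀ x x' : {x : h.EB // x * u = u * x}, h.ap x.1 v = h.ap x'.1 v → h.ap x.1 w = h.ap x'.1 w → x = x' :=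
    fun x x' k k' => Subtype.ext (h.ap_ext fun z => by
      obtain ⟨y, hy, a, rfl⟩ := hY z
      obtain ⟨f, rfl⟩ := hv hy
      have c : ∀ x : {x : h.EB // x * u = u * x}, h.ap x.1 (aeval (h.ap u - 1) f v) = aeval (h.ap u - 1) f (h.ap x.1 v) :=
        fun x => LinearMap.congr_fun (aeval_comm (x := h.ap x.1) (by
          rw [mul_sub, sub_mul, mul_one, one_mul]
          exact congrArg (· - _) x.2) f) v
      rw [map_add, map_add, map_smul, map_smul, c, c, k, k'])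
  refine ⟨⟨_, pow_card h4⟩, fun k => ?_, h6, ?_, ?_⟩
  · have h8 := r.sb.ker
    rw [show h.ap u - 1 = 0 from Sub.cen_nil h.ss (sub_mem k (one_mem _)) ⟨_, h4⟩, LinearMap.ker_zero, top_inf_eq] at h8
    omega
  · refine (Nat.card_le_card_of_injective (fun x => ((h.ap x.1 v, ⟨h.ap x.1 w, by
      rw [← h.ap_mul, ← x.2, h.ap_mul, hw]⟩) : V × {v : V // h.ap u v = v})) fun x x' k =>
      h7 x x' (congrArg Prod.fst k) (congrArg (·.2.1) k)).trans ?_
    rw [Nat.card_prod, card_V K V, pow_add]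
    exact Nat.mul_le_mul_left _ h6
  · rintro rfl
    have hz : ∀ z, z ∈ Y := fun z => by
      obtain ⟨y, hy, a, k⟩ := hY z
      rwa [k, smul_zero, add_zero]
    exact ⟨le_trans (Nat.card_le_card_of_injective (fun z : {v : V // h.ap u v = v} =>
      (⟨z.1, sub_eq_zero.2 z.2, hz _⟩ : ↥(LinearMap.ker (h.ap u - 1) ⊓ Y))) fun _ _ k =>
      Subtype.ext (congrArg (·.1) k)) (h5.trans_eq (pow_one _).symm),
      (Nat.card_le_card_of_injective _ fun x x' k => h7 x x' k (by rw [map_zero, map_zero])).trans_eq (card_V K V)⟩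

theorem odd_card (h2 : (2 : K) ≠ 0) : Odd (Fintype.card K) :=
  Nat.odd_iff.2 (FiniteField.odd_card_of_char_ne_two fun k => h2 (by exact_mod_cast (ringChar.spec K 2).2 k.dvd))

end EU

open EU Module Submodule Cfsg.Agent.N2.C1

attribute [-instance] instNoNatZeroDivisorsOfIsAddTorsionFree instIsCharPOfIsLeftCancelAddOfCharP in
theorem boxUSp : BoxUSp := fun K V _ _ _ _ _ h hA k hd h1 h2 => by
  obtain ⟨F, hS⟩ := exists_sp hA
  obtain ⟨u, hu, r⟩ := rg_sp hS hd h1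
  obtain ⟨⟨j, h3⟩, h4, -, -, h5⟩ := el_of r (by rw [finrank_top]; omega) (map_zero _) fun z => ⟨z, trivial, 0, by simp⟩
  refine ⟨u, j, ⟨?_, h3, h4, hd ▸ (h5 rfl).2⟩, (h5 rfl).1⟩
  rcases (Fintype.card K).even_or_odd with h6 | h6
  · exact sq_of_comm (mem_comm_sp hS hd (by (clear * - h2 h6; grind)) hu)
  · exact sq_of_odd hu.1 h6.pow h3

attribute [-instance] instNoNatZeroDivisorsOfIsAddTorsionFree instIsCharPOfIsLeftCancelAddOfCharP in
theorem boxUO : BoxUO := fun K V _ _ _ _ _ h hS h3 => by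
  have : Module.Finite K V := Module.Finite.of_finite
  have k : Odd (finrank K V) → ∃ u j, (El h u (Fintype.card K ^ j) (finrank K V + 2) ∧ Fx h u 2) ∧
      El h u (Fintype.card K ^ j) (finrank K V) ∧ Fx h u 1 := fun ho => by
    obtain ⟨u, hu, r⟩ := rg_o hS nd_top (by rwa [finrank_top])
    obtain ⟨⟨j, h1⟩, h4, h5, h6, h7⟩ := el_of r (by rw [finrank_top]; omega) (map_zero _) fun z => ⟨z, trivial, 0, by simp⟩
    have h8 := sq_of_odd hu (odd_card hS.2.2).pow h1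
    exact ⟨u, j, ⟨⟨h8, h1, h4, h6⟩, h5⟩, ⟨h8, h1, h4, (h7 rfl).2⟩, (h7 rfl).1⟩
  refine ⟨(finrank K V).even_or_odd.elim (fun he => ?_) fun ho => (k ho).imp fun _ => .imp fun _ => And.left,
    fun ho => (k ho).imp fun _ => .imp fun _ => And.right⟩
  obtain ⟨w, hw⟩ : ∃ w, h.b w w ≠ 0 := by
    by_contra c
    push Not at c
    obtain ⟨x, -, hx⟩ := exists_mem_ne (X := (⊤ : Submodule K V)) (by rw [finrank_top]; omega)
    obtain ⟨y, hy⟩ := h.exists_ne hx
    have h1 := c (x + y)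
    rw [h.add_left, h.add_right, h.add_right, c, c, hS.2.1 x y] at h1
    exact mul_ne_zero hS.2.2 hy (by linear_combination h1)
  have n := nd_one hw
  have d := n.dim
  rw [finrank_span_singleton (ne_of_b hw)] at d
  obtain ⟨u, hu, r⟩ := rg_o hS n.perp (by (clear * - he d; grind))
  obtain ⟨⟨j, h1⟩, h4, h5, h6, -⟩ := el_of r (by (clear * - h3 d; grind)) (r.fix w (le_pp_pp (mem_span_singleton_self w))) fun z => by
    obtain ⟨_, ha, b, hb, rfl⟩ := n.split z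
    obtain ⟨a, rfl⟩ := mem_span_singleton.1 ha
    exact ⟨b, hb, a, add_comm _ _⟩
  exact ⟨u, j, ⟨sq_of_odd hu (odd_card hS.2.2).pow h1, h1, h4, h6⟩, h5⟩

end Cfsg.Agent.N2C.TenSO
end

-- part: N2/Cl/TenSO/EltS
section
/-!
# N2 (S3519), tensor decompositions: semisimple elements of a factor (helper89)
-/

set_option autoImplicit false
set_option linter.unusedSectionVars false
set_option maxHeartbeats 400000

namespace Cfsg.Agent.N2C.TenSO.ES

open Cfsg.Agent.DS.Cl Cfsg.Agent.DS.Cl.Fwd Module Submodule Polynomial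
open Cfsg.Agent.SB.Cl (IsSp)
open Cfsg.Agent.TH.Cl (IsSp.swap)
open Cfsg.Agent.TH.Cl.Big (b_swap_zero)
open Cfsg.Agent.N2.C1 hiding rg_step exists_rg
open Cfsg.Agent.N2C.Cyc
open Cfsg.Agent.LieClassical

variable {K V : Type} [Field K] [Fintype K] [AddCommGroup V] [Module K V] [Finite V] {h : HF K V}
  {P : Type} [AddCommGroup P] [Module K P] [Finite P]

theorem card_End (K V : Type) [Field K] [Fintype K] [AddCommGroup V] [Module K V] [Finite V] :
    Nat.card (End K V) = Fintype.card K ^ finrank K V ^ 2 := by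
  have : Module.Finite K V := Module.Finite.of_finite
  have : Finite (End K V) := Finite.of_injective (fun a : End K V => (a : V → V)) DFunLike.coe_injective
  rw [card_V K (End K V), finrank_linearMap, pow_two]

theorem el_mk {g : h.EBˣ} {N d : ℕ} (h1 : g ∈ Sq h.EB) (h2 : g ^ N = 1) (h3 : cA (g : h.EB) ≤ Fintype.card K ^ d)
    (h4 : d < finrank K V ^ 2) : El h g N d := by
  refine ⟨h1, h2, fun k => ?_, h3⟩
  rw [show cA (g : h.EB) = _ from (Nat.card_congr (Equiv.subtypeUnivEquiv (Subring.mem_center_iff.1 k))).trans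
    (card_End K V)] at h3
  exact h4.not_ge ((Nat.pow_le_pow_iff_right Fintype.one_lt_card).1 h3)

variable (h P) in
/-- coordinates on an orthogonal summand -/
structure Pl where
  /-- the embedding -/
  ι : P →ₗ[K] V
  /-- the projection -/
  π : V →ₗ[K] P
  πι : ∀ x, π (ι x) = x
  b : ∀ x v, π v = 0 → h.b (ι x) v = 0

namespace Pl

variable (p : Pl h P) {g : End K P}

/-- extension by the identity -/
def ex : End K P →* h.EB where
  toFun g := h.eb (1 + p.ι ∘ₗ (g - 1) ∘ₗ p.π)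
  map_one' := h.ap_ext fun v => by simp [h.ap_eb, h.ap_one]
  map_mul' g g' := h.ap_ext fun v => by
    simp [h.ap_eb, h.ap_mul, p.πι]
    abel

theorem ap_ex (g : End K P) (v : V) : h.ap (p.ex g) v = v - p.ι (p.π v) + p.ι (g (p.π v)) := by
  change v + p.ι (g (p.π v) - p.π v) = _
  rw [map_sub]
  abel

theorem ap_ι (g : End K P) (x : P) : h.ap (p.ex g) (p.ι x) = p.ι (g x) := by rw [ap_ex, p.πι, sub_self, zero_add]

theorem π_ap (g : End K P) (v : V) : p.π (h.ap (p.ex g) v) = g (p.π v) := by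
  rw [ap_ex, map_add, map_sub, p.πι, p.πι, sub_self, zero_add]

theorem π_sub (v : V) : p.π (v - p.ι (p.π v)) = 0 := by rw [map_sub, p.πι, sub_self]

/-- isometries of the summand -/
def Is (g : End K P) : Prop := ∀ x y, h.b (p.ι (g x)) (p.ι (g y)) = h.b (p.ι x) (p.ι y)

theorem iso (hg : p.Is g) (v w : V) : h.b (h.ap (p.ex g) v) (h.ap (p.ex g) w) = h.b v w := by
  have k : ∀ x y, h.b (v - p.ι (p.π v) + p.ι x) (w - p.ι (p.π w) + p.ι y) =
      h.b (v - p.ι (p.π v)) (w - p.ι (p.π w)) + h.b (p.ι x) (p.ι y) := fun x y => by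
    rw [h.add_left, h.add_right, h.add_right, p.b _ _ (p.π_sub w), b_swap_zero (p.b _ _ (p.π_sub v)), add_zero, zero_add]
  rw [ap_ex, ap_ex, k, hg, ← k, sub_add_cancel, sub_add_cancel]

/-- the unit -/
noncomputable def un (hg : p.Is g) : h.EBˣ := SB.Tor.isoU h (p.ex g) (p.iso hg)

theorem un_ms (hg : p.Is g) : (p.un hg : h.EB) * star (p.un hg : h.EB) = 1 := SB.Tor.isoU_ms _ _ _

theorem un_pow (hg : p.Is g) {N : ℕ} (hN : g ^ N = 1) : p.un hg ^ N = 1 :=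
  Units.ext ((Units.val_pow_eq_pow_val _ _).trans ((map_pow p.ex g N).symm.trans (hN ▸ map_one p.ex)))

theorem cA_le (hg : Function.Injective (g - 1 : End K P)) {d : ℕ}
    (hd : Nat.card {y : End K P // y * g = g * y} ≤ Fintype.card K ^ d) :
    cA (p.ex g) ≤ Fintype.card K ^ ((finrank K V - finrank K P) ^ 2 + d) := by
  have : Module.Finite K V := Module.Finite.of_finite
  have : Finite (End K P) := Finite.of_injective (fun a : End K P => (a : P → P)) DFunLike.coe_injective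
  have : Finite (End K (LinearMap.ker p.π)) := Finite.of_injective (fun a : End K _ => (a : _ → _)) DFunLike.coe_injective
  have c : ∀ (x : {x : h.EB // x * p.ex g = p.ex g * x}) v, h.ap x.1 (h.ap (p.ex g) v) = h.ap (p.ex g) (h.ap x.1 v) :=
    fun x v => by rw [← h.ap_mul, x.2, h.ap_mul]
  have h1 : ∀ x : {x : h.EB // x * p.ex g = p.ex g * x}, ∀ v ∈ LinearMap.ker p.π, h.ap x.1 v ∈ LinearMap.ker p.π :=
    fun x v (hv : p.π v = 0) => hg (by
      have k := congrArg p.π (c x v)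
      rw [π_ap, ap_ex, hv, map_zero g, map_zero, sub_zero, add_zero] at k
      rw [map_zero, LinearMap.sub_apply, ← k, End.one_apply, sub_self])
  have h2 : ∀ (x : {x : h.EB // x * p.ex g = p.ex g * x}) y, h.ap x.1 (p.ι y) = p.ι (p.π (h.ap x.1 (p.ι y))) := fun x y => by
    obtain ⟨y, rfl⟩ := Finite.injective_iff_surjective.1 hg y
    have k : h.ap x.1 (p.ι ((g - 1) y)) = p.ι (g (p.π (h.ap x.1 (p.ι y))) - p.π (h.ap x.1 (p.ι y))) := by
      rw [LinearMap.sub_apply, End.one_apply, map_sub, map_sub, ← ap_ι, c, ap_ex, map_sub]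
      abel
    rw [k, p.πι]
  have h3 : finrank K (LinearMap.ker p.π) = finrank K V - finrank K P := by
    have := p.π.finrank_range_add_finrank_ker
    rw [LinearMap.range_eq_top.2 fun x => ⟨_, p.πι x⟩, finrank_top] at this
    omega
  refine (Nat.card_le_card_of_injective (fun x => (((h.ap x.1).restrict (h1 x), ⟨p.π ∘ₗ h.ap x.1 ∘ₗ p.ι,
    LinearMap.ext fun y => (congrArg (fun z => p.π (h.ap x.1 z)) (p.ap_ι g y).symm).trans ((congrArg p.π (c x _)).trans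
    (p.π_ap _ _))⟩) : End K (LinearMap.ker p.π) × {y : End K P // y * g = g * y})) fun x x' k =>
    Subtype.ext (h.ap_ext fun v => ?_)).trans ?_
  · rw [← sub_add_cancel v (p.ι (p.π v)), map_add, map_add, h2, h2 x']
    exact congrArg₂ _ (congrArg (fun z => (z.1 ⟨_, p.π_sub v⟩).1) k) (congrArg (fun z => p.ι (z.2.1 (p.π v))) k)
  · rw [Nat.card_prod, card_End, h3, pow_add]
    exact Nat.mul_le_mul_left _ hd

theorem irr (hd : finrank K P = finrank K V) (hg : IrrV g) : IrrV (h.ap (p.ex g)) := fun W hW => by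
  have : Module.Finite K V := Module.Finite.of_finite
  have : Module.Finite K P := Module.Finite.of_finite
  have k := (LinearMap.injective_iff_surjective_of_finrank_eq_finrank hd).1 (Function.LeftInverse.injective p.πι)
  rw [← map_comap_eq_of_surjective k W]
  exact (hg (W.comap p.ι) fun w hw => show p.ι (g w) ∈ W from p.ap_ι g w ▸ hW _ hw).imp (fun e => by rw [e, Submodule.map_bot])
    fun e => by rw [e, Submodule.map_top, LinearMap.range_eq_top.2 k]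

theorem un_ne (hg : p.Is g) {j : ℕ} {x : P} (hx : (g ^ j) x ≠ x) : p.un hg ^ j ≠ 1 := fun k => hx (by
  have k' : p.ex (g ^ j) = 1 := (map_pow p.ex g j).trans ((Units.val_pow_eq_pow_val _ _).symm.trans (congrArg Units.val k))
  rw [← p.πι x, ← π_ap, k', h.ap_one])

end Pl

/-- a two by two matrix -/
def mt (a b c d : K) : End K (K × K) :=
  (a • LinearMap.fst K K K + b • LinearMap.snd K K K).prod (c • LinearMap.fst K K K + d • LinearMap.snd K K K)

variable {a b c d : K}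

theorem mt_ap (a b c d : K) (x : K × K) : mt a b c d x = (a * x.1 + b * x.2, c * x.1 + d * x.2) := rfl

theorem mt_mul (a b c d a' b' c' d' : K) :
    mt a b c d * mt a' b' c' d' = mt (a * a' + b * c') (a * b' + b * d') (c * a' + d * c') (c * b' + d * d') :=
  LinearMap.ext fun x => Prod.ext (by simp only [End.mul_apply, mt_ap]; ring) (by simp only [End.mul_apply, mt_ap]; ring)

theorem mt_one (ha : a = 1) (hb : b = 0) (hc : c = 0) (hd : d = 1) : mt a b c d = 1 :=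
  LinearMap.ext fun x => by simp [mt_ap, ha, hb, hc, hd]

theorem mt_inj (k : (a - 1) * (d - 1) - b * c ≠ 0) : Function.Injective (mt a b c d - 1 : End K (K × K)) :=
  (injective_iff_map_eq_zero _).2 fun x hx => by
    have h1 : a * x.1 + b * x.2 - x.1 = 0 := congrArg Prod.fst hx
    have h2 : c * x.1 + d * x.2 - x.2 = 0 := congrArg Prod.snd hx
    exact Prod.ext (mul_left_cancel₀ k (by rw [Prod.fst_zero]; linear_combination (d - 1) * h1 - b * h2))
      (mul_left_cancel₀ k (by rw [Prod.snd_zero]; linear_combination (a - 1) * h2 - c * h1))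

theorem span2 {v w : K × K} (k : v.1 * w.2 - v.2 * w.1 ≠ 0) (x : K × K) : ∃ α β : K, α • v + β • w = x := by
  obtain ⟨D, hD⟩ : ∃ D, (v.1 * w.2 - v.2 * w.1) * D = 1 := ⟨_, mul_inv_cancel₀ k⟩
  exact ⟨(x.1 * w.2 - x.2 * w.1) * D, (v.1 * x.2 - v.2 * x.1) * D,
    Prod.ext (by simp only [Prod.fst_add, Prod.smul_fst, smul_eq_mul]; linear_combination x.1 * hD)
      (by simp only [Prod.snd_add, Prod.smul_snd, smul_eq_mul]; linear_combination x.2 * hD)⟩

theorem card2 {g : End K (K × K)} (v : K × K) (k : v.1 * (g v).2 - v.2 * (g v).1 ≠ 0) :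
    Nat.card {y : End K (K × K) // y * g = g * y} ≤ Fintype.card K ^ 2 := by
  refine (CycV.card_le ⟨v, fun x => ?_⟩).trans_eq (by simp)
  obtain ⟨α, β, rfl⟩ := span2 k x
  exact ⟨C α + C β * X, by simp⟩

/-- a plane with a dual basis -/
def pl2 {e f e' f' : V} (h1 : h.b e e' = 1) (h2 : h.b f e' = 0) (h3 : h.b e f' = 0) (h4 : h.b f f' = 1)
    (h5 : ∀ v, h.b v e' = 0 → h.b v f' = 0 → h.b e v = 0 ∧ h.b f v = 0) : Pl h (K × K) where
  ι := (LinearMap.toSpanSingleton K V e).coprod (LinearMap.toSpanSingleton K V f)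
  π := (h.lin e').prod (h.lin f')
  πι x := Prod.ext (show h.b (x.1 • e + x.2 • f) e' = x.1 by rw [h.add_left, h.smul_left, h.smul_left, h1, h2]; ring)
    (show h.b (x.1 • e + x.2 • f) f' = x.2 by rw [h.add_left, h.smul_left, h.smul_left, h3, h4]; ring)
  b x v k := by
    obtain ⟨k1, k2⟩ := h5 v (congrArg Prod.fst k) (congrArg Prod.snd k)
    change h.b (x.1 • e + x.2 • f) v = 0
    rw [h.add_left, h.smul_left, h.smul_left, k1, k2]
    ring

theorem exists_plA (hA : Alt h) (h0 : 0 < finrank K V) : ∃ p : Pl h (K × K), ∀ a b c d : K, a * d - b * c = 1 →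
    p.Is (mt a b c d) := by
  obtain ⟨F, hS⟩ := EU.exists_sp hA
  obtain ⟨e, -, he⟩ := exists_mem_ne (X := (⊤ : Submodule K V)) (by rwa [finrank_top])
  obtain ⟨f, -, hf⟩ := (nd_top (h := h)).partner trivial he 1
  have hf' : h.b e f = -1 := by rw [IsSp.swap hS, hf]
  have n : ∀ u v, h.b u ((-1 : K) • v) = -h.b u v := fun u v => by rw [h.smul_right, hA.1, neg_one_mul]
  refine ⟨pl2 (e := e) (f := f) (e' := (-1 : K) • f) (f' := e) (by rw [n, hf', neg_neg]) (by rw [n, hA.2, neg_zero])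
    (hA.2 e) hf fun v k k' => ⟨b_swap_zero k', b_swap_zero (neg_eq_zero.1 (n _ _ ▸ k))⟩, fun a b c d k x y => ?_⟩
  change h.b ((_ : K) • e + (_ : K) • f) ((_ : K) • e + (_ : K) • f) = h.b ((_ : K) • e + (_ : K) • f) ((_ : K) • e + (_ : K) • f)
  simp only [h.add_left, h.add_right, h.smul_left, h.smul_right, hA.1, hA.2, hf, hf', mt_ap,
    LinearMap.id_apply, LinearMap.fst_apply, LinearMap.snd_apply]
  linear_combination (x.2 * y.1 - x.1 * y.2) * k

theorem aniso (hS : Sym h) (h0 : 0 < finrank K V) : ∃ w, h.b w w ≠ 0 := by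
  by_contra c
  push Not at c
  obtain ⟨x, -, hx⟩ := exists_mem_ne (X := (⊤ : Submodule K V)) (by rwa [finrank_top])
  obtain ⟨y, hy⟩ := h.exists_ne hx
  have h1 := c (x + y)
  rw [h.add_left, h.add_right, h.add_right, c, c, hS.2.1 x y] at h1
  exact mul_ne_zero hS.2.2 hy (by linear_combination h1)

/-- binary forms are universal -/
theorem univ (hS : Sym h) {Y : Submodule K V} (n : ND h Y) (d : 2 ≤ finrank K Y) (t : K) : ∃ w ∈ Y, h.b w w = t := by
  have : Module.Finite K V := Module.Finite.of_finite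
  let B : LinearMap.BilinForm K V := LinearMap.mk₂ K h.b h.add_left h.smul_left h.add_right fun c u v => by
    rw [h.smul_right, hS.1, smul_eq_mul]
  obtain ⟨⟨y, s⟩, h0, h1⟩ := ClassicalGeometry.SiegelGen.exists_singular hS.2.2
    ((B.toQuadraticMap.comp Y.subtype).prod ((-t) • QuadraticMap.sq : QuadraticForm K K)) (by rw [finrank_prod, finrank_self]; omega)
  replace h1 : h.b y y + -t * (s * s) = 0 := h1
  rcases eq_or_ne s 0 with rfl | hs
  · obtain ⟨f, hf, k⟩ := n.partner y.2 (fun k => h0 (Prod.ext (Subtype.ext k) rfl)) 1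
    refine ⟨f + ((t - h.b f f) / 2) • y.1, add_mem hf (smul_mem _ _ y.2), ?_⟩
    simp only [h.add_left, h.add_right, h.smul_left, h.smul_right, hS.1, k, hS.2.1 y f, show h.b y y = 0 by simpa using h1]
    field_simp [hS.2.2]
    ring
  · refine ⟨s⁻¹ • y.1, smul_mem _ _ y.2, ?_⟩
    rw [h.smul_left, h.smul_right, hS.1]
    field_simp
    linear_combination h1

theorem exists_plS (hS : Sym h) (h3 : 3 ≤ finrank K V) (hc : c ≠ 0) (k : a * a + c = 1) : ∃ p : Pl h (K × K),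
    p.Is (mt a (-c) 1 a) := by
  have : Module.Finite K V := Module.Finite.of_finite
  obtain ⟨e, he⟩ := aniso hS (by omega)
  have n := nd_one he
  have d := n.dim
  rw [finrank_span_singleton (ne_of_b he)] at d
  obtain ⟨w, hw, hw'⟩ := univ hS n.perp (by omega) (c * h.b e e)
  rw [mem_pp_one] at hw
  have s : ∀ u v (t : K), h.b u (t • v) = t * h.b u v := fun u v t => by rw [h.smul_right, hS.1]
  have hw2 := b_swap_zero hw
  refine ⟨pl2 (e := e) (f := w) (e' := (h.b e e)⁻¹ • e) (f' := (c * h.b e e)⁻¹ • w) (by rw [s, inv_mul_cancel₀ he])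
    (by rw [s, hw, mul_zero]) (by rw [s, hw2, mul_zero]) (by rw [s, hw', inv_mul_cancel₀ (mul_ne_zero hc he)])
    fun v k k' => ⟨b_swap_zero ((mul_eq_zero.1 (s _ _ _ ▸ k)).resolve_left (inv_ne_zero he)),
      b_swap_zero ((mul_eq_zero.1 (s _ _ _ ▸ k')).resolve_left (inv_ne_zero (mul_ne_zero hc he)))⟩, fun x y => ?_⟩
  change h.b ((_ : K) • e + (_ : K) • w) ((_ : K) • e + (_ : K) • w) = h.b ((_ : K) • e + (_ : K) • w) ((_ : K) • e + (_ : K) • w)
  simp only [h.add_left, h.add_right, h.smul_left, s, hw, hw2, hw', mt_ap, LinearMap.id_apply,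
    LinearMap.fst_apply, LinearMap.snd_apply]
  linear_combination h.b e e * (x.1 * y.1 + c * x.2 * y.2) * k

theorem rot_pow (h2 : (2 : K) ≠ 0) (hc : c ≠ 0) (k : a * a + c = 1) : mt a (-c) 1 a ^ (Fintype.card K ^ 2 - 1) = 1 := by
  have hp : Fact (ringChar K).Prime := ⟨CharP.char_is_prime K _⟩
  have : CharP (End K (K × K)) (ringChar K) := charP_of_injective_algebraMap (algebraMap K (End K (K × K))).injective _
  obtain ⟨f, -, hf⟩ := FiniteField.card K (ringChar K)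
  obtain ⟨i, hi⟩ := EU.odd_card h2
  have e : mt a (-c) 1 a = algebraMap K _ a + mt 0 (-c) 1 0 := LinearMap.ext fun x => Prod.ext (by simp [mt_ap])
    (by simp [mt_ap, add_comm])
  have e2 : mt 0 (-c) 1 0 ^ 2 = algebraMap K _ (-c) := LinearMap.ext fun x => by simp only [pow_two, mt_ap, Prod.ext_iff, _root_.Module.End.mul_apply, _root_.MulZeroClass.zero_mul, _root_.neg_mul, _root_.zero_add, _root_.one_mul, _root_.add_zero, _root_.mul_neg, _root_.neg_zero, _root_.map_neg, _root_.LinearMap.neg_apply, _root_.Module.algebraMap_end_apply, _root_.Prod.fst_neg, _root_.Prod.smul_fst, _root_.smul_eq_mul, _root_.Prod.snd_neg, _root_.Prod.smul_snd, _root_.and_self]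
  have h1 := add_pow_char_pow_of_commute (ringChar K) (f * 2) (Algebra.commutes a (mt 0 (-c) 1 0))
  have h3 : (-c) ^ (2 * i) = 1 := by
    rw [show 2 * i = Fintype.card K - 1 by omega, FiniteField.pow_card_sub_one_eq_one _ (neg_ne_zero.2 hc)]
  have h4 : mt 0 (-c) 1 0 ^ Fintype.card K ^ 2 = mt 0 (-c) 1 0 := by
    rw [show Fintype.card K ^ 2 = 2 * (2 * i * (i + 1)) + 1 by rw [hi]; ring, pow_succ, pow_mul, e2, ← map_pow, pow_mul, h3,
      one_pow, map_one, one_mul]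
  rw [pow_mul, ← hf, ← map_pow, FiniteField.pow_card_pow, h4, ← e, ← Nat.sub_add_cancel (Nat.one_le_pow 2 _ Fintype.card_pos),
    pow_succ] at h1
  have h5 : mt a (-c) 1 a * mt a c (-1) a = 1 := by
    rw [mt_mul]
    exact mt_one (by linear_combination k) (by ring) (by ring) (by linear_combination k)
  rw [← mul_one (_ ^ _), ← h5, ← mul_assoc, h1]

end ES

open ES Module Cfsg.Agent.N2C.FrSp Cfsg.Agent.N2C.Cyc

theorem boxZO : BoxZO := fun K V _ _ _ _ _ h hS => by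
  have k : ∀ {a c : K}, 3 ≤ finrank K V → c ≠ 0 → a * a + c = 1 → ∀ N d, (_root_.Cfsg.Agent.N2C.TenSO.ES.mt a (-c) 1 a ^ 2) ^ N = 1 →
      Nat.card {y : End K (K × K) // y * _root_.Cfsg.Agent.N2C.TenSO.ES.mt a (-c) 1 a ^ 2 = _root_.Cfsg.Agent.N2C.TenSO.ES.mt a (-c) 1 a ^ 2 * y} ≤ Fintype.card K ^ d → d ≤ 4 →
      ∃ z, El h z N ((finrank K V - 2) ^ 2 + d) := fun {a c} h3 hc k N d h1 h2 h4 => by
    obtain ⟨p, hp⟩ := exists_plS hS h3 hc k
    refine ⟨_, el_mk (sq_mem (p.un_ms hp)) (by rw [← pow_two, ← pow_mul, p.un_pow hp ((pow_mul _ 2 N).trans h1)]) ?_ ?_⟩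
    · have h5 := p.cA_le (g := _root_.Cfsg.Agent.N2C.TenSO.ES.mt a (-c) 1 a ^ 2) (by
        rw [pow_two, mt_mul]
        exact mt_inj fun e => mul_ne_zero (mul_ne_zero hS.2.2 hS.2.2) hc (by
          linear_combination e - (a * a + c - 1) * k)) h2
      rwa [finrank_prod, finrank_self, pow_two (mt _ _ _ _), map_mul] at h5
    · obtain ⟨n, hn⟩ := Nat.exists_eq_add_of_le' h3
      rw [hn, show n + 3 - 2 = n + 1 from rfl]
      linarith only [h4, _root_.Nat.cast_nonneg (α := ℤ) (n)]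
  refine ⟨fun h3 => k h3 one_ne_zero (by ring : (0 : K) * 0 + 1 = 1) 2 4 ?_ ?_ le_rfl, fun h3 h5 => ?_⟩
  · simp only [pow_two, mt_mul]
    exact mt_one (by ring) (by ring) (by ring) (by ring)
  · have : Finite (End K (K × K)) := Finite.of_injective (fun a : End K _ => (a : _ → _)) DFunLike.coe_injective
    exact (Finite.card_subtype_le _).trans_eq (by rw [card_End, finrank_prod, finrank_self]; rfl)
  classical
  obtain ⟨a, -, ha⟩ := Finset.exists_mem_notMem_of_card_lt_card (s := ({0, 1, -1} : Finset K)) (t := Finset.univ)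
    (Finset.card_le_three.trans_lt (by rw [Finset.card_univ]; omega))
  simp only [Finset.mem_insert, Finset.mem_singleton, not_or] at ha
  have hc : 1 - a * a ≠ 0 := fun e => (mul_self_eq_one_iff.1 (sub_eq_zero.1 e).symm).elim ha.2.1 ha.2.2
  obtain ⟨z, hz⟩ := k h3.ge hc (by ring : a * a + (1 - a * a) = 1) (Fintype.card K ^ 2 - 1) 2
    (by rw [← pow_mul, mul_comm 2, pow_mul, rot_pow hS.2.2 hc (by ring), one_pow])
    (card2 (1, 0) fun e => mul_ne_zero hS.2.2 ha.1 (by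
      simp only [pow_two, mt_mul, mt_ap] at e
      linear_combination e)) (by omega)
  rw [h3] at hz
  exact ⟨z, _, ((Nat.coprime_self_sub_left (Nat.one_le_pow 2 _ Fintype.card_pos)).2 (Nat.coprime_one_left _)).of_dvd_right
    (dvd_pow_self _ two_ne_zero), hz⟩

theorem boxLW : BoxLW := fun K V _ _ _ _ _ h hA => by
  refine ⟨fun h2 he h4 => ?_, fun h4 h2 => ?_⟩
  · obtain ⟨p, hp⟩ := exists_plA hA (by omega)
    classical
    obtain ⟨c, -, hc⟩ := Finset.exists_mem_notMem_of_card_lt_card (s := ({0, 1, -1} : Finset K)) (t := Finset.univ)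
      (Finset.card_le_three.trans_lt (by rw [Finset.card_univ]; omega))
    simp only [Finset.mem_insert, Finset.mem_singleton, not_or] at hc
    have h1 : ∀ n, _root_.Cfsg.Agent.N2C.TenSO.ES.mt c 0 0 c⁻¹ ^ n = _root_.Cfsg.Agent.N2C.TenSO.ES.mt (c ^ n) 0 0 (c⁻¹ ^ n) := fun n => by
      induction n with
      | zero => exact (mt_one (pow_zero _) rfl rfl (pow_zero _)).symm
      | succ n ih => simp only [pow_succ, ih, mt_mul, mul_zero, zero_mul, add_zero, zero_add]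
    have h3 := p.un_pow (hp c 0 0 c⁻¹ (by rw [mul_inv_cancel₀ hc.1, mul_zero, sub_zero])) ((h1 _).trans (mt_one
      (FiniteField.pow_card_sub_one_eq_one _ hc.1) rfl rfl (FiniteField.pow_card_sub_one_eq_one _ (inv_ne_zero hc.1))))
    have h5 := p.cA_le (g := _root_.Cfsg.Agent.N2C.TenSO.ES.mt c 0 0 c⁻¹) (mt_inj (by
      rw [mul_zero, sub_zero]
      exact mul_ne_zero (sub_ne_zero.2 hc.2.1) (sub_ne_zero.2 (inv_ne_one.2 hc.2.1)))) (card2 (1, 1) fun e => by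
        simp only [mt_ap, mul_one, one_mul, add_zero, zero_add, sub_eq_zero] at e
        exact (mul_self_eq_one_iff.1 ((congrArg (c * ·) e.symm).trans (mul_inv_cancel₀ hc.1))).elim hc.2.1 hc.2.2)
    rw [finrank_prod, finrank_self, h2] at h5
    exact ⟨_, el_mk (sq_of_odd (p.un_ms _) (Nat.Even.sub_odd (by omega) he odd_one) h3) h3 h5 (by rw [h2]; omega)⟩
  · obtain ⟨p, hp⟩ := exists_plA hA (by omega)
    have h0 : (2 : K) = 0 := by exact_mod_cast h2 ▸ FiniteField.cast_card_eq_zero K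
    have h3 := p.un_pow (hp 0 (-1) 1 (-1) (by ring)) (N := 3) (by
      simp only [pow_succ, pow_zero, one_mul, mt_mul]
      exact mt_one (by ring) (by ring) (by ring) (by ring))
    have h5 := p.cA_le (g := mt 0 (-1) 1 (-1)) (mt_inj fun e => one_ne_zero (by linear_combination e - h0))
      (card2 (1, 0) (by simp [mt_ap]))
    rw [finrank_prod, finrank_self, h4] at h5
    exact ⟨_, el_mk (sq_of_odd (p.un_ms _) (by decide) h3) h3 h5 (by rw [h4]; omega)⟩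

theorem boxSSp : BoxSSp := fun K V _ _ _ _ _ h hA k hd h1 h2 => by
  have hq := two_le_q K
  have el : ∀ {s : h.EBˣ}, s ∈ Sq h.EB → s ^ (Fintype.card K ^ k + 1) = 1 → IrrV (h.ap s) →
      El h s (Fintype.card K ^ k + 1) (2 * k) := fun h3 h4 h5 =>
    el_mk h3 h4 (hd ▸ (cycV_of_irr h5).cA_le) (by rw [hd]; nlinarith only [h1])
  by_cases h4 : 4 ≤ Fintype.card K ^ k
  · obtain ⟨F, hS⟩ := EU.exists_sp hA
    obtain ⟨E, _, _, _, ⟨s⟩⟩ := exists_sg K h1
    obtain ⟨b⟩ := exists_blk hS s (one_mul 1) (star_one _) (by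
      change finrank K (LinearMap.range (LinearMap.id : End K V)) = _
      rw [LinearMap.range_id, finrank_top, hd])
    let p : Pl h E := ⟨b.φ, b.ψ, b.ψφ, fun x v k => by rw [show v = b.φ (b.ψ v) from (b.φψ v).symm, k, map_zero, h.zero_right]⟩
    have hp : p.Is (LinearMap.mulLeft K s.lam) := fun x y => (b.b _ _).trans ((s.B_iso s.lam_σ x y).trans (b.b _ _).symm)
    have h5 : IrrV (h.ap (p.un hp * p.un hp : h.EBˣ)) := by
      have h5 := p.irr (g := LinearMap.mulLeft K s.lam * LinearMap.mulLeft K s.lam) (s.dim.trans hd.symm) fun W hW =>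
        or_iff_not_imp_left.2 fun k => by
          obtain ⟨x, hx, h0⟩ := (Submodule.ne_bot_iff _).1 k
          exact eq_top_iff.2 fun y _ => Sg.irr (s.gen (.inr ⟨rfl, h4⟩)) W (fun x hx => by
            rw [pow_two, mul_assoc]
            exact hW x hx) hx h0 y
      rwa [map_mul] at h5
    refine ⟨_, el (sq_mem (p.un_ms hp)) ?_ h5, h5, fun j h0 hj => ?_⟩
    · rw [← pow_two, ← pow_mul, mul_comm, pow_mul, p.un_pow hp, one_pow]
      rw [LinearMap.pow_mulLeft, ← s.ord, pow_orderOf_eq_one, LinearMap.mulLeft_one, End.one_eq_id]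
    · rw [← pow_two, ← pow_mul]
      refine p.un_ne hp (x := 1) fun e => ?_
      rw [LinearMap.pow_mulLeft, LinearMap.mulLeft_apply, mul_one, ← orderOf_dvd_iff_pow_eq_one, s.ord] at e
      have h6 := Nat.le_of_dvd (by omega) e
      have h7 : 2 ≤ k ∧ j ≤ 4 := by omega
      have h8 := Nat.pow_le_pow_right (n := Fintype.card K) (by omega) h7.1
      have h9 : Fintype.card K = 2 := by nlinarith only [hq, h6, h7, h8]
      rw [h9] at e h6
      have h10 : k = 2 := by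
        by_contra c
        have := Nat.pow_le_pow_right (n := 2) (by omega) (show 3 ≤ k by omega)
        omega
      subst h10
      omega
  obtain rfl : k = 1 := by
    by_contra c
    have := Nat.pow_le_pow_right (n := Fintype.card K) (by omega) (show 2 ≤ k by omega)
    nlinarith only [hq, h4, this]
  have h3 : Fintype.card K = 3 := by
    rw [pow_one] at h4
    omega
  have h0 : (3 : K) = 0 := by exact_mod_cast h3 ▸ FiniteField.cast_card_eq_zero K
  obtain ⟨p, hp⟩ := exists_plA hA (by omega)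
  have t : ∀ b c (k : 1 * 1 - b * c = 1), b * c = 0 → p.un (hp 1 b c 1 k) ∈ Sq h.EB := fun b c k k' =>
    sq_of_odd (p.un_ms _) (N := 3) (by decide) (p.un_pow _ (by
      simp only [pow_succ, pow_zero, one_mul, mt_mul]
      exact mt_one (by linear_combination 3 * k') (by linear_combination b * k' + b * h0)
        (by linear_combination c * k' + c * h0) (by linear_combination 3 * k')))
  have h5 : IrrV (h.ap (p.un (hp 0 (-1) 1 0 (by ring)))) := p.irr (by rw [finrank_prod, finrank_self, hd]) fun W hW =>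
    or_iff_not_imp_left.2 fun k => by
      obtain ⟨x, hx, h0⟩ := (Submodule.ne_bot_iff _).1 k
      refine eq_top_iff.2 fun y _ => ?_
      obtain ⟨α, β, rfl⟩ := span2 (v := x) (w := mt 0 (-1) 1 0 x) (fun e => by
        simp only [mt_ap] at e
        have h6 : x.1 ≠ 0 := fun e' => h0 (Prod.ext e' (mul_self_eq_zero.1 (by rw [e'] at e; linear_combination e)))
        exact FiniteField.isSquare_neg_one_iff.1 ⟨x.2 / x.1, by field_simp; linear_combination -e⟩ (by rw [h3])) y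
      exact add_mem (W.smul_mem _ hx) (W.smul_mem _ (hW x hx))
  refine ⟨_, el ?_ (p.un_pow _ ?_) h5, h5, fun j h6 hj => p.un_ne _ (x := (1, 0)) ?_⟩
  · have h6 := mul_mem (mul_mem (t (-1) 0 (by ring) (by ring)) (t 0 1 (by ring) (by ring))) (t (-1) 0 (by ring) (by ring))
    refine (congrArg (· ∈ Sq h.EB) (Units.ext ?_)).mp h6
    change p.ex _ * p.ex _ * p.ex _ = p.ex _
    rw [← map_mul, ← map_mul, mt_mul, mt_mul]
    (with_reducible congr 2) <;> ring
  · simp only [h3, pow_succ, pow_zero, one_mul, mt_mul]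
    exact mt_one (by ring) (by ring) (by ring) (by ring)
  · obtain rfl | rfl : j = 1 ∨ j = 2 := by omega
    · simp [mt_ap]
    · refine fun e => one_ne_zero (α := K) ?_
      have e' : (-1 : K) = 1 := by simpa [pow_two, mt_ap] using e
      linear_combination h0 + e'

end Cfsg.Agent.N2C.TenSO
end

-- part: N2/Cl/TenSO/EltX
section
/-!
# N2 (S3519), tensor decompositions: the factors `O₂(q)`, `Sp₂(2)`, `O₃(3)` (helper82)
-/

set_option autoImplicit false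
set_option linter.unusedSectionVars false

namespace Cfsg.Agent.N2C.TenSO

open Cfsg.Agent.DS.Cl Cfsg.Agent.DS.Cl.Fwd Module

namespace EX

variable {K V : Type} [Field K] [Fintype K] [AddCommGroup V] [Module K V] [Finite V] {h : HF K V} {n : ℕ}

/-- matrices with respect to a basis -/
noncomputable def mat (h : HF K V) (v : Basis (Fin n) K V) : h.EB ≃+* Matrix (Fin n) (Fin n) K :=
  (LinearMap.toMatrixAlgEquiv v).toRingEquiv

theorem mat_apply (v : Basis (Fin n) K V) (x : h.EB) (i j : Fin n) : mat h v x i j = v.repr (h.ap x (v j)) i :=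
  LinearMap.toMatrixAlgEquiv_apply v _ i j

theorem not_cen {R S : Type} [Ring R] [Ring S] (e : R ≃+* S) {x : R} {z : S} (hz : z * e x ≠ e x * z) :
    x ∉ Subring.center R := fun hx => hz (by
  have := congrArg e (Subring.mem_center_iff.1 hx (e.symm z))
  rwa [map_mul, map_mul, e.apply_symm_apply] at this)

theorem exists_mat (hS : Sym h) (hn : finrank K V = n) : ∃ (e : h.EB ≃+* Matrix (Fin n) (Fin n) K) (d : Fin n → K),
    (∀ i, d i ≠ 0) ∧ ∀ x, star x = -x ↔ ∀ i j, d i * e x i j = -(d j * e x j i) := by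
  have : Module.Finite K V := Module.Finite.of_finite
  let B : LinearMap.BilinForm K V := LinearMap.mk₂ K h.b h.add_left h.smul_left h.add_right fun c u v => by
    rw [h.smul_right, hS.1, smul_eq_mul]
  let _ := invertibleOfNonzero hS.2.2
  subst hn
  obtain ⟨v, hv⟩ := LinearMap.BilinForm.exists_orthogonal_basis (B := B) ⟨fun x y => hS.2.1 x y⟩
  have hd := hv.not_isOrtho_basis_self_of_separatingLeft fun x hx => h.nondeg x fun u => (hS.2.1 u x).trans (hx u)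
  have h1 : ∀ i w, B (v i) w = B (v i) (v i) * v.repr w i := fun i w => by
    conv_lhs => rw [← v.sum_repr w, map_sum]
    rw [Finset.sum_eq_single i (fun j _ hj => by rw [map_smul, show B (v i) (v j) = 0 from hv hj.symm, smul_zero])
      (by simp only [_root_.Finset.mem_univ, _root_.not_true_eq_false, _root_.map_smul, _root_.smul_eq_mul, _root_.mul_eq_zero, _root_.IsEmpty.forall_iff]), map_smul, smul_eq_mul, mul_comm]
  have h2 : ∀ (x : h.EB) i j, B (v i) (v i) * mat h v x i j = h.b (v i) (h.ap x (v j)) := fun x i j => by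
    rw [mat_apply, ← h1]
    rfl
  have h3 : ∀ (x : h.EB) i j, B (v i) (v i) * mat h v (star x) i j = B (v j) (v j) * mat h v x j i := fun x i j => by
    rw [h2, h2, h.b_star, hS.2.1]
  refine ⟨mat h v, fun i => B (v i) (v i), hd, fun x => ⟨fun hx i j => ?_, fun hx => (mat h v).injective ?_⟩⟩
  · beta_reduce
    rw [← h3, hx, map_neg, Matrix.neg_apply, mul_neg]
  · ext i j
    refine mul_left_cancel₀ (hd i) ?_
    rw [h3, hx, map_neg, Matrix.neg_apply, mul_neg]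

theorem o2 (hS : Sym h) (hn : finrank K V = 2) : (∀ x y : h.EB, star x = -x → star y = -y → x * y = y * x) ∧
    ∃ x : h.EB, star x = -x ∧ x ∉ Subring.center h.EB := by
  obtain ⟨e, d, hd, he⟩ := exists_mat hS hn
  have h0 : ∀ x, star x = -x → ∀ i, e x i i = 0 := fun x hx i =>
    (mul_eq_zero.1 (by linear_combination (he x).1 hx i i : 2 * d i * e x i i = 0)).resolve_left
      (mul_ne_zero hS.2.2 (hd i))
  refine ⟨fun x y hx hy => e.injective ?_, e.symm !![0, -d 1; d 0, 0], (he _).2 ?_,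
    not_cen e (z := !![1, 0; 0, 0]) fun h1 => hd 0 ?_⟩
  · have h1 : e x 0 1 * e y 1 0 = e y 0 1 * e x 1 0 := mul_left_cancel₀ (hd 0) (by
      linear_combination e y 1 0 * (he x).1 hx 0 1 - e x 1 0 * (he y).1 hy 0 1)
    rw [map_mul, map_mul]
    ext i j
    (revert i j; simp only [Matrix.mul_apply, Fin.sum_univ_two, h0 x hx, h0 y hy, h1, _root_.Fin.forall_fin_succ, Fin.isValue, _root_.MulZeroClass.mul_zero, _root_.zero_add, _root_.Fin.succ_zero_eq_one, _root_.add_zero, _root_.IsEmpty.forall_iff, _root_.MulZeroClass.zero_mul, _root_.and_true, _root_.true_and]) <;> (repeat' with_reducible apply And.intro)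
    linear_combination -h1
  · rw [e.apply_symm_apply]
    intro i j
    fin_cases i <;> fin_cases j <;> simp [mul_comm]
  · have h2 := congrFun (congrFun h1 1) 0
    rw [e.apply_symm_apply] at h2
    simpa [Matrix.mul_apply, Fin.sum_univ_two] using h2.symm

theorem tab2 : ∀ a b c d a' b' c' d' : ZMod 2, !![a, b; c, d] * !![a, b; c, d] + !![a, b; c, d] + 1 = 0 →
    !![a', b'; c', d'] * !![a', b'; c', d'] + !![a', b'; c', d'] + 1 = 0 →
    !![a, b; c, d] * !![a', b'; c', d'] = !![a', b'; c', d'] * !![a, b; c, d] := by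
  decide +kernel

theorem sp2 (hn : finrank K V = 2) (hK : Fintype.card K = 2) :
    (∀ x y : h.EB, x * x + x + 1 = 0 → y * y + y + 1 = 0 → x * y = y * x) ∧
    ∃ x : h.EB, x * x + x + 1 = 0 ∧ x ∉ Subring.center h.EB := by
  have : Module.Finite K V := Module.Finite.of_finite
  let e : h.EB ≃+* Matrix (Fin 2) (Fin 2) (ZMod 2) :=
    (mat h (Module.finBasisOfFinrankEq K V hn)).trans (ZMod.ringEquivOfPrime K Nat.prime_two hK).symm.mapMatrix
  refine ⟨fun x y hx hy => e.injective ?_, e.symm !![0, 1; 1, 1], e.injective ?_,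
    not_cen e (z := !![1, 0; 0, 0]) ?_⟩
  · have h1 := congrArg e hx
    have h2 := congrArg e hy
    rw [map_add, map_add, map_mul, map_one, map_zero, Matrix.eta_fin_two (e _)] at h1 h2
    rw [map_mul, map_mul, Matrix.eta_fin_two (e x), Matrix.eta_fin_two (e y)]
    exact tab2 _ _ _ _ _ _ _ _ h1 h2
  · rw [map_add, map_add, map_mul, map_one, map_zero, e.apply_symm_apply]
    decide +kernel
  · rw [e.apply_symm_apply]
    decide +kernel

/-- the skew matrices -/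
def sk (d0 d1 d2 a b c : ZMod 3) : Matrix (Fin 3) (Fin 3) (ZMod 3) :=
  !![0, a, b; -(d0 * d1 * a), 0, c; -(d0 * d2 * b), -(d1 * d2 * c), 0]

theorem tab3 : ∀ d0 d1 d2 : ZMod 3, d0 ≠ 0 → d1 ≠ 0 → d2 ≠ 0 → ∀ a b c : ZMod 3,
    sk d0 d1 d2 a b c * sk d0 d1 d2 a b c * sk d0 d1 d2 a b c = -sk d0 d1 d2 a b c → ∀ a' b' c' : ZMod 3,
    sk d0 d1 d2 a' b' c' * sk d0 d1 d2 a' b' c' * sk d0 d1 d2 a' b' c' = -sk d0 d1 d2 a' b' c' →
    sk d0 d1 d2 a b c * sk d0 d1 d2 a b c * (sk d0 d1 d2 a' b' c' * sk d0 d1 d2 a' b' c') =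
      sk d0 d1 d2 a' b' c' * sk d0 d1 d2 a' b' c' * (sk d0 d1 d2 a b c * sk d0 d1 d2 a b c) := by
  (delta Cfsg.Agent.N2C.TenSO.EX.sk; set_option synthInstance.maxSize 20000 in open scoped Cfsg.Agent.Lib.MatDec in decide +kernel)

set_option synthInstance.maxSize 2000 in
theorem tab4 : ∀ d0 d1 d2 : ZMod 3, d0 ≠ 0 → d1 ≠ 0 → d2 ≠ 0 → ∃ a b c : ZMod 3,
    sk d0 d1 d2 a b c * sk d0 d1 d2 a b c * sk d0 d1 d2 a b c = -sk d0 d1 d2 a b c ∧
    (∀ i j : Fin 3, ![d0, d1, d2] i * sk d0 d1 d2 a b c i j = -(![d0, d1, d2] j * sk d0 d1 d2 a b c j i)) ∧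
    !![0, 1, 0; 0, 0, 1; 0, 0, 0] * (sk d0 d1 d2 a b c * sk d0 d1 d2 a b c) ≠
      sk d0 d1 d2 a b c * sk d0 d1 d2 a b c * !![0, 1, 0; 0, 0, 1; 0, 0, 0] := by
  (delta Cfsg.Agent.N2C.TenSO.EX.sk; set_option synthInstance.maxSize 20000 in open scoped Cfsg.Agent.Lib.MatDec in decide +kernel)

theorem tab5 : ∀ d d' a a' : ZMod 3, d ≠ 0 → d * a = -(d' * a') → a = -(d' * d * a') := by decide +kernel

theorem tab6 : ∀ d a : ZMod 3, d ≠ 0 → d * a = -(d * a) → a = 0 := by decide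

theorem o3 (hS : Sym h) (hn : finrank K V = 3) (hK : Fintype.card K = 3) :
    (∀ x y : h.EB, star x = -x → star y = -y → x * x * x = -x → y * y * y = -y → x * x * (y * y) = y * y * (x * x)) ∧
    ∃ x : h.EB, star x = -x ∧ x * x * x = -x ∧ x * x ∉ Subring.center h.EB := by
  obtain ⟨e₀, d₀, hd₀, he₀⟩ := exists_mat hS hn
  let f := (ZMod.ringEquivOfPrime K Nat.prime_three hK).symm
  obtain ⟨e, d, hd, he⟩ : ∃ (e : h.EB ≃+* Matrix (Fin 3) (Fin 3) (ZMod 3)) (d : Fin 3 → ZMod 3),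
      (∀ i, d i ≠ 0) ∧ ∀ x, star x = -x ↔ ∀ i j, d i * e x i j = -(d j * e x j i) := by
    refine ⟨e₀.trans f.mapMatrix, fun i => f (d₀ i), fun i => (map_ne_zero_iff f f.injective).2 (hd₀ i), fun x => ?_⟩
    rw [he₀]
    refine forall₂_congr fun i j => ?_
    rw [← f.injective.eq_iff, map_neg, map_mul, map_mul]
    rfl
  have h1 : ∀ x, star x = -x → e x = sk (d 0) (d 1) (d 2) (e x 0 1) (e x 0 2) (e x 1 2) := fun x hx => by
    have h2 := (he x).1 hx
    ext i j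
    fin_cases i <;> fin_cases j
    exacts [tab6 _ _ (hd 0) (h2 0 0), rfl, rfl, tab5 _ _ _ _ (hd 1) (h2 1 0), tab6 _ _ (hd 1) (h2 1 1), rfl,
      tab5 _ _ _ _ (hd 2) (h2 2 0), tab5 _ _ _ _ (hd 2) (h2 2 1), tab6 _ _ (hd 2) (h2 2 2)]
  refine ⟨fun x y hx hy hx3 hy3 => e.injective ?_, ?_⟩
  · have h2 := congrArg e hx3
    have h3 := congrArg e hy3
    rw [map_mul, map_mul, map_neg, h1 x hx] at h2
    rw [map_mul, map_mul, map_neg, h1 y hy] at h3
    simp only [map_mul]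
    rw [h1 x hx, h1 y hy]
    exact tab3 _ _ _ (hd 0) (hd 1) (hd 2) _ _ _ h2 _ _ _ h3
  · obtain ⟨a, b, c, h2, h3, h4⟩ := tab4 _ _ _ (hd 0) (hd 1) (hd 2)
    have h5 : ![d 0, d 1, d 2] = d := by
      ext i
      fin_cases i <;> rfl
    rw [h5] at h3
    refine ⟨e.symm (sk (d 0) (d 1) (d 2) a b c), (he _).2 (by rwa [e.apply_symm_apply]), e.injective ?_,
      not_cen e (z := !![0, 1, 0; 0, 0, 1; 0, 0, 0]) ?_⟩
    · rwa [map_mul, map_mul, map_neg, e.apply_symm_apply]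
    · rwa [map_mul, e.apply_symm_apply]

end EX

/-- **[X]** -/
theorem boxX : BoxX := fun _ _ _ _ _ _ _ _ => ⟨EX.o2, fun _ => EX.sp2, EX.o3⟩

end Cfsg.Agent.N2C.TenSO
end

-- part: N2/Cl/TenSO/Main
section
/-!
# N2 (S3519), tensor decompositions in symplectic and orthogonal groups (helper92)
-/

set_option autoImplicit false

namespace Cfsg.Agent.N2C

theorem TenSO.bx : TenSO.Bx := ⟨TenSO.boxUSp, TenSO.boxUO, TenSO.boxSSp, TenSO.boxLW, TenSO.boxZO, TenSO.boxX⟩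

/-- **symplectic groups, tensor decompositions** -/
theorem tenSp : OnSp 3 pTen := TenSO.tenSp_of TenSO.bx

/-- **orthogonal groups, tensor decompositions** -/
theorem tenO : OnO pTen := TenSO.tenO_of TenSO.bx

end Cfsg.Agent.N2C
end

private theorem dce_e68b57b098dd : _root_.True := by
  try have : _root_.True := by simp only [_root_.Cfsg.Agent.N2C.TenSO.El.congr_simp]
  try have : _root_.True := by simp only [_root_.Cfsg.Agent.N2C.Cyc.cS.eq_1]
  exact _root_.True.intro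
end

-- part: N2/D4m/FixD
section
prune_inst 0x356061445d6200000000809463201c66fa000592004804000c800c040d88ee404dc00861b5b0211118aa0105483d0048110000900260000004000000011a01800028100680480100000090000004000000000000000000000000000000000004000000000
set_option linter.all false
open scoped Cfsg.Agent.FastGrp

/-!
# N2, dimension four: the classes `pNS`, `pFix` (helper60)
-/

set_option autoImplicit false
set_option linter.unusedSectionVars false

namespace Cfsg.Agent.N2C.N4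

open Cfsg Cfsg.Agent.DS.Cl Cfsg.Agent.DS.Cl.Fwd Module Submodule
open Cfsg.Agent.TH.Cl (KL KU KSp)
open Cfsg.Agent.TH.Cl.Cases (ns_max L_eq_LR tv_U)
open Cfsg.Agent.TH.Cl.Big (b_swap_zero det_qr)
open Cfsg.Agent.SB.Tor (qr ap_qr tau_self)
open Cfsg.Agent.N2.C1

namespace FxD

variable {K V : Type} [Field K] [Fintype K] [AddCommGroup V] [Module K V] [Finite V] {h : HF K V} {F : FR h.EB}
  {q : ℕ} {H : Subgroup (RingAut h.EB)} {W : Submodule K V}

/-- a scalar of norm one which is not `1`, `-1` -/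
theorem exists_mu (k : KU h F q) (hq : 2 ≤ q) : ∃ μ : K, μ * h.τ μ = 1 ∧ μ ≠ 1 ∧ μ ≠ -1 := by
  by_contra hcon
  push Not at hcon
  have := Cyc.nontrivial_of_dim (K := K) (V := V) (by have := k.dim; omega)
  have h1 : Nat.card (Cyc.ZI F) ≤ Nat.card Bool := by
    classical
    refine Nat.card_le_card_of_injective (fun z => decide (z = 1)) fun z z' e => ?_
    have key : ∀ z : Cyc.ZI F, z ≠ 1 → z.1 = Cyc.scU h (-1) := fun z hz => by
      obtain ⟨c, h2, h3⟩ := Cyc.exists_sc_ZI z.2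
      rw [h2, show c = -1 from Units.ext (hcon c h3 fun h4 => hz (Subtype.ext (by
        rw [h2, show c = 1 from Units.ext h4, map_one]; rfl)))]
    by_cases h2 : z = 1
    · rw [h2, eq_comm]
      simpa [h2] using e
    · exact Subtype.ext ((key z h2).trans (key z' (by simpa [h2] using e)).symm)
  have h2 := Cyc.card_ZI_U k
  rw [Nat.card_eq_fintype_card (α := Bool), Fintype.card_bool] at h1
  omega

/-- `diag (μ, μ⁻¹, 1, …, 1)` -/
theorem exists_diag (k : KU h F q) (hq : 2 ≤ q) {x y : V} (hx : h.b x x ≠ 0) (hy : h.b y y ≠ 0) (hxy : h.b y x = 0) :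
    ∃ μ κ κ' : K, μ ≠ 0 ∧ μ ≠ 1 ∧ μ ≠ -1 ∧ κ * h.b x x = 1 - μ ∧ κ' * h.b y y = 1 - μ⁻¹ ∧
      ∃ d ∈ (⁅F.Iso, F.Iso⁆ : Subgroup h.EBˣ), ∀ v, h.ap d v = v - (κ * h.b v x) • x - (κ' * h.b v y) • y := by
  obtain ⟨μ, h1, h2, h3⟩ := exists_mu k hq
  have h0 : μ ≠ 0 := left_ne_zero_of_mul_eq_one h1
  have key : ∀ (ν : K) (v : V), ν * h.τ ν = 1 → h.b v v ≠ 0 → ∃ u ∈ F.Iso, (u : h.EB) = qr h ((1 - ν) / h.b v v) v :=
    fun ν v a1 a2 => tv_U k.u k.L (by
      rw [map_div₀, map_sub, map_one, tau_self k.u.1]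
      field_simp
      linear_combination -a1)
  obtain ⟨r, hr, hr'⟩ := key μ x h1 hx
  obtain ⟨s, hs, hs'⟩ := key μ⁻¹ y (by rw [map_inv₀, ← mul_inv, h1, inv_one]) hy
  refine ⟨μ, _, _, h0, h2, h3, div_mul_cancel₀ _ hx, div_mul_cancel₀ _ hy, r * s, k.mem_comm (mul_mem hr hs) ?_,
    fun v => ?_⟩
  · change LinearMap.det (h.ap r * h.ap s) = 1
    rw [map_mul, hr', hs', det_qr, det_qr, div_mul_cancel₀ _ hx, div_mul_cancel₀ _ hy, sub_sub_cancel, sub_sub_cancel,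
      mul_inv_cancel₀ h0]
  · rw [Units.val_mul, h.ap_mul, hr', hs', ap_qr, ap_qr, h.sub_left, h.smul_left, hxy, mul_zero, sub_zero, sub_right_comm]

theorem eq_one_of_nl {T : End K V} {Y : Submodule K V} (n : Nl (T - 1) Y) {w : V} (hw : w ∈ Y) (h0 : w ≠ 0) {c : K}
    (e : T w = c • w) : c = 1 := by
  obtain ⟨N, hN⟩ := n
  have h1 : ∀ m : ℕ, ((T - 1) ^ m) w = (c - 1) ^ m • w := fun m => by
    induction m with
    | zero => simp
    | succ m ih => rw [pow_succ', End.mul_apply, ih, map_smul, LinearMap.sub_apply, e, End.one_apply, pow_succ,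
        mul_smul, sub_smul, one_smul]
  have h2 := hN w hw
  rw [h1, smul_eq_zero, or_iff_left h0] at h2
  exact sub_eq_zero.1 (eq_zero_of_pow_eq_zero h2)

/-- a non-singular point of `U₄(q)` -/
theorem gd_pt (k : KU h F q) (hn : finrank K V = 4) (hq : 3 ≤ q) (f : Fx F H W) (h1 : finrank K W = 1) : Gd F H := by
  have d0 := f.nd.dim
  obtain ⟨x, hx, hxx⟩ := u_aniso k.u f.nd f.pos
  obtain ⟨y, hy, hyy⟩ := u_val k.u f.nd.perp (by omega) x
  have hyx : h.b y x = 0 := hy x hx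
  have hy0 : h.b y y ≠ 0 := hyy ▸ neg_ne_zero.2 hxx
  have hs := b_add_self hyx hyy
  obtain ⟨I, ι, a1, a2, a3⟩ := orb_one (F := F) f.nd hx hy hxx hs (u_eich k hs)
  obtain ⟨μ, κ, κ', m0, m1, m2, e1, e2, d, hd, hd'⟩ := exists_diag k (by omega) hxx hy0 hyx
  have o : K ∙ y ≤ pp h (K ∙ x) := (span_singleton_le_iff_mem _ _).2 (mem_pp_one.2 hyx)
  have nP : ND h (K ∙ x ⊔ K ∙ y) := (nd_one hxx).sup (nd_one hy0) (le_pp_comm o)
  have dP := (nd_one hxx).sup_dim o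
  have d1 := nP.dim
  rw [finrank_span_singleton (ne_of_b hxx), finrank_span_singleton (ne_of_b hy0)] at dP
  obtain ⟨u, hu, r⟩ := u_rg k nP.perp (by omega)
  have px : x ∈ K ∙ x ⊔ K ∙ y := mem_sup_left (mem_span_singleton_self x)
  have py : y ∈ K ∙ x ⊔ K ∙ y := mem_sup_right (mem_span_singleton_self y)
  have gx : h.ap (d * u : h.EBˣ) x = μ • x := by
    rw [Units.val_mul, h.ap_mul, r.fix x (le_pp_pp px), hd', e1, b_swap_zero hyx, mul_zero, zero_smul, sub_zero,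
      sub_smul, one_smul, sub_sub_cancel]
  have gy : h.ap (d * u : h.EBˣ) y = μ⁻¹ • y := by
    rw [Units.val_mul, h.ap_mul, r.fix y (le_pp_pp py), hd', e2, hyx, mul_zero, zero_smul, sub_zero,
      sub_smul, one_smul, sub_sub_cancel]
  have iu := r.sb.iv.of_sub_one
  have gw : ∀ w ∈ pp h (K ∙ x ⊔ K ∙ y), h.ap (d * u : h.EBˣ) w = h.ap u w := fun w hw => by
    rw [Units.val_mul, h.ap_mul, hd', iu w hw x px, iu w hw y py, mul_zero, mul_zero, zero_smul, zero_smul, sub_zero,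
      sub_zero]
  have pt : ∀ {Z : Submodule K V} {z : V}, finrank K Z = 1 → z ∈ Z → z ≠ 0 → Z = K ∙ z := fun dZ hz z0 =>
    (eq_of_le_of_finrank_le ((span_singleton_le_iff_mem _ _).2 hz) (by rw [finrank_span_singleton z0, dZ])).symm
  refine f.gd (J := Fin 3) (mul_mem hd hu) (fun v hv => ?_)
    ![K ∙ x, K ∙ y, LinearMap.ker (h.ap u - 1) ⊓ pp h (K ∙ x ⊔ K ∙ y)] (fun Z _ dZ i => ?_) ι a1 a2 (le_trans ?_ a3)
  · obtain ⟨c, rfl⟩ := mem_span_singleton.1 ((pt h1 hx (ne_of_b hxx)).le hv)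
    rw [map_smul, gx]
    exact W.smul_mem _ (W.smul_mem _ hx)
  · rw [h1] at dZ
    obtain ⟨z, hz, z0⟩ := exists_mem_ne (X := Z) (by omega)
    obtain ⟨c, hc⟩ := mem_span_singleton.1 ((pt dZ hz z0).le (i z hz))
    obtain ⟨_, hv, w, hw, rfl⟩ := nP.split z
    obtain ⟨_, hv1, _, hv2, rfl⟩ := mem_sup.1 hv
    obtain ⟨a, rfl⟩ := mem_span_singleton.1 hv1
    obtain ⟨b, rfl⟩ := mem_span_singleton.1 hv2
    rw [map_add, map_add, map_smul, map_smul, gx, gy, gw w hw] at hc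
    have b1 := congrArg (h.b · x) hc
    have b2 := congrArg (h.b · y) hc
    simp only [h.add_left, h.smul_left, hyx, b_swap_zero hyx, hw x px, hw y py, iu w hw x px, iu w hw y py, mul_zero,
      add_zero, zero_add, ← mul_assoc, mul_left_inj' hxx, mul_left_inj' hy0] at b1 b2
    have b3 : h.ap u w = c • w := by
      rw [smul_add, smul_add, smul_smul, smul_smul, smul_smul, smul_smul, b1, b2, add_right_inj] at hc
      exact hc.symm
    by_cases w0 : w = 0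
    · subst w0
      by_cases a0 : a = 0
      · subst a0
        rw [zero_smul, zero_add, add_zero] at hz z0
        exact ⟨1, Or.inl ((pt dZ hz z0).trans (span_singleton_smul_eq (left_ne_zero_of_smul z0).isUnit y))⟩
      · have b0 : b = 0 := by
          by_contra b0
          have c1 : c = μ := mul_right_cancel₀ a0 (b1.trans (mul_comm _ _))
          have c2 : c = μ⁻¹ := mul_right_cancel₀ b0 (b2.trans (mul_comm _ _))
          exact (mul_self_eq_one_iff.1 (by rw [← mul_inv_cancel₀ m0, ← c2, c1])).elim m1 m2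
        subst b0
        rw [zero_smul, add_zero, add_zero] at hz z0
        exact ⟨0, Or.inl ((pt dZ hz z0).trans (span_singleton_smul_eq (left_ne_zero_of_smul z0).isUnit x))⟩
    · obtain rfl := eq_one_of_nl r.sb.nl hw w0 b3
      have a0 : a = 0 := by
        by_contra a0
        exact m1 (mul_left_cancel₀ a0 (by rw [← b1, mul_comm]))
      have b0 : b = 0 := by
        by_contra b0
        exact m1 (inv_eq_one.1 (mul_left_cancel₀ b0 (by rw [← b2, mul_comm])))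
      subst a0 b0
      rw [zero_smul, zero_smul, zero_add, zero_add] at hz
      refine ⟨2, Or.inl (eq_of_le_of_finrank_le ?_ (r.sb.ker.trans dZ.ge))⟩
      rw [pt dZ hz w0, span_singleton_le_iff_mem]
      exact ⟨sub_eq_zero.2 (b3.trans (one_smul _ _)), hw⟩
  · rw [hn, Nat.card_eq_fintype_card (α := K), k.card, Nat.card_eq_fintype_card, Fintype.card_fin]
    exact le_trans (by norm_num) (Nat.pow_le_pow_left (Nat.pow_le_pow_left hq 2) 2)

end FxD

/-- **[NS]** -/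
theorem ns : At pNS :=
  ⟨fun _ _ _ F _ _ _ _ _ h => (ns_max (L_eq_LR F) h).elim,
    fun _ _ _ _ _ _ _ _ _ _ _ _ k _ _ _ _ h => (ns_max k.L h).elim,
    fun _ _ _ _ _ _ _ _ _ _ _ k _ _ h => (ns_max k.sp.2.2 h).elim⟩

theorem fixL : AtL pFix := fun K _ _ F H p k _ c h => fixL3 K 4 F H p k (by omega) c h

theorem fixU : AtU pFix := fun K _ _ _ _ _ _ _ _ _ _ _ k hn hq _ c hD => by
  obtain ⟨W, f⟩ := exists_fx c hD
  by_cases h2 : 2 ≤ finrank K W
  · exact gd_U k f (Or.inl h2)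
  · exact FxD.gd_pt k hn hq f (by have := f.pos; omega)

theorem fixS : AtS pFix := AtS.of_on fixSp2

/-- **[Fix]** -/
theorem fix : At pFix := ⟨fixL, fixU, fixS⟩

end Cfsg.Agent.N2C.N4
end

-- part: N2/D4m/ExtA
section
prune_inst 0x156065445d6202000018858671201c468e000590002b0400bd000e40078eff60e8852f61f420190010aa034540350048110000804040000004000400011901a0808a50068208a90406000f801887180c00000000000000000000000000041004000000000
set_option linter.all false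
open scoped Cfsg.Agent.FastGrp

/-!
# N2 (S3519), class `pExt4`: five anticommuting lifts, the element of order five (helper22)
-/

set_option autoImplicit false
set_option linter.unusedSectionVars false

namespace Cfsg.Agent.N2C.Ext

open Cfsg.Agent.DS.Cl Cfsg.Agent.DS.Cl.Fwd Cfsg.Agent.SB.Cl Cfsg.Agent.TH.Cl.Ext

section groups

open Subgroup

variable {T : Type*} [Group T] [Finite T]

/-- a Sylow subgroup of order five of `B` which is inverted in `B` -/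
theorem fx_five {B : Subgroup T} {a w : T} (ha : a ∈ B) (hw : w ∈ B) (h1 : a ≠ 1) (h5 : a ^ 5 = 1)
    (e : w * a * w⁻¹ = a⁻¹) (hB : ¬ 25 ∣ Nat.card B) : FP3.fx B a * 10 ≤ 4 * N2.cn a := by
  have : Fact (Nat.Prime 5) := ⟨Nat.prime_five⟩
  have h2 : Nat.card (zpowers a) = 5 := (Nat.card_zpowers a).trans (orderOf_eq_prime h5 h1)
  have hR := zpowers_le.2 ha
  have h3 := N2.fs_sylow Nat.prime_five hR (IsPGroup.of_card (n := 1) h2) fun h => hB (by
    rw [← ((zpowers a).subgroupOf B).index_mul_card, Nat.card_congr (subgroupOfEquivOfLe hR).toEquiv, h2]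
    exact Nat.mul_dvd_mul_right h 5)
  have h4 : zpowers a ≤ normalizer (zpowers a : Set T) ⊓ B := le_inf le_normalizer hR
  have h6 : w ∈ normalizer (zpowers a : Set T) ⊓ B := ⟨mem_normalizer_fintype (by
    rintro _ ⟨i, rfl⟩
    exact ⟨-i, by simp only [← conj_zpow, e, inv_zpow, zpow_neg]⟩), hw⟩
  have h7 : ¬ Nat.card ↥(normalizer (zpowers a : Set T) ⊓ B) ≤ 5 := fun h => h1 (by
    obtain ⟨i, rfl⟩ := (eq_of_le_of_card_ge h4 (h2 ▸ h)).ge h6
    rw [← (Commute.self_zpow a i).eq, mul_inv_cancel_right, eq_inv_iff_mul_eq_one, ← pow_two] at e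
    exact (pow_eq_one_iff_of_coprime (show Nat.Coprime 2 5 by norm_num)).1 ⟨e, h5⟩)
  have h8 := h2 ▸ card_dvd_of_le h4
  refine le_trans (Nat.mul_le_mul (N2.fx_le_fs B le_rfl) (by omega)) (h3.le.trans (N4.card_norm_le ?_))
  refine le_trans (Set.ncard_le_ncard (t := (zpowers a : Set T) \ {1}) fun y hy => ⟨hy.1, fun e => h1 ?_⟩) ?_
  · exact isConj_one_left.1 ((show y = 1 from e) ▸ hy.2)
  · rw [Set.ncard_sdiff_singleton_of_mem (one_mem _), ← Nat.card_coe_set_eq]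
    exact (congrArg (· - 1) h2).le

end groups

variable {A : Type} [Ring A] [StarRing A] [Finite A]

/-- dividing by a central `2`-group -/
theorem cn_mul_two {F : FR A} {u z : Aˣ} (hu : u ∈ Cyc.I0 F) (h5 : ((u ^ 5 : Aˣ) : A) ∈ Subring.center A) (hz : z ∈ Cyc.ZI F)
    {n : ℕ} (h1 : ¬ z ^ 2 ^ n = 1) (h2 : z ^ 2 ^ (n + 1) = 1) : N2.cn (Cyc.el hu) * 2 ^ (n + 1) ≤ Cyc.cO F u := by
  let C : Subgroup Aˣ :=
    { carrier := {z | z ∈ Cyc.ZI F ∧ z ^ 5 = 1}
      one_mem' := ⟨one_mem _, one_pow _⟩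
      mul_mem' := fun {a b} ha hb => ⟨mul_mem ha.1 hb.1, by
        rw [Commute.mul_pow (Units.ext (Cyc.ZI_comm ha.1 b)), ha.2, hb.2, one_mul]⟩
      inv_mem' := fun ha => ⟨inv_mem ha.1, by rw [inv_pow, ha.2, inv_one]⟩ }
  have h3 := Cyc.cn_mul_le hu (k := Nat.card C) (Nat.card_le_card_of_injective (fun x => ⟨x.1, x.2.1, by
    obtain ⟨v, -, e⟩ := x.2.2
    have h4 : (x.1 * u) ^ 5 = u ^ 5 := by
      rw [show x.1 * u = v * u * v⁻¹ by rw [e, mul_inv_cancel_right], conj_pow, mul_inv_eq_iff_eq_mul]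
      exact Units.ext (cen_comm h5 v)
    rwa [Commute.mul_pow (Units.ext (Cyc.ZI_comm x.2.1 u)), mul_eq_right] at h4⟩)
    fun _ _ e => Subtype.ext (Subtype.mk.inj e))
  have h4 := card_mul_le_of_disj (C := C) (fun _ h => h.1) (Subgroup.zpowers_le.2 hz) fun ν hν h =>
    (pow_eq_one_iff_of_coprime (Nat.Coprime.pow_right (n + 1) (show Nat.Coprime 5 2 by norm_num))).1 ⟨h.2, by
      obtain ⟨i, rfl⟩ := hν
      rw [← zpow_natCast, ← zpow_mul, mul_comm, zpow_mul, zpow_natCast, h2, one_zpow]⟩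
  rw [Nat.card_zpowers, orderOf_eq_prime_pow h1 h2] at h4
  refine Nat.le_of_mul_le_mul_left ?_ (Nat.card_pos (α := Cyc.ZI F))
  calc _ = N2.cn (Cyc.el hu) * Nat.card (Cyc.ZI F) * 2 ^ (n + 1) := by ring
    _ ≤ Nat.card C * Cyc.cO F u * 2 ^ (n + 1) := Nat.mul_le_mul_right _ h3
    _ = Nat.card C * 2 ^ (n + 1) * Cyc.cO F u := by ring
    _ ≤ _ := Nat.mul_le_mul_right _ h4

/-- linear groups -/
theorem cU_sq_le {ε g : A} (hε : Eps ε) : Cyc.cU g ^ 2 ≤ Cyc.cA g := by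
  have h1 : ∀ {ε x y : A}, Eps ε → Un x → Un y → ε * x = ε * y → x = y := fun {ε x y} hε hx hy e => by
    have h2 : ε * star x = ε * star y := by
      rw [← mul_one (ε * star x), ← hy.ms, ← hε.comm, mul_assoc, ← mul_assoc ε, ← e, ← mul_assoc, ← mul_assoc,
        hε.comm, mul_assoc ε, hx.sm, mul_one]
    have h3 := congrArg star h2
    rw [star_mul, star_mul, star_star, star_star, hε.st.comm, hε.st.comm] at h3
    rw [hε.split x, e, h3, ← hε.split]
  rw [pow_two, Cyc.cU, ← Nat.card_prod]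
  refine Nat.card_le_card_of_injective (fun x => ⟨ε * x.1 + star ε * x.2, by
    rw [add_mul, mul_add, mul_assoc, mul_assoc, x.1.2.2, x.2.2.2, ← mul_assoc, ← mul_assoc, ← mul_assoc, ← mul_assoc,
      hε.comm, hε.st.comm]⟩) fun x y e => ?_
  have h2 := congrArg (ε * ·) (Subtype.mk.inj e)
  have h3 := congrArg (star ε * ·) (Subtype.mk.inj e)
  simp only [mul_add, ← mul_assoc, hε.idem, hε.ms, hε.sm, hε.st.idem, zero_mul, add_zero, zero_add] at h2 h3
  exact Prod.ext (Subtype.ext (h1 hε x.1.2.1 y.1.2.1 h2)) (Subtype.ext (h1 hε.st x.2.2.1 y.2.2.1 h3))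

/-- the fifteen products -/
def bb (γ : Fin 5 → A) (m : Fin 3) (k : Fin 5) : A := ![γ k, γ k * γ (k + 1), γ k * γ (k + 2)] m

/-- the orbit sums -/
def sm (γ : Fin 5 → A) (m : Fin 3) : A := ∑ k, bb γ m k

/-- five anticommuting lifts -/
structure C5 (N : Subgroup (RingAut A)) (γ : Fin 5 → A) : Prop where
  lf : ∀ k, Lf N (γ k)
  sq : ∀ k, γ k * γ k = 1
  anti : ∀ k l, k ≠ l → γ k * γ l = -(γ l * γ k)
  prod : γ 0 * γ 1 * γ 2 * γ 3 = γ 4
  gen : ∀ u, Lf N u → ∃ c ∈ Subring.center A, Un c ∧ (u = c ∨ ∃ m k, u = c * bb γ m k)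

/-- `x` induces `f` -/
def Rl (γ : Fin 5 → A) (x : A) (f : Fin 5 → Fin 5) : Prop := Un x ∧ ∀ k, ad x (γ k) = γ (f k)

section rl

variable {γ : Fin 5 → A} {x y : A} {f f' : Fin 5 → Fin 5}

theorem Rl.mul (h : Rl γ x f) (h' : Rl γ y f') : Rl γ (x * y) (f ∘ f') :=
  ⟨h.1.mul h'.1, fun k => by rw [ad_mul h.1 h'.1, ra_mul, h'.2, h.2]; rfl⟩

theorem Rl.st (h : Rl γ x f) (e : ∀ k, f (f' k) = k) : Rl γ (star x) f' :=
  ⟨h.1.st, fun k => by rw [ad_star h.1, ← congrArg γ (e k), ← h.2, ra_inv_apply]⟩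

theorem Rl.congr (h : Rl γ x f) (e : ∀ k, f k = f' k) : Rl γ x f' := funext e ▸ h

theorem Rl.ad_bb (h : Rl γ x (· + 1)) (m : Fin 3) (k : Fin 5) : ad x (bb γ m k) = bb γ m (k + 1) := by
  (revert m; simp only [bb, h.2, add_right_comm, _root_.Fin.forall_fin_succ, _root_.Nat.succ_eq_add_one, Nat.reduceAdd, Fin.isValue, _root_.Matrix.cons_val_zero, _root_.Matrix.cons_val_succ, _root_.map_mul, _root_.Matrix.cons_val_fin_one, _root_.implies_true, _root_.and_self])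

theorem Rl.comm_sm (h : Rl γ x (· + 1)) (m : Fin 3) : sm γ m * x = x * sm γ m := by
  rw [eq_comm, ← ad_fix h.1, sm, map_sum]
  exact Fintype.sum_equiv (Equiv.addRight 1) _ _ (h.ad_bb m)

end rl

namespace C5

variable {N : Subgroup (RingAut A)} {γ : Fin 5 → A} (c : C5 N γ)
include c

theorem st (k : Fin 5) : star (γ k) = γ k := (c.lf k).1.star_eq (c.sq k)

theorem lf_bb (m : Fin 3) (k : Fin 5) : Lf N (bb γ m k) := by
  fin_cases m
  exacts [c.lf k, (c.lf k).mul (c.lf _), (c.lf k).mul (c.lf _)]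

theorem sq2 {k l : Fin 5} (h : k ≠ l) : γ k * γ l * (γ k * γ l) = -1 := by
  rw [mul_assoc, ← mul_assoc (γ l), c.anti l k h.symm, neg_mul, mul_assoc, c.sq, mul_one, mul_neg, c.sq]

theorem st_sm0 : star (sm γ 0) = sm γ 0 := by simp [sm, bb, c.st]

theorem st_sm1 : star (sm γ 1) = -sm γ 1 := by
  rw [sm, star_sum, ← Finset.sum_neg_distrib]
  exact Finset.sum_congr rfl fun k _ => star_of_sq (c.lf_bb 1 k).1 (c.sq2 (by revert k; decide))

theorem st_sm2 : star (sm γ 2) = -sm γ 2 := by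
  rw [sm, star_sum, ← Finset.sum_neg_distrib]
  exact Finset.sum_congr rfl fun k _ => star_of_sq (c.lf_bb 2 k).1 (c.sq2 (by revert k; decide))

theorem table : (sm γ 0 * sm γ 0 = 5 ∧ sm γ 1 * sm γ 1 = -5 + (sm γ 0 + sm γ 0) ∧ sm γ 2 * sm γ 2 = -5 - (sm γ 0 + sm γ 0)) ∧
    ∀ m m', sm γ m * sm γ m' = sm γ m' * sm γ m := by
  have h1 : ∀ k x, γ k * (γ k * x) = x := fun k x => by rw [← mul_assoc, c.sq, one_mul]
  have h2 : ∀ k l, k ≠ l → ∀ x, γ k * (γ l * x) = -(γ l * (γ k * x)) := fun k l h x => by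
    rw [← mul_assoc, c.anti k l h, neg_mul, mul_assoc]
  have e0 : sm γ 0 = γ 0 + γ 1 + γ 2 + γ 3 + γ 4 := Fin.sum_univ_five _
  have e1 : sm γ 1 = γ 0 * γ 1 + γ 1 * γ 2 + γ 2 * γ 3 + γ 3 * γ 4 + γ 4 * γ 0 := Fin.sum_univ_five _
  have e2 : sm γ 2 = γ 0 * γ 2 + γ 1 * γ 3 + γ 2 * γ 4 + γ 3 * γ 0 + γ 4 * γ 1 := Fin.sum_univ_five _
  have key : (sm γ 0 * sm γ 0 = 1 + 1 + 1 + 1 + 1 ∧ sm γ 1 * sm γ 1 = -(1 + 1 + 1 + 1 + 1) + (sm γ 0 + sm γ 0) ∧
      sm γ 2 * sm γ 2 = -(1 + 1 + 1 + 1 + 1) - (sm γ 0 + sm γ 0)) ∧ sm γ 0 * sm γ 1 = sm γ 1 * sm γ 0 ∧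
      sm γ 0 * sm γ 2 = sm γ 2 * sm γ 0 ∧ sm γ 1 * sm γ 2 = sm γ 2 * sm γ 1 := by
    rw [e0, e1, e2, ← c.prod]
    simp only [mul_add, add_mul, mul_assoc, mul_neg, neg_mul, neg_neg, mul_one, h1, c.sq, h2 1 0 (by decide),
      h2 2 0 (by decide), h2 3 0 (by decide), h2 2 1 (by decide), h2 3 1 (by decide), h2 3 2 (by decide),
      c.anti 1 0 (by decide), c.anti 2 0 (by decide), c.anti 3 0 (by decide), c.anti 2 1 (by decide),
      c.anti 3 1 (by decide), c.anti 3 2 (by decide)]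
    refine ⟨⟨?_, ?_, ?_⟩, ?_, ?_, ?_⟩ <;> abel
  rw [show (5 : A) = 1 + 1 + 1 + 1 + 1 by norm_num]
  refine ⟨key.1, fun m m' => ?_⟩
  fin_cases m <;> fin_cases m'
  exacts [rfl, key.2.1, key.2.2.1, key.2.1.symm, rfl, key.2.2.2, key.2.2.1.symm, key.2.2.2.symm, rfl]

variable {h : A} (hh : Hf h)
include hh

theorem rl_swap {i j k l : Fin 5} (h1 : i ≠ j) (h2 : k ≠ l) :
    Rl γ (h * ((γ i - γ j) * (γ k - γ l))) (Equiv.swap i j ∘ Equiv.swap k l) := by
  have a1 : ∀ {i j}, i ≠ j → (γ i - γ j) * (γ i - γ j) = 1 + 1 := fun {i j} e => by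
    rw [mul_sub, sub_mul, sub_mul, c.sq, c.sq, c.anti j i e.symm]
    abel
  have a2 : ∀ {i j}, i ≠ j → ∀ m, (γ i - γ j) * γ m = -(γ (Equiv.swap i j m) * (γ i - γ j)) := fun {i j} e m => by
    rw [mul_sub, sub_mul]
    by_cases e1 : m = i
    · rw [e1, Equiv.swap_apply_left, c.sq, c.sq, neg_sub]
    by_cases e2 : m = j
    · rw [e2, Equiv.swap_apply_right, c.sq, c.sq, neg_sub]
    · rw [Equiv.swap_apply_of_ne_of_ne e1 e2, c.anti m i e1, c.anti m j e2]
      abel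
  have a3 : Un (h * ((γ i - γ j) * (γ k - γ l))) := by
    rw [Un, star_mul, star_mul, hh.st, star_sub, star_sub, c.st, c.st, c.st, c.st, cen_comm hh.cen, mul_assoc, hh.out,
      mul_assoc, ← mul_assoc (γ k - γ l), a1 h2, add_mul 1 1, one_mul, mul_add, hh.dbl, a1 h1, hh.dbl]
  refine ⟨a3, fun m => ?_⟩
  rw [ad_apply a3, mul_assoc h, mul_assoc (γ i - γ j), a2 h2, mul_neg, ← mul_assoc (γ i - γ j), a2 h1, neg_mul, neg_neg,
    mul_assoc (γ _), ← hh.out, mul_assoc, a3.ms, mul_one]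
  rfl

theorem ne_comm [Nontrivial A] {k l : Fin 5} (e : k ≠ l) {φ : RingAut A} : φ (γ k) * φ (γ l) ≠ φ (γ l) * φ (γ k) := fun h1 => by
  rw [← map_mul, ← map_mul, φ.injective.eq_iff] at h1
  exact ((c.lf l).mul (c.lf k)).1.isUnit.ne_zero (hh.eq_zero (h1.symm.trans (c.anti k l e)))

theorem ad_inj [Nontrivial A] {k l : Fin 5} (e : ad (γ k) = ad (γ l)) : k = l := by
  by_contra h1
  exact c.ne_comm hh h1 (φ := 1) ((ad_fix (c.lf k).1).1 (e ▸ (ad_fix (c.lf l).1).2 rfl))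

omit hh

theorem comm_N {χ : RingAut A} (h : ∀ k, Commute χ (ad (γ k))) {F : FR A} {r : ℕ} (σ : Sit F N r) :
    ∀ ν ∈ N, χ * ν = ν * χ := fun ν hν => by
  obtain ⟨u, hu, rfl⟩ := σ.exists_lf hν
  obtain ⟨d, d1, d2, rfl | ⟨m, k, rfl⟩⟩ := c.gen u hu
  · rw [ad_cen d1, mul_one, one_mul]
  · rw [ad_mul d2 (c.lf_bb m k).1, ad_cen d1, one_mul]
    fin_cases m
    · exact h k
    all_goals exact (ad_mul (c.lf k).1 (c.lf _).1).symm ▸ (h k).mul_right (h _)

variable {F : FR A} {r : ℕ} (σ : Sit F N r) {x y : A} {f : Fin 5 → Fin 5}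
include σ

theorem norm (h : Rl γ x f) : ∀ ν ∈ N, ad x * ν * (ad x)⁻¹ ∈ N := fun ν hν => by
  obtain ⟨u, hu, rfl⟩ := σ.exists_lf hν
  obtain ⟨d, d1, d2, rfl | ⟨m, k, rfl⟩⟩ := c.gen u hu
  · rw [ad_cen d1, mul_one, mul_inv_cancel]
    exact N.one_mem
  · rw [ad_mul d2 (c.lf_bb m k).1, ad_cen d1, one_mul, conj_ad _ (c.lf_bb m k).1]
    fin_cases m
    · exact (h.2 k).symm ▸ (c.lf _).2
    all_goals exact ((map_mul _ _ _).trans (congrArg₂ _ (h.2 k) (h.2 _))).symm ▸ ((c.lf _).mul (c.lf _)).2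

theorem ad_one' (h : Rl γ x id) : ad x = 1 := (ad_eq_one_iff h.1).2 (σ.cen_of fun u hu => by
  obtain ⟨d, d1, -, rfl | ⟨m, k, rfl⟩⟩ := c.gen u hu
  · exact (cen_comm d1 x).symm
  have h1 : ∀ k, Commute (γ k) x := fun k => ((ad_fix h.1).1 (h.2 k)).symm
  refine (show Commute d x from (cen_comm d1 x).symm).mul_left ?_
  fin_cases m
  exacts [h1 k, (h1 k).mul_left (h1 _), (h1 k).mul_left (h1 _)])

/-- **the centraliser** -/
theorem cen_g (hN : Nat.card N = 16) {g : A} (hg : Rl γ g (· + 1)) (hx : x * g = g * x) :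
    ∃ a : Subring.center A × (Fin 3 → Subring.center A), x = a.1 + ∑ m, a.2 m * sm γ m := by
  let Φ : Subring.center A × (Fin 3 × Fin 5 → Subring.center A) → A := fun a => a.1 + ∑ p, a.2 p * bb γ p.1 p.2
  have h1 : Function.Surjective Φ := σ.ind (fun d d1 u hu => by
      obtain ⟨e, e1, -, rfl | ⟨m, k, rfl⟩⟩ := c.gen u hu
      · exact ⟨(⟨_, mul_mem d1 e1⟩, 0), by simp only [Φ, _root_.Pi.zero_apply, _root_.ZeroMemClass.coe_zero, _root_.MulZeroClass.zero_mul, _root_.Finset.sum_const_zero, _root_.add_zero]⟩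
      · refine ⟨(0, Pi.single (m, k) ⟨_, mul_mem d1 e1⟩), ?_⟩
        simp only [Φ]
        rw [Finset.sum_eq_single (m, k) (fun p _ hp => by rw [Pi.single_eq_of_ne hp]; simp only [_root_.ZeroMemClass.coe_zero, _root_.MulZeroClass.zero_mul]) (by simp only [_root_.Finset.mem_univ, _root_.not_true_eq_false, _root_.Pi.single_eq_same, _root_.IsEmpty.forall_iff]), Pi.single_eq_same]
        simp only [mul_assoc, _root_.ZeroMemClass.coe_zero, _root_.zero_add]) (by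
    rintro _ _ ⟨a, rfl⟩ ⟨b, rfl⟩
    refine ⟨a + b, ?_⟩
    simp only [Φ, Prod.fst_add, Prod.snd_add, Pi.add_apply, Subring.coe_add, add_mul, Finset.sum_add_distrib]
    abel)
  have h2 := (h1.bijective_of_nat_card_le (by
    rw [σ.card_eq, hN, Nat.card_prod, Nat.card_fun, ← pow_succ']; simp only [_root_.Nat.card_eq_fintype_card, _root_.Fintype.card_prod, _root_.Fintype.card_fin, _root_.Nat.reduceMul, _root_.Nat.reduceAdd, _root_.Std.le_refl])).1
  obtain ⟨a, rfl⟩ := h1 x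
  have h3 : ∀ z : Subring.center A, ad g z = z := fun z => (ad_fix hg.1).2 (cen_comm z.2 g)
  have h4 : Φ (a.1, fun p => a.2 (p.1, p.2 + 1)) = Φ a := (ad g).injective (by
    rw [(ad_fix hg.1).2 hx.symm]
    simp only [Φ, map_add, map_sum, map_mul, h3, hg.ad_bb]
    exact congrArg _ (Fintype.sum_equiv ((Equiv.refl _).prodCongr (Equiv.addRight 1)) _ _ fun _ => rfl))
  have h5 : ∀ m k, a.2 (m, k + 1) = a.2 (m, k) := fun m k => congrFun (congrArg Prod.snd (h2 h4)) (m, k)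
  refine ⟨(a.1, fun m => a.2 (m, 0)), congrArg ((a.1 : A) + ·) ?_⟩
  rw [Fintype.sum_prod_type]
  refine Finset.sum_congr rfl fun m _ => ?_
  rw [sm, Finset.mul_sum]
  refine Finset.sum_congr rfl fun k _ => congrArg (fun z : Subring.center A => z * bb γ m k) ?_
  fin_cases k
  exacts [rfl, h5 m 0, (h5 m 1).trans (h5 m 0), (h5 m 2).trans ((h5 m 1).trans (h5 m 0)), (h5 m 4).symm]

theorem isCyc (hN : Nat.card N = 16) {g : A} (hg : Rl γ g (· + 1)) : Cyc.IsCyc g := fun x y hx hy => by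
  obtain ⟨a, rfl⟩ := c.cen_g σ hN hg hx
  obtain ⟨b, rfl⟩ := c.cen_g σ hN hg hy
  have h1 : ∀ (z : Subring.center A) (v : A), Commute (z : A) v := fun z v => (cen_comm z.2 v).symm
  exact (h1 _ _).add_left ((h1 _ _).symm.add_right (Commute.sum_left _ _ _ fun m _ => Commute.sum_right _ _ _ fun m' _ =>
    (h1 _ _).mul_left ((h1 _ _).symm.mul_right (c.table.2 m m'))))

theorem cA_le (hN : Nat.card N = 16) {g : A} (hg : Rl γ g (· + 1)) : Cyc.cA g ≤ Nat.card (Subring.center A) ^ 4 := by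
  choose a ha using fun x : {x : A // x * g = g * x} => c.cen_g σ hN hg x.2
  refine (Nat.card_le_card_of_injective a fun x y e => Subtype.ext (by rw [ha x, ha y, e])).trans ?_
  rw [Nat.card_prod, Nat.card_fun, ← pow_succ']
  simp only [_root_.Nat.card_eq_fintype_card, _root_.Fintype.card_fin, _root_.Nat.reduceAdd, _root_.Std.le_refl]

end C5

end Cfsg.Agent.N2C.Ext

private theorem dce_1d654fc76e7c : _root_.True := by
  try have : _root_.True := by simp only [_root_.Cfsg.Agent.N2C.Ext.bb.eq_1]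
  try have : _root_.True := by simp only [_root_.Cfsg.Agent.N2C.Ext.sm.eq_1]
  exact _root_.True.intro
end
end
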